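import Mathlib
import Cfsg.Agent.OddHalf.D4.FullPair

-- merged: Cfsg.Agent.OddHalf.D4.Bary
section

/-!
# ODD, D4: the barycentre lemma

`Γ` acts on the finite elementary abelian 2-group `A`, `Y ≤ Γ`, `p : A →* A` commutes with `Y`. The product
`bar p` of the conjugates of `p` (over `Γ ⧸ Y`) commutes with `Γ`. If `E ≤ Y` acts freely on `Γ ⧸ Y` minus the
base point and has norm one on `A`, then `bar p = p` on the fixed points of `E`.
-/

set_option autoImplicit false

namespace Cfsg.Agent.OddHalf.D4.Bary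

open Subgroup

section Free

variable {E Ω A : Type*} [Group E] [MulAction E Ω] [CommGroup A] [MulDistribMulAction E A]

/-- The product of an equivariant function over a free finite `E`-set is a product of norms. -/
theorem prod_free [Fintype E] [Fintype Ω] (F : Ω → A) (hF : ∀ s : E, ∀ c : Ω, F (s • c) = s • F c)
    (free : ∀ c : Ω, ∀ s : E, s • c = c → s = 1) (norm : ∀ a : A, ∏ s : E, s • a = 1) :
    ∏ c : Ω, F c = 1 := by
  classical
  rw [← Finset.prod_fiberwise_of_maps_to (s := (Finset.univ : Finset Ω))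
    (t := (Finset.univ : Finset (MulAction.orbitRel.Quotient E Ω)))
    (g := fun c => (Quotient.mk'' c : MulAction.orbitRel.Quotient E Ω)) (fun _ _ => Finset.mem_univ _)]
  apply Finset.prod_eq_one
  intro ω _
  induction ω using Quotient.inductionOn' with
  | h c0 =>
    have key : ∏ c ∈ (Finset.univ : Finset Ω) with (Quotient.mk'' c : MulAction.orbitRel.Quotient E Ω) =
        Quotient.mk'' c0, F c = ∏ s : E, F (s • c0) := by
      symm
      apply Finset.prod_bij (fun s _ => s • c0)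
      · intro s _
        simp only [Finset.mem_filter, Finset.mem_univ, true_and]
        rw [Quotient.eq'']
        exact ⟨s, rfl⟩
      · intro s _ s' _ h
        have h1 : (s'⁻¹ * s) • c0 = c0 := by
          rw [mul_smul, show s • c0 = s' • c0 from h, ← mul_smul, inv_mul_cancel, one_smul]
        have h2 := free _ _ h1
        exact (inv_mul_eq_one.mp h2).symm
      · intro c hc
        simp only [Finset.mem_filter, Finset.mem_univ, true_and] at hc
        rw [Quotient.eq''] at hc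
        obtain ⟨s, hs⟩ := hc
        exact ⟨s, Finset.mem_univ _, hs⟩
      · intro s _
        rfl
    rw [key]
    rw [← norm (F c0)]
    exact Finset.prod_congr rfl fun s _ => hF s c0

end Free

section Main

variable {Γ A : Type*} [Group Γ] [CommGroup A] [MulDistribMulAction Γ A]

/-- The conjugate of `p` attached to a coset. -/
def cp (Y : Subgroup Γ) (p : A →* A) (hp : ∀ y ∈ Y, ∀ a, p (y • a) = y • p a) (a : A) (c : Γ ⧸ Y) : A :=
  Quotient.liftOn' c (fun g => g • p (g⁻¹ • a)) (by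
    intro g h hgh
    rw [QuotientGroup.leftRel_apply] at hgh
    have h1 : h = g * (g⁻¹ * h) := by group
    rw [h1, mul_smul, mul_inv_rev, mul_smul (g⁻¹ * h)⁻¹, hp _ (inv_mem hgh), smul_inv_smul])

theorem cp_mk {Y : Subgroup Γ} {p : A →* A} (hp : ∀ y ∈ Y, ∀ a, p (y • a) = y • p a) (a : A) (g : Γ) :
    cp Y p hp a (g : Γ ⧸ Y) = g • p (g⁻¹ • a) := rfl

theorem cp_smul {Y : Subgroup Γ} {p : A →* A} (hp : ∀ y ∈ Y, ∀ a, p (y • a) = y • p a) (a : A) (x : Γ)
    (c : Γ ⧸ Y) : cp Y p hp (x • a) (x • c) = x • cp Y p hp a c := by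
  induction c using Quotient.inductionOn' with
  | h g =>
    change (x * g) • p ((x * g)⁻¹ • (x • a)) = x • (g • p (g⁻¹ • a))
    rw [mul_smul, mul_inv_rev, mul_smul g⁻¹ x⁻¹, inv_smul_smul]

theorem cp_mul {Y : Subgroup Γ} {p : A →* A} (hp : ∀ y ∈ Y, ∀ a, p (y • a) = y • p a) (a b : A)
    (c : Γ ⧸ Y) : cp Y p hp (a * b) c = cp Y p hp a c * cp Y p hp b c := by
  induction c using Quotient.inductionOn' with
  | h g =>
    change g • p (g⁻¹ • (a * b)) = g • p (g⁻¹ • a) * g • p (g⁻¹ • b)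
    rw [smul_mul', map_mul, smul_mul']

variable [Finite Γ]

/-- The product of all conjugates of `p`. -/
noncomputable def bar (Y : Subgroup Γ) (p : A →* A) (hp : ∀ y ∈ Y, ∀ a, p (y • a) = y • p a) : A →* A :=
  letI := Fintype.ofFinite (Γ ⧸ Y)
  { toFun := fun a => ∏ c : Γ ⧸ Y, cp Y p hp a c
    map_one' := by
      apply Finset.prod_eq_one
      intro c _
      induction c using Quotient.inductionOn' with
      | h g => change g • p (g⁻¹ • (1 : A)) = 1; rw [smul_one, map_one, smul_one]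
    map_mul' := by
      intro a b
      rw [← Finset.prod_mul_distrib]
      exact Finset.prod_congr rfl fun c _ => cp_mul hp a b c }

theorem bar_apply {Y : Subgroup Γ} {p : A →* A} (hp : ∀ y ∈ Y, ∀ a, p (y • a) = y • p a) [Fintype (Γ ⧸ Y)]
    (a : A) : bar Y p hp a = ∏ c : Γ ⧸ Y, cp Y p hp a c := by
  have h : (Fintype.ofFinite (Γ ⧸ Y)) = (inferInstance : Fintype (Γ ⧸ Y)) := Subsingleton.elim _ _
  change (∏ c ∈ @Finset.univ _ (Fintype.ofFinite (Γ ⧸ Y)), cp Y p hp a c) = _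
  rw [h]

theorem bar_smul {Y : Subgroup Γ} {p : A →* A} (hp : ∀ y ∈ Y, ∀ a, p (y • a) = y • p a) (x : Γ) (a : A) :
    bar Y p hp (x • a) = x • bar Y p hp a := by
  classical
  have := Fintype.ofFinite (Γ ⧸ Y)
  rw [bar_apply, bar_apply, Finset.smul_prod']
  refine (Fintype.prod_equiv (MulAction.toPerm x) (fun c => x • cp Y p hp a c)
    (fun c => cp Y p hp (x • a) c) ?_).symm
  intro c
  exact (cp_smul hp a x c).symm

/-- The cosets different from the base point. -/
def off {Y E : Subgroup Γ} (hEY : E ≤ Y) : SubMulAction ↥E (Γ ⧸ Y) where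
  carrier := {c | c ≠ ((1 : Γ) : Γ ⧸ Y)}
  smul_mem' := by
    intro s c hc h
    apply hc
    have h1 : c = (s⁻¹ : ↥E) • (((1 : Γ) : Γ ⧸ Y)) := by rw [← h, inv_smul_smul]
    rw [h1]
    change ((((s⁻¹ : ↥E) : Γ) * 1 : Γ) : Γ ⧸ Y) = ((1 : Γ) : Γ ⧸ Y)
    rw [QuotientGroup.eq]
    simpa using hEY s.2

/-- **The barycentre lemma.** -/
theorem bar_eq {Y E : Subgroup Γ} (hEY : E ≤ Y) {p : A →* A} (hp : ∀ y ∈ Y, ∀ a, p (y • a) = y • p a)
    [Fintype ↥E] (semi : ∀ g : Γ, g ∉ Y → ∀ s ∈ E, g⁻¹ * s * g ∈ Y → s = 1)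
    (norm : ∀ a : A, ∏ s : ↥E, (s : Γ) • a = 1) {a : A} (ha : ∀ s ∈ E, s • a = a) :
    bar Y p hp a = p a := by
  classical
  have := Fintype.ofFinite (Γ ⧸ Y)
  rw [bar_apply, Fintype.prod_eq_mul_prod_subtype_ne _ (((1 : Γ) : Γ ⧸ Y))]
  have h1 : cp Y p hp a ((1 : Γ) : Γ ⧸ Y) = p a := by
    rw [cp_mk]; simp
  rw [h1]
  have h2 : ∏ c : ↥(off hEY), cp Y p hp a (c : Γ ⧸ Y) = 1 := by
    apply prod_free (E := ↥E) (Ω := ↥(off hEY)) (fun c => cp Y p hp a (c : Γ ⧸ Y))
    · intro s c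
      have h3 := cp_smul hp a (s : Γ) (c : Γ ⧸ Y)
      rw [ha s s.2] at h3
      exact h3
    · intro c s hsc
      obtain ⟨c, hc⟩ := c
      induction c using Quotient.inductionOn' with
      | h g =>
        have h4 : (((s : Γ) * g : Γ) : Γ ⧸ Y) = (g : Γ ⧸ Y) := congrArg Subtype.val hsc
        have h5 : g ∉ Y := by
          intro hg
          apply hc
          change (g : Γ ⧸ Y) = ((1 : Γ) : Γ ⧸ Y)
          rw [QuotientGroup.eq]
          simpa using inv_mem hg
        rw [eq_comm, QuotientGroup.eq] at h4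
        have h6 : g⁻¹ * (s : Γ) * g ∈ Y := by simpa [mul_assoc] using h4
        exact Subtype.ext (semi g h5 s s.2 h6)
    · exact norm
  have h3 : ∏ c : {c : Γ ⧸ Y // c ≠ ((1 : Γ) : Γ ⧸ Y)}, cp Y p hp a (c : Γ ⧸ Y) = 1 := by
    refine Eq.trans ?_ h2
    exact @Fintype.prod_equiv {c : Γ ⧸ Y // c ≠ ((1 : Γ) : Γ ⧸ Y)} ↥(off hEY) A _ _ _ (Equiv.refl _) _ _
      fun _ => rfl
  rw [h3, mul_one]

/-- **The contradiction.** `A = V × ker p`, generated by the conjugates of `V`; `E` a 2-group of norm one which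
centralizes `V`: then `p` is injective. -/
theorem ker_eq_bot [Finite A] {Y E : Subgroup Γ} (hEY : E ≤ Y) {p : A →* A}
    (hp : ∀ y ∈ Y, ∀ a, p (y • a) = y • p a) [Fintype ↥E]
    (semi : ∀ g : Γ, g ∉ Y → ∀ s ∈ E, g⁻¹ * s * g ∈ Y → s = 1)
    (norm : ∀ a : A, ∏ s : ↥E, (s : Γ) • a = 1) (h2A : IsPGroup 2 A) (h2E : IsPGroup 2 ↥E)
    (hpp : ∀ a, p (p a) = p a) (hEV : ∀ s ∈ E, ∀ a, s • p a = p a)
    (gen : ∀ H : Subgroup A, (∀ g : Γ, ∀ a, g • p a ∈ H) → H = ⊤) : ∀ a, p a = 1 → a = 1 := by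
  classical
  have hid : ∀ a, bar Y p hp a = a := by
    let H : Subgroup A := (bar Y p hp).eqLocus (MonoidHom.id A)
    have hH : H = ⊤ := by
      apply gen
      intro g a
      change bar Y p hp (g • p a) = g • p a
      rw [bar_smul, bar_eq hEY hp semi norm (fun s hs => hEV s hs a), hpp]
    intro a
    have : a ∈ H := by rw [hH]; exact mem_top a
    exact this
  by_contra hne
  push Not at hne
  obtain ⟨a0, ha0, ha01⟩ := hne
  -- `E` acts on the kernel of `p`
  let K : Subgroup A := p.ker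
  have hK : ∀ s ∈ E, ∀ a ∈ K, s • a ∈ K := by
    intro s hs a ha
    rw [MonoidHom.mem_ker] at ha ⊢
    rw [hp s (hEY hs), ha, smul_one]
  letI : MulAction ↥E ↥K :=
    { smul := fun s a => ⟨(s : Γ) • (a : A), hK s s.2 a a.2⟩
      one_smul := fun a => Subtype.ext (one_smul _ _)
      mul_smul := fun s t a => Subtype.ext (mul_smul _ _ _) }
  haveI : Nontrivial ↥K := ⟨⟨⟨a0, ha0⟩, 1, fun h => ha01 (congrArg Subtype.val h)⟩⟩
  have hKp : IsPGroup 2 ↥K := h2A.to_subgroup K
  have hdvd : 2 ∣ Nat.card ↥K := by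
    obtain ⟨n, hn, hn'⟩ := hKp.nontrivial_iff_card.mp inferInstance
    rw [hn']
    exact dvd_pow_self 2 hn.ne'
  have h1 : (1 : ↥K) ∈ MulAction.fixedPoints ↥E ↥K := by
    intro s
    exact Subtype.ext (smul_one _)
  obtain ⟨b, hb, hb1⟩ := h2E.exists_fixed_point_of_prime_dvd_card_of_fixed_point ↥K hdvd h1
  apply hb1
  have h3 : ∀ s ∈ E, s • (b : A) = b := fun s hs => congrArg Subtype.val (hb ⟨s, hs⟩)
  have h4 := bar_eq hEY hp semi norm h3
  rw [hid] at h4
  have h5 : p (b : A) = 1 := b.2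
  rw [h5] at h4
  exact (Subtype.ext h4).symm

end Main

end Cfsg.Agent.OddHalf.D4.Bary

end

-- merged: Cfsg.Agent.OddHalf.D4.BaryEnd
section

/-!
# ODD, D4: the barycentre lemma for a maximal 2-subgroup

`K` tight, `E` maximal with `N(E) ≰ N(K)`, `E` containing a Sylow 2-subgroup of `C(K)`; every conjugate of
`V₀ = Ω₁(Z(E)) ∩ C(K)` under `N(E)` acts on `K` by inner automorphisms; `T ≤ N_K(E)` a 2-group, `T ∩ E = 1`, with
vanishing four-group traces on `V = ⟨V₀^n⟩`: contradiction.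
-/

set_option autoImplicit false

namespace Cfsg.Agent.OddHalf.D4.BaryEnd

open Cfsg Subgroup Cfsg.Agent.OddHalf.D4 Cfsg.Agent.OddHalf.D4.Basic
open Cfsg.Agent.OddHalf.D4.CommConj (Tight MaxE cj mem_cj mem_cj_mul exists_central_involution)

/-! ### Norms -/

/-- the trace over `Y` vanishes if it does over a four-group -/
theorem prod_smul_eq_one {Y V : Type*} [Group Y] [CommGroup V] [MulDistribMulAction Y V] [Fintype Y] {a b : Y}
    (ha : a * a = 1) (hb : b * b = 1) (hab : a * b = b * a) (ha1 : a ≠ 1) (hb1 : b ≠ 1) (hne : a ≠ b) {v : V}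
    (h : v * a • v * b • v * (a * b) • v = 1) : ∏ y : Y, y • v = 1 := by
  classical
  let A : Subgroup Y :=
    { carrier := {x | x = 1 ∨ x = a ∨ x = b ∨ x = a * b}
      one_mem' := Or.inl rfl
      mul_mem' := by
        have e1 : a * (a * b) = b := by rw [← mul_assoc, ha, one_mul]
        have e2 : b * (a * b) = a := by rw [← mul_assoc, ← hab, mul_assoc, hb, mul_one]
        have e3 : a * b * a = b := by rw [hab, mul_assoc, ha, mul_one]
        have e4 : a * b * b = a := by rw [mul_assoc, hb, mul_one]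
        have e5 : a * b * (a * b) = 1 := by rw [mul_assoc, e2, ha]
        rintro x y (rfl | rfl | rfl | rfl) (rfl | rfl | rfl | rfl)
        all_goals simp [ha, hb, hab.symm, e1, e2, e3, e4, e5]
      inv_mem' := by
        have e1 : a⁻¹ = a := inv_eq_of_mul_eq_one_right ha
        have e2 : b⁻¹ = b := inv_eq_of_mul_eq_one_right hb
        rintro x (rfl | rfl | rfl | rfl)
        · simp
        · simp [e1]
        · simp [e2]
        · simp [e1, e2, hab.symm] }
  have hmem : ∀ x : Y, x ∈ ({1, a, b, a * b} : Finset Y) ↔ x ∈ A := by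
    intro x
    simp only [Finset.mem_insert, Finset.mem_singleton]
    exact Iff.rfl
  have hA : ∏ x : ↥A, (x : Y) • v = 1 := by
    rw [← Finset.prod_subtype ({1, a, b, a * b} : Finset Y) hmem (fun x => x • v)]
    have hab1 : (1 : Y) ≠ a * b := by
      intro h1
      apply hne
      calc a = a * (b * b) := by rw [hb, mul_one]
        _ = (a * b) * b := by group
        _ = b := by rw [← h1, one_mul]
    have h2 : a ≠ a * b := fun h1 => hb1 (mul_left_cancel (a := a) (by rw [← h1, mul_one]))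
    have h3 : b ≠ a * b := fun h1 => ha1 (mul_right_cancel (b := b) (by rw [← h1, one_mul]))
    rw [Finset.prod_insert (by simp [ha1.symm, hb1.symm, hab1]), Finset.prod_insert (by simp [hne, h2]),
      Finset.prod_insert (by simp [h3]), Finset.prod_singleton, one_smul, ← mul_assoc, ← mul_assoc]
    exact h
  rw [← Finset.prod_fiberwise (s := Finset.univ) (g := fun y : Y => (y : Y ⧸ A))]
  apply Finset.prod_eq_one
  intro c _
  have h1 : ∏ a : ↥A, (c.out * (a : Y)) • v = ∏ y ∈ Finset.univ.filter (fun y : Y => (y : Y ⧸ A) = c), y • v := by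
    refine Finset.prod_bij (fun (a : ↥A) _ => c.out * (a : Y)) ?_ ?_ ?_ ?_
    · intro a _
      rw [Finset.mem_filter]
      refine ⟨Finset.mem_univ _, ?_⟩
      rw [QuotientGroup.mk_mul_of_mem _ a.2]
      exact Quotient.out_eq c
    · intro a _ b _ hab
      exact Subtype.ext (mul_left_cancel hab)
    · intro y hy
      rw [Finset.mem_filter] at hy
      have h2 : c.out⁻¹ * y ∈ A := by
        rw [← QuotientGroup.eq, hy.2]
        exact Quotient.out_eq c
      exact ⟨⟨_, h2⟩, Finset.mem_univ _, by simp⟩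
    · intro a _
      rfl
  rw [← h1]
  simp_rw [mul_smul]
  rw [← Finset.smul_prod', hA, smul_one]

variable {G : Type*} [Group G]

/-- `Ω₁(Z(E)) ∩ C` -/
def omegaZ (E C : Subgroup G) : Subgroup G where
  carrier := {v | v ∈ E ∧ v ∈ C ∧ v * v = 1 ∧ ∀ e ∈ E, e * v = v * e}
  one_mem' := ⟨E.one_mem, C.one_mem, by simp, fun e _ => by simp⟩
  mul_mem' := by
    rintro a b ⟨ha, haC, ha2, hac⟩ ⟨hb, hbC, hb2, hbc⟩
    refine ⟨E.mul_mem ha hb, C.mul_mem haC hbC, ?_, ?_⟩
    · calc a * b * (a * b) = a * (b * a) * b := by group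
        _ = a * (a * b) * b := by rw [hac b hb]
        _ = (a * a) * (b * b) := by group
        _ = 1 := by rw [ha2, hb2, one_mul]
    · intro e he
      calc e * (a * b) = (e * a) * b := by group
        _ = a * (e * b) := by rw [hac e he]; group
        _ = a * b * e := by rw [hbc e he]; group
  inv_mem' := by
    rintro a ⟨ha, haC, ha2, hac⟩
    have h1 : a⁻¹ = a := inv_eq_of_mul_eq_one_right ha2
    rw [Set.mem_setOf_eq, h1]
    exact ⟨ha, haC, ha2, hac⟩

/-- `⟨V₀^n : n ∈ N⟩` -/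
def hull (N V₀ : Subgroup G) : Subgroup G := closure {y | ∃ n ∈ N, ∃ x ∈ V₀, y = n * x * n⁻¹}

theorem hull_cj {N V₀ : Subgroup G} {m v : G} (hm : m ∈ N) (hv : v ∈ hull N V₀) : m * v * m⁻¹ ∈ hull N V₀ := by
  unfold hull at hv ⊢
  induction hv using closure_induction with
  | mem x hx =>
    obtain ⟨a, ha, y, hy, rfl⟩ := hx
    exact subset_closure ⟨m * a, N.mul_mem hm ha, y, hy, by group⟩
  | one => simp
  | mul x y _ _ hx hy =>
    have : m * (x * y) * m⁻¹ = m * x * m⁻¹ * (m * y * m⁻¹) := by group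
    rw [this]; exact mul_mem hx hy
  | inv x _ hx =>
    have : m * x⁻¹ * m⁻¹ = (m * x * m⁻¹)⁻¹ := by group
    rw [this]; exact inv_mem hx

/-- the action by conjugation -/
@[reducible] def conjAct (N V : Subgroup G) (h : ∀ n ∈ N, ∀ v ∈ V, n * v * n⁻¹ ∈ V) :
    MulDistribMulAction ↥N ↥V where
  smul n v := ⟨n * v * (n : G)⁻¹, h n n.2 v v.2⟩
  one_smul v := Subtype.ext (by show (1 : G) * v * (1 : G)⁻¹ = v; group)
  mul_smul m n v := Subtype.ext (by
    show (m : G) * n * v * ((m : G) * n)⁻¹ = m * (n * v * (n : G)⁻¹) * (m : G)⁻¹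
    group)
  smul_mul n v w := Subtype.ext (by
    show (n : G) * (v * w) * (n : G)⁻¹ = n * v * (n : G)⁻¹ * (n * w * (n : G)⁻¹)
    group)
  smul_one n := Subtype.ext (by show (n : G) * (1 : G) * (n : G)⁻¹ = 1; group)

theorem mem_of_syl [Finite G] {C Q : Subgroup G} (hQ : IsSyl Q C) {c : G} (hc : c ∈ C) (hc2 : ∃ k : ℕ, c ^ 2 ^ k = 1)
    (hn : ∀ q ∈ Q, c * q * c⁻¹ ∈ Q) : c ∈ Q := by
  have h1 : IsPGroup 2 ↥(zpowers c) := by
    obtain ⟨k, hk⟩ := hc2
    rw [IsPGroup.iff_card]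
    obtain ⟨m, -, hm⟩ := (Nat.dvd_prime_pow Nat.prime_two).mp (orderOf_dvd_of_pow_eq_one hk)
    exact ⟨m, by rw [Nat.card_zpowers, hm]⟩
  have h2 : zpowers c ≤ normalizer (Q : Set G) := by
    rw [zpowers_le]
    exact mem_normalizer_fintype hn
  exact hQ.max _ (hQ.two.to_sup_of_normal_left' h1 h2) le_sup_left (sup_le hQ.le (by rwa [zpowers_le]))
    (mem_sup_right (mem_zpowers c))

/-- **Barycentres.** -/
theorem maxE_false_inner [Finite G] {K E Q T : Subgroup G}
    (ht : TightAt K) (hcen : ∀ x ∈ K, x ∈ centralizer (K : Set G) → x = 1)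
    (hE : MaxE (centralizer (K : Set G)) (normalizer (K : Set G)) E)
    (hQ : IsSyl Q (centralizer (K : Set G))) (hQE : Q ≤ E)
    (hinn : ∀ n ∈ normalizer (E : Set G), ∀ v ∈ omegaZ E (centralizer (K : Set G)),
      ∃ c ∈ centralizer (K : Set G), ∃ k ∈ K, n * v * n⁻¹ = c * k)
    (hTK : T ≤ K) (hTN : T ≤ normalizer (E : Set G)) (hT2 : IsPGroup 2 ↥T) (hTE : ∀ t ∈ T, t ∈ E → t = 1)
    (htr : ∀ v ∈ hull (normalizer (E : Set G)) (omegaZ E (centralizer (K : Set G))), ∃ a ∈ T, ∃ b ∈ T,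
      a * a = 1 ∧ b * b = 1 ∧ a * b = b * a ∧ a ≠ 1 ∧ b ≠ 1 ∧ a ≠ b ∧
      v * (a * v * a⁻¹) * (b * v * b⁻¹) * (a * b * v * (a * b)⁻¹) = 1) : False := by
  classical
  set N := normalizer (E : Set G) with hN
  set M := normalizer (K : Set G) with hM
  set C := centralizer (K : Set G) with hC
  set V₀ := omegaZ E C with hV₀
  set V := hull N V₀ with hV
  have hcomm : ∀ k ∈ K, ∀ c ∈ C, k * c = c * k := fun k hk c hc => mem_centralizer_iff.mp hc k hk
  have hKM : ∀ m ∈ M, ∀ k ∈ K, m * k * m⁻¹ ∈ K := fun m hm k hk => (mem_normalizer_iff.mp hm k).mp hk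
  have hcjE : ∀ n ∈ N, ∀ x ∈ E, n * x * n⁻¹ ∈ E := fun n hn x hx => (mem_normalizer_iff.mp hn x).mp hx
  -- `V ≤ Ω₁(Z(E))`
  have hVZ : ∀ v ∈ V, v ∈ E ∧ v * v = 1 ∧ ∀ e ∈ E, e * v = v * e := by
    intro v hv
    have h1 : V ≤ omegaZ E ⊤ := by
      rw [hV]
      unfold hull
      rw [closure_le]
      rintro _ ⟨n, hn, x, hx, rfl⟩
      refine ⟨hcjE n hn x hx.1, mem_top _, ?_, ?_⟩
      · calc n * x * n⁻¹ * (n * x * n⁻¹) = n * (x * x) * n⁻¹ := by group
          _ = 1 := by rw [hx.2.2.1]; group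
      · intro e he
        have h1 : n⁻¹ * e * n ∈ E := by
          have := hcjE n⁻¹ (inv_mem hn) e he
          rwa [inv_inv] at this
        have h2 := hx.2.2.2 _ h1
        calc e * (n * x * n⁻¹) = n * (n⁻¹ * e * n * x) * n⁻¹ := by group
          _ = n * (x * (n⁻¹ * e * n)) * n⁻¹ := by rw [h2]
          _ = n * x * n⁻¹ * e := by group
    have h2 := h1 hv
    exact ⟨h2.1, h2.2.2.1, h2.2.2.2⟩
  have hEC : E ⊓ C = Q := le_antisymm (hQ.max _ (hE.isPGroup.to_le inf_le_left) (le_inf hQE hQ.le) inf_le_right)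
    (le_inf hQE hQ.le)
  -- decompositions
  have huniq : ∀ c ∈ C, ∀ k ∈ K, ∀ c' ∈ C, ∀ k' ∈ K, c * k = c' * k' → c = c' := by
    intro c hc k hk c' hc' k' hk' h
    have h1 : c'⁻¹ * c = k' * k⁻¹ := by
      calc c'⁻¹ * c = c'⁻¹ * (c * k) * k⁻¹ := by group
        _ = c'⁻¹ * (c' * k') * k⁻¹ := by rw [h]
        _ = k' * k⁻¹ := by group
    have h2 := hcen _ (by rw [h1]; exact mul_mem hk' (inv_mem hk)) (mul_mem (inv_mem hc') hc)
    exact (inv_mul_eq_one.mp h2).symm
  have hdec : ∀ v ∈ V, ∃ c ∈ V₀, ∃ k ∈ K, v = c * k := by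
    intro v hv
    -- first only `c ∈ C`
    have h1 : ∃ c ∈ C, ∃ k ∈ K, v = c * k := by
      have hv' : v ∈ closure {y | ∃ n ∈ N, ∃ x ∈ V₀, y = n * x * n⁻¹} := hv
      induction hv' using closure_induction with
      | mem x hx =>
        obtain ⟨n, hn, y, hy, rfl⟩ := hx
        exact hinn n hn y hy
      | one => exact ⟨1, one_mem _, 1, one_mem _, by simp⟩
      | mul x y hx hy hx' hy' =>
        obtain ⟨c, hc, k, hk, rfl⟩ := hx' hx
        obtain ⟨c', hc', k', hk', rfl⟩ := hy' hy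
        refine ⟨c * c', mul_mem hc hc', k * k', mul_mem hk hk', ?_⟩
        calc c * k * (c' * k') = c * (k * c') * k' := by group
          _ = c * (c' * k) * k' := by rw [hcomm k hk c' hc']
          _ = c * c' * (k * k') := by group
      | inv x hx hx' =>
        obtain ⟨c, hc, k, hk, rfl⟩ := hx' hx
        refine ⟨c⁻¹, inv_mem hc, k⁻¹, inv_mem hk, ?_⟩
        rw [mul_inv_rev, hcomm _ (inv_mem hk) _ (inv_mem hc)]
    obtain ⟨c, hc, k, hk, rfl⟩ := h1
    obtain ⟨hvE, hv2, hvc⟩ := hVZ _ hv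
    have hkc := hcomm k hk c hc
    have hcc : c * c = 1 := by
      have h2 : c * c * (k * k) = 1 := by
        calc c * c * (k * k) = c * (c * k) * k := by group
          _ = c * (k * c) * k := by rw [hkc]
          _ = (c * k) * (c * k) := by group
          _ = 1 := hv2
      exact huniq _ (mul_mem hc hc) _ (mul_mem hk hk) 1 (one_mem _) 1 (one_mem _) (by rw [h2, mul_one])
    have hcE' : ∀ e ∈ E, e * c = c * e := by
      intro e he
      have h2 := hvc e he
      have h3 : e * c * e⁻¹ * (e * k * e⁻¹) = c * k := by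
        calc e * c * e⁻¹ * (e * k * e⁻¹) = e * (c * k) * e⁻¹ := by group
          _ = c * k * e * e⁻¹ := by rw [h2]
          _ = c * k := by group
      have h4 := huniq _ (ht.norm e (hE.le he) c hc) _ (hKM e (hE.le he) k hk) _ hc _ hk h3
      calc e * c = e * c * e⁻¹ * e := by group
        _ = c * e := by rw [h4]
    have hcQ : c ∈ Q := by
      apply mem_of_syl hQ hc ⟨1, by rw [pow_one, pow_two, hcc]⟩
      intro q hq
      rw [← hcE' q (hQE hq)]
      simpa using hq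
    exact ⟨c, ⟨hQE hcQ, hc, hcc, hcE'⟩, k, hk, rfl⟩
  have hV₀V : V₀ ≤ V := fun x hx => subset_closure ⟨1, one_mem _, x, hx, by group⟩
  have hab : ∀ x ∈ V, ∀ y ∈ V, x * y = y * x := fun x hx y hy => (hVZ y hy).2.2 x (hVZ x hx).1
  -- the projection
  choose! pf hpf kf hkf hpk using hdec
  letI hcg : CommGroup ↥V := { (inferInstance : Group ↥V) with mul_comm := fun x y => Subtype.ext (hab x x.2 y y.2) }
  let p : ↥V →* ↥V :=
    { toFun := fun v => ⟨pf v, hV₀V (hpf v v.2)⟩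
      map_one' := Subtype.ext (by
        show pf ((1 : ↥V) : G) = 1
        have h1 := hpk _ (1 : ↥V).2
        exact huniq _ (hpf _ (1 : ↥V).2).2.1 _ (hkf _ (1 : ↥V).2) 1 (one_mem _) 1 (one_mem _)
          (by rw [← h1]; simp))
      map_mul' := fun x y => Subtype.ext (by
        show pf ((x * y : ↥V) : G) = pf x * pf y
        have h1 := hpk _ (x * y).2
        have hx := hpk _ x.2
        have hy := hpk _ y.2
        refine huniq _ (hpf _ (x * y).2).2.1 _ (hkf _ (x * y).2) _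
          (mul_mem (hpf _ x.2).2.1 (hpf _ y.2).2.1) (kf x * kf y) (mul_mem (hkf _ x.2) (hkf _ y.2)) ?_
        rw [← h1]
        show (x : G) * y = _
        conv_lhs => rw [hx, hy]
        calc pf x * kf x * (pf y * kf y) = pf x * (kf x * pf y) * kf y := by group
          _ = pf x * (pf y * kf x) * kf y := by rw [hcomm _ (hkf _ x.2) _ (hpf _ y.2).2.1]
          _ = pf x * pf y * (kf x * kf y) := by group) }
  letI hact : MulDistribMulAction ↥N ↥V := conjAct N V (fun n hn v hv => hull_cj hn hv)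
  have hsmul : ∀ (n : ↥N) (v : ↥V), ((n • v : ↥V) : G) = n * v * (n : G)⁻¹ := fun _ _ => rfl
  have hp : ∀ y ∈ M.subgroupOf N, ∀ a : ↥V, p (y • a) = y • p a := by
    intro y hy a
    have hyM : (y : G) ∈ M := mem_subgroupOf.mp hy
    apply Subtype.ext
    rw [hsmul]
    show pf ((y • a : ↥V) : G) = y * pf a * (y : G)⁻¹
    have h1 := hpk _ (y • a : ↥V).2
    have h2 := hpk _ a.2
    refine huniq _ (hpf _ (y • a : ↥V).2).2.1 _ (hkf _ (y • a : ↥V).2) _
      (ht.norm _ hyM _ (hpf _ a.2).2.1) ((y : G) * kf a * (y : G)⁻¹) (hKM _ hyM _ (hkf _ a.2)) ?_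
    rw [← h1, hsmul]
    conv_lhs => rw [h2]
    group
  have hT : T.subgroupOf N ≤ M.subgroupOf N := by
    intro t ht'
    exact mem_subgroupOf.mpr (le_normalizer (hTK (mem_subgroupOf.mp ht')))
  letI hfT : Fintype ↥(T.subgroupOf N) := Fintype.ofFinite _
  have hT2' : IsPGroup 2 ↥(T.subgroupOf N) := hT2.comap_subtype
  have hpe : ∀ t ∈ T, ∃ k : ℕ, t ^ 2 ^ k = 1 := by
    intro t ht'
    obtain ⟨k, hk⟩ := hT2 ⟨t, ht'⟩
    exact ⟨k, congrArg Subtype.val hk⟩
  have hVp : IsPGroup 2 ↥V := by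
    intro v
    exact ⟨1, Subtype.ext (by
      show (v : G) ^ 2 ^ 1 = 1
      rw [pow_one, pow_two]; exact (hVZ _ v.2).2.1)⟩
  have hfix : ∀ s ∈ T.subgroupOf N, ∀ a : ↥V, s • p a = p a := by
    intro s hs a
    apply Subtype.ext
    rw [hsmul]
    show (s : G) * pf a * (s : G)⁻¹ = pf a
    rw [hcomm _ (hTK (mem_subgroupOf.mp hs)) _ (hpf _ a.2).2.1]
    group
  have hpV₀ : ∀ x (hx : x ∈ V₀), p ⟨x, hV₀V hx⟩ = ⟨x, hV₀V hx⟩ := by
    intro x hx
    apply Subtype.ext
    show pf x = x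
    have h1 := hpk x (hV₀V hx)
    exact huniq _ (hpf _ (hV₀V hx)).2.1 _ (hkf _ (hV₀V hx)) _ hx.2.1 1 (one_mem _) (by rw [← h1, mul_one])
  have key := Bary.ker_eq_bot (Γ := ↥N) (A := ↥V) (Y := M.subgroupOf N) (E := T.subgroupOf N) hT hp (by
      intro g hg s hs hgs
      apply Subtype.ext
      apply hTE _ (mem_subgroupOf.mp hs)
      exact hE.mem_of_conj g.2 (fun h => hg (mem_subgroupOf.mpr h)) s.2 (mem_subgroupOf.mp (hT hs))
        (hpe _ (mem_subgroupOf.mp hs)) (mem_subgroupOf.mp hgs)) (by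
      intro v
      obtain ⟨a, ha, b, hb, ha2, hb2, hab', ha1, hb1, hne, htr'⟩ := htr v v.2
      have haN : a ∈ N := hTN ha
      have hbN : b ∈ N := hTN hb
      let a' : ↥(T.subgroupOf N) := ⟨⟨a, haN⟩, mem_subgroupOf.mpr ha⟩
      let b' : ↥(T.subgroupOf N) := ⟨⟨b, hbN⟩, mem_subgroupOf.mpr hb⟩
      exact prod_smul_eq_one (Y := ↥(T.subgroupOf N)) (V := ↥V) (a := a') (b := b')
        (Subtype.ext (Subtype.ext ha2)) (Subtype.ext (Subtype.ext hb2)) (Subtype.ext (Subtype.ext hab'))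
        (fun h => ha1 (congrArg (fun z : ↥(T.subgroupOf N) => ((z : ↥N) : G)) h))
        (fun h => hb1 (congrArg (fun z : ↥(T.subgroupOf N) => ((z : ↥N) : G)) h))
        (fun h => hne (congrArg (fun z : ↥(T.subgroupOf N) => ((z : ↥N) : G)) h))
        (v := v) (Subtype.ext htr')) hVp hT2' (by
      intro a
      exact hpV₀ _ (hpf _ a.2)) hfix (by
      intro H hH
      rw [Subgroup.eq_top_iff']
      have h1 : V ≤ H.map V.subtype := by
        refine (Subgroup.closure_le (H.map V.subtype)).mpr ?_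
        rintro _ ⟨n, hn, x, hx, rfl⟩
        refine ⟨(⟨n, hn⟩ : ↥N) • p ⟨x, hV₀V hx⟩, hH _ _, ?_⟩
        rw [hpV₀ x hx]
        rfl
      intro v
      obtain ⟨w, hw, hwv⟩ := h1 v.2
      have : w = v := Subtype.ext hwv
      rwa [← this])
  -- conclusion
  obtain ⟨n, hn, hnM⟩ := hE.exists_norm
  obtain ⟨x, hxE, hxC, hx2⟩ := hE.exists_inv
  obtain ⟨z, hzE, hzC, hz2, hzc⟩ := exists_central_involution (S := E) (N := E ⊓ C) hE.isPGroup (by
      intro s hs n hn
      exact mem_inf.mpr ⟨mul_mem (mul_mem hs hn.1) (inv_mem hs), ht.norm s (hE.le hs) n hn.2⟩)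
    ⟨x, hxE, ⟨hxE, hxC⟩, by rintro rfl; rw [orderOf_one] at hx2; exact absurd hx2 (by norm_num)⟩
  have hz : z ∈ V₀ := ⟨hzE, hzC.2, by rw [← pow_two, ← hz2]; exact pow_orderOf_eq_one z, hzc⟩
  have hv : n * z * n⁻¹ ∈ V := hull_cj hn (hV₀V hz)
  -- `p v = v`
  have h1 : p (⟨n * z * n⁻¹, hv⟩ * (p ⟨n * z * n⁻¹, hv⟩)⁻¹) = 1 := by
    rw [map_mul, map_inv]
    have h2 : p (p ⟨n * z * n⁻¹, hv⟩) = p ⟨n * z * n⁻¹, hv⟩ := hpV₀ _ (hpf _ hv)
    rw [h2, mul_inv_cancel]
  have h2 := key _ h1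
  have h3 : n * z * n⁻¹ = pf (n * z * n⁻¹) := by
    have h4 := mul_inv_eq_one.mp h2
    exact congrArg Subtype.val h4
  have h4 : n * z * n⁻¹ ∈ C := by rw [h3]; exact (hpf _ hv).2.1
  exact hnM (ht.tight n z hzC.2 hz2 h4)

end Cfsg.Agent.OddHalf.D4.BaryEnd

end
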