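import Mathlib
import Cfsg.Agent.OddHalf.D4.BaryEnd
import Cfsg.Agent.OddHalf.D4.Line

-- merged: Cfsg.Agent.OddHalf.D4.BaryGen
section

/-!
# ODD, D4: the barycentre lemma, general form

`V₀ ≤ C(K)` elementary abelian, `hull N V₀ = ⟨V₀^n : n ∈ N⟩` abelian, every conjugate of `V₀` in `V₀K`, `T ≤ K ∩ N`
a 2-group, semiregular on the conjugates `≠ V₀`, with vanishing four-group traces: contradiction.
-/

set_option autoImplicit false

namespace Cfsg.Agent.OddHalf.D4.BaryGen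

open Cfsg Subgroup Cfsg.Agent.OddHalf.D4 Cfsg.Agent.OddHalf.D4.Basic Cfsg.Agent.OddHalf.D4.BaryEnd

/-- **Barycentres.** -/
theorem hull_false {G : Type*} [Group G] [Finite G] {K M N V₀ T : Subgroup G}
    (hVK : ∀ x ∈ V₀, ∀ k ∈ K, k * x = x * k)
    (hcen : ∀ x ∈ K, x ∈ centralizer (K : Set G) → x = 1)
    (hKM : ∀ m ∈ M, ∀ k ∈ K, m * k * m⁻¹ ∈ K)
    (hV2 : ∀ v ∈ hull N V₀, v * v = 1)
    (hab : ∀ x ∈ hull N V₀, ∀ y ∈ hull N V₀, x * y = y * x)
    (hVN : ∀ n ∈ N, n ∈ M → ∀ x ∈ V₀, n * x * n⁻¹ ∈ V₀)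
    (hdec0 : ∀ n ∈ N, ∀ v ∈ V₀, ∃ c ∈ V₀, ∃ k ∈ K, n * v * n⁻¹ = c * k)
    (hend : ∃ n ∈ N, ∃ z ∈ V₀, n * z * n⁻¹ ∉ V₀)
    (hTK : T ≤ K) (hTN : T ≤ N) (hTM : T ≤ M) (hT2 : IsPGroup 2 ↥T)
    (semi : ∀ n ∈ N, n ∉ M → ∀ s ∈ T, n⁻¹ * s * n ∈ M → s = 1)
    (htr : ∀ v ∈ hull N V₀, ∃ a ∈ T, ∃ b ∈ T,
      a * a = 1 ∧ b * b = 1 ∧ a * b = b * a ∧ a ≠ 1 ∧ b ≠ 1 ∧ a ≠ b ∧
      v * (a * v * a⁻¹) * (b * v * b⁻¹) * (a * b * v * (a * b)⁻¹) = 1) : False := by
  classical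
  set V := hull N V₀ with hV
  have hcomm : ∀ k ∈ K, ∀ c ∈ V₀, k * c = c * k := fun k hk c hc => hVK c hc k hk
  have hV₀C : ∀ c ∈ V₀, c ∈ centralizer (K : Set G) := fun c hc => mem_centralizer_iff.mpr fun k hk => hcomm k hk c hc
  -- decompositions
  have huniq : ∀ c ∈ V₀, ∀ k ∈ K, ∀ c' ∈ V₀, ∀ k' ∈ K, c * k = c' * k' → c = c' := by
    intro c hc k hk c' hc' k' hk' h
    have h1 : c'⁻¹ * c = k' * k⁻¹ := by
      calc c'⁻¹ * c = c'⁻¹ * (c * k) * k⁻¹ := by group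
        _ = c'⁻¹ * (c' * k') * k⁻¹ := by rw [h]
        _ = k' * k⁻¹ := by group
    have h2 := hcen _ (by rw [h1]; exact mul_mem hk' (inv_mem hk)) (hV₀C _ (mul_mem (inv_mem hc') hc))
    exact (inv_mul_eq_one.mp h2).symm
  have hdec : ∀ v ∈ V, ∃ c ∈ V₀, ∃ k ∈ K, v = c * k := by
    intro v hv
    have hv' : v ∈ closure {y | ∃ n ∈ N, ∃ x ∈ V₀, y = n * x * n⁻¹} := hv
    induction hv' using closure_induction with
    | mem x hx =>
      obtain ⟨n, hn, y, hy, rfl⟩ := hx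
      exact hdec0 n hn y hy
    | one => exact ⟨1, one_mem _, 1, one_mem _, by simp⟩
    | mul x y hx hy hx' hy' =>
      obtain ⟨c, hc, k, hk, rfl⟩ := hx' hx
      obtain ⟨c', hc', k', hk', rfl⟩ := hy' hy
      refine ⟨c * c', mul_mem hc hc', k * k', mul_mem hk hk', ?_⟩
      calc c * k * (c' * k') = c * (k * c') * k' := by group
        _ = c * (c' * k) * k' := by rw [hcomm k hk c' hc']
        _ = c * c' * (k * k') := by group
    | inv x hx hx' =>
      obtain ⟨c, hc, k, hk, rfl⟩ := hx' hx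
      refine ⟨c⁻¹, inv_mem hc, k⁻¹, inv_mem hk, ?_⟩
      rw [mul_inv_rev, hcomm _ (inv_mem hk) _ (inv_mem hc)]
  have hV₀V : V₀ ≤ V := fun x hx => subset_closure ⟨1, one_mem _, x, hx, by group⟩
  -- the projection
  choose! pf hpf kf hkf hpk using hdec
  letI hcg : CommGroup ↥V := { (inferInstance : Group ↥V) with mul_comm := fun x y => Subtype.ext (hab x x.2 y y.2) }
  let p : ↥V →* ↥V :=
    { toFun := fun v => ⟨pf v, hV₀V (hpf v v.2)⟩
      map_one' := Subtype.ext (by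
        show pf ((1 : ↥V) : G) = 1
        have h1 := hpk _ (1 : ↥V).2
        exact huniq _ (hpf _ (1 : ↥V).2) _ (hkf _ (1 : ↥V).2) 1 (one_mem _) 1 (one_mem _)
          (by rw [← h1]; simp))
      map_mul' := fun x y => Subtype.ext (by
        show pf ((x * y : ↥V) : G) = pf x * pf y
        have h1 := hpk _ (x * y).2
        have hx := hpk _ x.2
        have hy := hpk _ y.2
        refine huniq _ (hpf _ (x * y).2) _ (hkf _ (x * y).2) _
          (mul_mem (hpf _ x.2) (hpf _ y.2)) (kf x * kf y) (mul_mem (hkf _ x.2) (hkf _ y.2)) ?_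
        rw [← h1]
        show (x : G) * y = _
        conv_lhs => rw [hx, hy]
        calc pf x * kf x * (pf y * kf y) = pf x * (kf x * pf y) * kf y := by group
          _ = pf x * (pf y * kf x) * kf y := by rw [hcomm _ (hkf _ x.2) _ (hpf _ y.2)]
          _ = pf x * pf y * (kf x * kf y) := by group) }
  letI hact : MulDistribMulAction ↥N ↥V := conjAct N V (fun n hn v hv => hull_cj hn hv)
  have hsmul : ∀ (n : ↥N) (v : ↥V), ((n • v : ↥V) : G) = n * v * (n : G)⁻¹ := fun _ _ => rfl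
  have hp : ∀ y ∈ M.subgroupOf N, ∀ a : ↥V, p (y • a) = y • p a := by
    intro y hy a
    have hyM : (y : G) ∈ M := mem_subgroupOf.mp hy
    apply Subtype.ext
    rw [hsmul]
    show pf ((y • a : ↥V) : G) = y * pf a * (y : G)⁻¹
    have h1 := hpk _ (y • a : ↥V).2
    have h2 := hpk _ a.2
    refine huniq _ (hpf _ (y • a : ↥V).2) _ (hkf _ (y • a : ↥V).2) _
      (hVN _ y.2 hyM _ (hpf _ a.2)) ((y : G) * kf a * (y : G)⁻¹) (hKM _ hyM _ (hkf _ a.2)) ?_
    rw [← h1, hsmul]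
    conv_lhs => rw [h2]
    group
  have hT : T.subgroupOf N ≤ M.subgroupOf N := by
    intro t ht'
    exact mem_subgroupOf.mpr (hTM (mem_subgroupOf.mp ht'))
  letI hfT : Fintype ↥(T.subgroupOf N) := Fintype.ofFinite _
  have hT2' : IsPGroup 2 ↥(T.subgroupOf N) := hT2.comap_subtype
  have hpe : ∀ t ∈ T, ∃ k : ℕ, t ^ 2 ^ k = 1 := by
    intro t ht'
    obtain ⟨k, hk⟩ := hT2 ⟨t, ht'⟩
    exact ⟨k, congrArg Subtype.val hk⟩
  have hVp : IsPGroup 2 ↥V := by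
    intro v
    exact ⟨1, Subtype.ext (by
      show (v : G) ^ 2 ^ 1 = 1
      rw [pow_one, pow_two]; exact hV2 _ v.2)⟩
  have hfix : ∀ s ∈ T.subgroupOf N, ∀ a : ↥V, s • p a = p a := by
    intro s hs a
    apply Subtype.ext
    rw [hsmul]
    show (s : G) * pf a * (s : G)⁻¹ = pf a
    rw [hcomm _ (hTK (mem_subgroupOf.mp hs)) _ (hpf _ a.2)]
    group
  have hpV₀ : ∀ x (hx : x ∈ V₀), p ⟨x, hV₀V hx⟩ = ⟨x, hV₀V hx⟩ := by
    intro x hx
    apply Subtype.ext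
    show pf x = x
    have h1 := hpk x (hV₀V hx)
    exact huniq _ (hpf _ (hV₀V hx)) _ (hkf _ (hV₀V hx)) _ hx 1 (one_mem _) (by rw [← h1, mul_one])
  have key := Bary.ker_eq_bot (Γ := ↥N) (A := ↥V) (Y := M.subgroupOf N) (E := T.subgroupOf N) hT hp (by
      intro g hg s hs hgs
      apply Subtype.ext
      exact semi _ g.2 (fun h => hg (mem_subgroupOf.mpr h)) _ (mem_subgroupOf.mp hs) (mem_subgroupOf.mp hgs)) (by
      intro v
      obtain ⟨a, ha, b, hb, ha2, hb2, hab', ha1, hb1, hne, htr'⟩ := htr v v.2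
      have haN : a ∈ N := hTN ha
      have hbN : b ∈ N := hTN hb
      let a' : ↥(T.subgroupOf N) := ⟨⟨a, haN⟩, mem_subgroupOf.mpr ha⟩
      let b' : ↥(T.subgroupOf N) := ⟨⟨b, hbN⟩, mem_subgroupOf.mpr hb⟩
      exact prod_smul_eq_one (Y := ↥(T.subgroupOf N)) (V := ↥V) (a := a') (b := b')
        (Subtype.ext (Subtype.ext ha2)) (Subtype.ext (Subtype.ext hb2)) (Subtype.ext (Subtype.ext hab'))
        (fun h => ha1 (congrArg (fun z : ↥(T.subgroupOf N) => ((z : ↥N) : G)) h))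
        (fun h => hb1 (congrArg (fun z : ↥(T.subgroupOf N) => ((z : ↥N) : G)) h))
        (fun h => hne (congrArg (fun z : ↥(T.subgroupOf N) => ((z : ↥N) : G)) h))
        (v := v) (Subtype.ext htr')) hVp hT2' (by
      intro a
      exact hpV₀ _ (hpf _ a.2)) hfix (by
      intro H hH
      rw [Subgroup.eq_top_iff']
      have h1 : V ≤ H.map V.subtype := by
        refine (Subgroup.closure_le (H.map V.subtype)).mpr ?_
        rintro _ ⟨n, hn, x, hx, rfl⟩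
        refine ⟨(⟨n, hn⟩ : ↥N) • p ⟨x, hV₀V hx⟩, hH _ _, ?_⟩
        rw [hpV₀ x hx]
        rfl
      intro v
      obtain ⟨w, hw, hwv⟩ := h1 v.2
      have : w = v := Subtype.ext hwv
      rwa [← this])
  -- conclusion
  obtain ⟨n, hn, z, hz, hnz⟩ := hend
  have hv : n * z * n⁻¹ ∈ V := hull_cj hn (hV₀V hz)
  have h1 : p (⟨n * z * n⁻¹, hv⟩ * (p ⟨n * z * n⁻¹, hv⟩)⁻¹) = 1 := by
    rw [map_mul, map_inv]
    have h2 : p (p ⟨n * z * n⁻¹, hv⟩) = p ⟨n * z * n⁻¹, hv⟩ := hpV₀ _ (hpf _ hv)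
    rw [h2, mul_inv_cancel]
  have h2 := key _ h1
  have h3 : n * z * n⁻¹ = pf (n * z * n⁻¹) := by
    have h4 := mul_inv_eq_one.mp h2
    exact congrArg Subtype.val h4
  exact hnz (by rw [h3]; exact hpf _ hv)

end Cfsg.Agent.OddHalf.D4.BaryGen

end

-- merged: Cfsg.Agent.OddHalf.D4.KMax
section

/-!
# ODD, D4: pairs with maximal `K`-part

`KMaxE K F`: `F` is a maximal 2-subgroup with `N(F) ≰ N(K)` (`MaxE`), and `|F ∩ K|` is maximal among all 2-groups
`F' ≤ N(K) ∩ N(K)^g`, `g ∉ N(K)`, with involutions in `C(K)` and `C(K)^g`. Then the fusion arguments work for every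
`E₁ ≤ F` with `E₁ ∩ K = F ∩ K` (instead of `F`).
-/

set_option autoImplicit false

namespace Cfsg.Agent.OddHalf.D4.KMax

open Cfsg Subgroup Cfsg.Agent.OddHalf.D4 Cfsg.Agent.OddHalf.D4.Basic Cfsg.Agent.OddHalf.D4.BaryEnd
open Cfsg.Agent.OddHalf.D4.Line Cfsg.Agent.OddHalf.D4.BaryGen
open Cfsg.Agent.OddHalf.D4.CommConj (Tight MaxE cj mem_cj mem_cj_mul exists_central_involution cj_mul card_cj
  cj_eq_of_mem_normalizer mem_normalizer_of_cj_eq)

variable {G : Type*} [Group G]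

/-- `F` is a 2-subgroup of `N(K) ∩ N(K)^g`, `g ∉ N(K)`, with involutions in `C(K)` and `C(K)^g`. -/
structure Pair (K F : Subgroup G) (g : G) : Prop where
  notMem : g ∉ normalizer (K : Set G)
  two : IsPGroup 2 ↥F
  le : F ≤ normalizer (K : Set G)
  le' : F ≤ cj g (normalizer (K : Set G))
  inv : ∃ x ∈ F, x ∈ centralizer (K : Set G) ∧ orderOf x = 2
  inv' : ∃ x ∈ F, x ∈ cj g (centralizer (K : Set G)) ∧ orderOf x = 2

/-- Maximal `K`-part. -/
structure KMaxE (K F : Subgroup G) : Prop where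
  maxE : MaxE (centralizer (K : Set G)) (normalizer (K : Set G)) F
  kmax : ∀ (g : G) (F' : Subgroup G), Pair K F' g → Nat.card ↥(F' ⊓ K : Subgroup G) ≤ Nat.card ↥(F ⊓ K : Subgroup G)

theorem pair_of_normalizer {K P : Subgroup G} {a : G} (hP : IsPGroup 2 ↥P) (hle : P ≤ normalizer (K : Set G))
    (ha : a ∈ normalizer (P : Set G)) (haM : a ∉ normalizer (K : Set G))
    (hinv : ∃ x ∈ P, x ∈ centralizer (K : Set G) ∧ orderOf x = 2) : Pair K P a := by
  refine ⟨haM, hP, hle, ?_, hinv, ?_⟩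
  · conv_lhs => rw [← cj_eq_of_mem_normalizer ha]
    exact map_mono hle
  · obtain ⟨x, hx, hxC, hx2⟩ := hinv
    exact ⟨a * x * a⁻¹, (mem_normalizer_iff.mp ha x).mp hx, mem_cj_mul hxC, by rw [Basic.orderOf_conj]; exact hx2⟩

theorem exists_kmaxE [Finite G] {K F' : Subgroup G} {g' : G} (h : Pair K F' g') : ∃ F, KMaxE K F := by
  classical
  let f : Subgroup G → ℕ := fun F => Nat.card ↥(F ⊓ K : Subgroup G) * (Nat.card G + 1) + Nat.card ↥F
  let 𝓟 : Set (Subgroup G) := {F | ∃ g, Pair K F g}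
  have hne : Nonempty 𝓟 := ⟨⟨F', g', h⟩⟩
  have hfin : Finite 𝓟 := inferInstance
  obtain ⟨⟨F, g, hF⟩, hmax⟩ := Finite.exists_max (fun F : 𝓟 => f F)
  have hcard : ∀ H : Subgroup G, Nat.card ↥H ≤ Nat.card G := fun H => Subgroup.card_le_card_group H
  have hmax' : ∀ (g : G) (F' : Subgroup G), Pair K F' g → f F' ≤ f F := fun g F' h' => hmax ⟨F', g, h'⟩
  have hlt : ∀ (g : G) (P : Subgroup G), Pair K P g → F ≤ P → P = F := by
    intro g P hP hle
    have h1 := hmax' g P hP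
    have h2 : Nat.card ↥(F ⊓ K : Subgroup G) ≤ Nat.card ↥(P ⊓ K : Subgroup G) :=
      card_le_of_le (inf_le_inf_right K hle)
    have h3 : Nat.card ↥P ≤ Nat.card ↥F := by
      by_contra hcon
      push Not at hcon
      have h4 : Nat.card ↥(F ⊓ K : Subgroup G) * (Nat.card G + 1) ≤
          Nat.card ↥(P ⊓ K : Subgroup G) * (Nat.card G + 1) := Nat.mul_le_mul_right _ h2
      have h5 : f P = Nat.card ↥(P ⊓ K : Subgroup G) * (Nat.card G + 1) + Nat.card ↥P := rfl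
      have h6 : f F = Nat.card ↥(F ⊓ K : Subgroup G) * (Nat.card G + 1) + Nat.card ↥F := rfl
      omega
    exact (eq_of_le_of_card_ge hle h3).symm
  have hnorm : ∃ a ∈ normalizer (F : Set G), a ∉ normalizer (K : Set G) := by
    by_contra hcon
    push Not at hcon
    have hcon' : normalizer (F : Set G) ≤ normalizer (K : Set G) := hcon
    -- `F` is Sylow in `M^g`
    have hS1 : IsSyl F (cj g (normalizer (K : Set G))) := by
      refine ⟨hF.two, hF.le', ?_⟩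
      intro P hP hFP hPM
      have h1 : normalizer (F : Set G) ⊓ P ≤ F := by
        have h2 : Pair K (normalizer (F : Set G) ⊓ P) g := by
          refine ⟨hF.notMem, hP.to_le inf_le_right, inf_le_left.trans hcon', inf_le_right.trans hPM, ?_, ?_⟩
          · obtain ⟨x, hx, h3⟩ := hF.inv
            exact ⟨x, ⟨le_normalizer hx, hFP hx⟩, h3⟩
          · obtain ⟨x, hx, h3⟩ := hF.inv'
            exact ⟨x, ⟨le_normalizer hx, hFP hx⟩, h3⟩
        exact (hlt g _ h2 (le_inf le_normalizer hFP)).le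
      exact (Cfsg.Agent.Blocks.SylowIn.eq_of_normalizer_inf_le hP hFP h1).le
    have hS2 : IsSyl F (normalizer (K : Set G)) := by
      obtain ⟨T, hT, hFT⟩ := exists_isSyl hF.two hF.le
      have h1 : IsSyl (cj g T) (cj g (normalizer (K : Set G))) := hT.cj g
      have h2 : Nat.card ↥T ≤ Nat.card ↥F := by
        obtain ⟨m, hm, hmq⟩ := hS1.conj_into h1.two h1.le
        have h3 : cj m (cj g T) ≤ F := by
          rintro _ ⟨q, hq, rfl⟩
          exact hmq q hq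
        have h4 := card_le_of_le h3
        rwa [card_cj, card_cj] at h4
      have h3 : F = T := eq_of_le_of_card_ge hFT h2
      rw [h3]; exact hT
    -- conjugate
    have h1 : IsPGroup 2 ↥(cj g⁻¹ F) := hF.two.map _
    have h2 : cj g⁻¹ F ≤ normalizer (K : Set G) := by
      intro x hx
      rw [mem_cj, inv_inv] at hx
      have h3 := mem_cj.mp (hF.le' hx)
      have e : g⁻¹ * (g * x * g⁻¹) * g = x := by group
      rwa [e] at h3
    obtain ⟨m, hm, hmq⟩ := hS2.conj_into h1 h2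
    have h3 : m * g⁻¹ ∈ normalizer (F : Set G) := by
      apply mem_normalizer_fintype
      intro x hx
      have h4 := hmq (g⁻¹ * x * g) (by
        rw [mem_cj]
        have e : g⁻¹⁻¹ * (g⁻¹ * x * g) * g⁻¹ = x := by group
        rw [e]; exact hx)
      have e : m * (g⁻¹ * x * g) * m⁻¹ = m * g⁻¹ * x * (m * g⁻¹)⁻¹ := by group
      rwa [e] at h4
    apply hF.notMem
    have h4 := mul_mem (inv_mem hm) (hcon' h3)
    have e : m⁻¹ * (m * g⁻¹) = g⁻¹ := by group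
    rw [e] at h4
    exact (inv_mem_iff).mp h4
  refine ⟨F, ⟨hF.two, hF.le, hF.inv, hnorm, ?_⟩, ?_⟩
  · intro P hP hFP hPM a ha
    by_contra haM
    have h1 : Pair K P a := pair_of_normalizer hP hPM ha haM (by
      obtain ⟨x, hx, h2⟩ := hF.inv
      exact ⟨x, hFP.le hx, h2⟩)
    have h2 := hlt a P h1 hFP.le
    exact hFP.ne h2.symm
  · intro g F' h'
    have h1 := hmax' g F' h'
    by_contra hcon
    push Not at hcon
    have h4 : (Nat.card ↥(F ⊓ K : Subgroup G) + 1) * (Nat.card G + 1) ≤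
        Nat.card ↥(F' ⊓ K : Subgroup G) * (Nat.card G + 1) := Nat.mul_le_mul_right _ hcon
    have h5 : f F' = Nat.card ↥(F' ⊓ K : Subgroup G) * (Nat.card G + 1) + Nat.card ↥F' := rfl
    have h6 : f F = Nat.card ↥(F ⊓ K : Subgroup G) * (Nat.card G + 1) + Nat.card ↥F := rfl
    have h7 := hcard F
    rw [add_mul, one_mul] at h4
    omega

/-- quadratic action gives vanishing traces -/
theorem trace_of_quad {v a b : G} (hvv : v * v = 1) (h6' : v * a * v⁻¹ * a⁻¹ * (v * a * v⁻¹ * a⁻¹) = 1)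
    (haa : a * a = 1) (hbb : b * b = 1) (h8 : a * b = b * a)
    (hca : b * (v * a * v⁻¹ * a⁻¹) = v * a * v⁻¹ * a⁻¹ * b) :
    v * (a * v * a⁻¹) * (b * v * b⁻¹) * (a * b * v * (a * b)⁻¹) = 1 := by
  have e1 : v⁻¹ = v := inv_eq_of_mul_eq_one_right hvv
  have e2 : a⁻¹ = a := inv_eq_of_mul_eq_one_right haa
  have e3 : b⁻¹ = b := inv_eq_of_mul_eq_one_right hbb
  have h5 : b * (v * a * v * a) = v * a * v * a * b := by
    rw [e1, e2] at hca; exact hca
  have h6 : v * a * v * a * (v * a * v * a) = 1 := by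
    rw [e1, e2] at h6'; exact h6'
  rw [mul_inv_rev, e2, e3]
  calc v * (a * v * a) * (b * v * b) * (a * b * v * (b * a))
      = v * (a * v * a) * (b * v * (a * (b * b) * v * (b * a))) := by
        have h9 : b * v * b * (a * b * v * (b * a)) = b * v * (b * (a * b) * v * (b * a)) := by group
        have h10 : b * (a * b) = a * (b * b) := by rw [← mul_assoc, ← h8, mul_assoc]
        rw [mul_assoc (v * (a * v * a)), h9, h10]
    _ = v * a * v * a * (b * (v * a * v) * (b * a)) := by rw [hbb]; group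
    _ = v * a * v * a * (b * (v * a * v * a) * (a * (b * a))) := by
        have h11 : v * a * v = v * a * v * a * a := by rw [mul_assoc (v * a * v), haa, mul_one]
        have h12 : b * (v * a * v) * (b * a) = b * (v * a * v * a) * (a * (b * a)) := by
          conv_lhs => rw [h11]
          group
        rw [h12]
    _ = v * a * v * a * (v * a * v * a * b * (a * (b * a))) := by rw [h5]
    _ = (v * a * v * a * (v * a * v * a)) * (b * (a * b) * a) := by group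
    _ = 1 := by rw [h6, one_mul, h8, ← mul_assoc, hbb, one_mul, haa]

/-- the hull of `Ω₁(Z(E)) ∩ C` lies in `Ω₁(Z(E))` -/
theorem hull_omegaZ {E C : Subgroup G} : ∀ v ∈ hull (normalizer (E : Set G)) (omegaZ E C),
    v ∈ E ∧ v * v = 1 ∧ ∀ e ∈ E, e * v = v * e := by
  have hcjE : ∀ n ∈ normalizer (E : Set G), ∀ x ∈ E, n * x * n⁻¹ ∈ E :=
    fun n hn x hx => (mem_normalizer_iff.mp hn x).mp hx
  intro v hv
  have h1 : hull (normalizer (E : Set G)) (omegaZ E C) ≤ omegaZ E ⊤ := by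
    unfold hull
    rw [closure_le]
    rintro _ ⟨n, hn, x, hx, rfl⟩
    refine ⟨hcjE n hn x hx.1, mem_top _, ?_, ?_⟩
    · calc n * x * n⁻¹ * (n * x * n⁻¹) = n * (x * x) * n⁻¹ := by group
        _ = 1 := by rw [hx.2.2.1]; group
    · intro e he
      have h1 : n⁻¹ * e * n ∈ E := by
        have := hcjE n⁻¹ (inv_mem hn) e he
        rwa [inv_inv] at this
      have h2 := hx.2.2.2 _ h1
      calc e * (n * x * n⁻¹) = n * (n⁻¹ * e * n * x) * n⁻¹ := by group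
        _ = n * (x * (n⁻¹ * e * n)) * n⁻¹ := by rw [h2]
        _ = n * x * n⁻¹ * e := by group
  have h2 := h1 hv
  exact ⟨h2.1, h2.2.2.1, h2.2.2.2⟩

/-- the `C(K)`-component of an element of `Ω₁(Z(E))` -/
theorem comp_omegaZ [Finite G] {K E Q : Subgroup G} (ht : TightAt K)
    (hcen : ∀ x ∈ K, x ∈ centralizer (K : Set G) → x = 1) (hQ : IsSyl Q (centralizer (K : Set G))) (hQE : Q ≤ E)
    (hEM : E ≤ normalizer (K : Set G)) {c k : G} (hc : c ∈ centralizer (K : Set G)) (hk : k ∈ K)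
    (_hvE : c * k ∈ E) (hv2 : c * k * (c * k) = 1) (hvc : ∀ e ∈ E, e * (c * k) = c * k * e) :
    c ∈ omegaZ E (centralizer (K : Set G)) := by
  have hcomm : ∀ k ∈ K, ∀ c ∈ centralizer (K : Set G), k * c = c * k :=
    fun k hk c hc => mem_centralizer_iff.mp hc k hk
  have hKM : ∀ m ∈ normalizer (K : Set G), ∀ k ∈ K, m * k * m⁻¹ ∈ K :=
    fun m hm k hk => (mem_normalizer_iff.mp hm k).mp hk
  have huniq : ∀ c ∈ centralizer (K : Set G), ∀ k ∈ K, ∀ c' ∈ centralizer (K : Set G), ∀ k' ∈ K,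
      c * k = c' * k' → c = c' := by
    intro c hc k hk c' hc' k' hk' h
    have h1 : c'⁻¹ * c = k' * k⁻¹ := by
      calc c'⁻¹ * c = c'⁻¹ * (c * k) * k⁻¹ := by group
        _ = c'⁻¹ * (c' * k') * k⁻¹ := by rw [h]
        _ = k' * k⁻¹ := by group
    have h2 := hcen _ (by rw [h1]; exact mul_mem hk' (inv_mem hk)) (mul_mem (inv_mem hc') hc)
    exact (inv_mul_eq_one.mp h2).symm
  have hkc := hcomm k hk c hc
  have hcc : c * c = 1 := by
    have h2 : c * c * (k * k) = 1 := by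
      calc c * c * (k * k) = c * (c * k) * k := by group
        _ = c * (k * c) * k := by rw [hkc]
        _ = (c * k) * (c * k) := by group
        _ = 1 := hv2
    exact huniq _ (mul_mem hc hc) _ (mul_mem hk hk) 1 (one_mem _) 1 (one_mem _) (by rw [h2, mul_one])
  have hcE' : ∀ e ∈ E, e * c = c * e := by
    intro e he
    have h2 := hvc e he
    have h3 : e * c * e⁻¹ * (e * k * e⁻¹) = c * k := by
      calc e * c * e⁻¹ * (e * k * e⁻¹) = e * (c * k) * e⁻¹ := by group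
        _ = c * k * e * e⁻¹ := by rw [h2]
        _ = c * k := by group
    have h4 := huniq _ (ht.norm e (hEM he) c hc) _ (hKM e (hEM he) k hk) _ hc _ hk h3
    calc e * c = e * c * e⁻¹ * e := by group
      _ = c * e := by rw [h4]
  have hcQ : c ∈ Q := by
    apply BaryEnd.mem_of_syl hQ hc ⟨1, by rw [pow_one, pow_two, hcc]⟩
    intro q hq
    rw [← hcE' q (hQE hq)]
    simpa using hq
  exact ⟨hQE hcQ, hc, hcc, hcE'⟩

section

variable [Finite G] {K F E₁ Q : Subgroup G}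

/-- **semiregularity for `E₁`** -/
theorem KMaxE.semi (h : KMaxE K F) (hle : E₁ ≤ F) (hFK : F ⊓ K ≤ E₁)
    (hinv : ∃ x ∈ E₁, x ∈ centralizer (K : Set G) ∧ orderOf x = 2) {n s : G}
    (hn : n ∈ normalizer (E₁ : Set G)) (hnM : n ∉ normalizer (K : Set G)) (hsN : s ∈ normalizer (E₁ : Set G))
    (hsK : s ∈ K) (hs2 : ∃ k : ℕ, s ^ 2 ^ k = 1) (hns : n⁻¹ * s * n ∈ normalizer (K : Set G)) : s ∈ E₁ := by
  have hsp : IsPGroup 2 ↥(zpowers s) := by
    obtain ⟨k, hk⟩ := hs2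
    rw [IsPGroup.iff_card]
    obtain ⟨m, -, hm⟩ := (Nat.dvd_prime_pow Nat.prime_two).mp (orderOf_dvd_of_pow_eq_one hk)
    exact ⟨m, by rw [Nat.card_zpowers, hm]⟩
  have hE2 : IsPGroup 2 ↥E₁ := h.maxE.isPGroup.to_le hle
  have hP : Pair K (E₁ ⊔ zpowers s) n := by
    have h1 : E₁ ≤ cj n (normalizer (K : Set G)) := by
      conv_lhs => rw [← cj_eq_of_mem_normalizer hn]
      exact map_mono (hle.trans h.maxE.le)
    refine ⟨hnM, hE2.to_sup_of_normal_left' hsp (zpowers_le.mpr hsN),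
      sup_le (hle.trans h.maxE.le) (zpowers_le.mpr (le_normalizer hsK)),
      sup_le h1 (zpowers_le.mpr (mem_cj.mpr hns)), ?_, ?_⟩
    · obtain ⟨x, hx, h2⟩ := hinv
      exact ⟨x, mem_sup_left hx, h2⟩
    · obtain ⟨x, hx, hxC, hx2⟩ := hinv
      exact ⟨n * x * n⁻¹, mem_sup_left ((mem_normalizer_iff.mp hn x).mp hx), mem_cj_mul hxC,
        by rw [Basic.orderOf_conj]; exact hx2⟩
  have h1 := h.kmax n _ hP
  have h2 : F ⊓ K ≤ (E₁ ⊔ zpowers s) ⊓ K := le_inf (hFK.trans le_sup_left) inf_le_right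
  have h3 := eq_of_le_of_card_ge h2 h1
  have h4 : s ∈ F ⊓ K := by
    rw [h3]
    exact ⟨mem_sup_right (mem_zpowers s), hsK⟩
  exact hFK h4

/-- **general form**: `V₀ ≤ E₁ ∩ C(K)` -/
theorem KMaxE.false_of_trace (h : KMaxE K F) (ht : TightAt K)
    (hcen : ∀ x ∈ K, x ∈ centralizer (K : Set G) → x = 1) (hle : E₁ ≤ F) (hFK : F ⊓ K ≤ E₁)
    (hend : ∃ n ∈ normalizer (E₁ : Set G), n ∉ normalizer (K : Set G))
    {V₀ : Subgroup G} (hV₀E : V₀ ≤ E₁) (hV₀C : V₀ ≤ centralizer (K : Set G)) (hV₀ : V₀ ≠ ⊥)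
    (hV2 : ∀ v ∈ hull (normalizer (E₁ : Set G)) V₀, v * v = 1)
    (hab : ∀ x ∈ hull (normalizer (E₁ : Set G)) V₀, ∀ y ∈ hull (normalizer (E₁ : Set G)) V₀, x * y = y * x)
    (hVN : ∀ n ∈ normalizer (E₁ : Set G), n ∈ normalizer (K : Set G) → ∀ x ∈ V₀, n * x * n⁻¹ ∈ V₀)
    (hdec : ∀ n ∈ normalizer (E₁ : Set G), ∀ v ∈ V₀, ∃ c ∈ V₀, ∃ k ∈ K, n * v * n⁻¹ = c * k)
    {T : Subgroup G} (hTK : T ≤ K) (hTN : T ≤ normalizer (E₁ : Set G)) (hT2 : IsPGroup 2 ↥T)
    (hTE : ∀ t ∈ T, t ∈ E₁ → t = 1)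
    (htr : ∀ v ∈ hull (normalizer (E₁ : Set G)) V₀, ∃ a ∈ T, ∃ b ∈ T,
      a * a = 1 ∧ b * b = 1 ∧ a * b = b * a ∧ a ≠ 1 ∧ b ≠ 1 ∧ a ≠ b ∧
      v * (a * v * a⁻¹) * (b * v * b⁻¹) * (a * b * v * (a * b)⁻¹) = 1) : False := by
  have hv2 : ∀ v ∈ V₀, v * v = 1 := fun v hv => hV2 v (subset_closure ⟨1, one_mem _, v, hv, by group⟩)
  obtain ⟨z, hz, hz1⟩ := (Subgroup.bot_or_exists_ne_one V₀).resolve_left hV₀
  have hz2 : orderOf z = 2 := orderOf_eq_prime (by rw [pow_two]; exact hv2 z hz) hz1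
  have hinv : ∃ x ∈ E₁, x ∈ centralizer (K : Set G) ∧ orderOf x = 2 := ⟨z, hV₀E hz, hV₀C hz, hz2⟩
  refine hull_false (K := K) (M := normalizer (K : Set G)) (N := normalizer (E₁ : Set G)) (V₀ := V₀) (T := T)
    ?_ hcen ?_ hV2 hab hVN hdec ?_ hTK hTN (hTK.trans le_normalizer) hT2 ?_ htr
  · intro x hx k hk
    exact mem_centralizer_iff.mp (hV₀C hx) k hk
  · intro m hm k hk
    exact (mem_normalizer_iff.mp hm k).mp hk
  · obtain ⟨n, hn, hnM⟩ := hend
    refine ⟨n, hn, z, hz, ?_⟩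
    intro h1
    exact hnM (ht.tight n z (hV₀C hz) hz2 (hV₀C h1))
  · intro n hn hnM s hs hns
    apply hTE s hs
    obtain ⟨k, hk⟩ := hT2 ⟨s, hs⟩
    exact h.semi hle hFK hinv hn hnM (hTN hs) (hTK hs) ⟨k, congrArg Subtype.val hk⟩ hns

/-- **a line normalizing `E₁`**, general `V₀` centralized by `Q`, `Q ≤ E₁` a Sylow 2-subgroup of `C(K)`. -/
theorem KMaxE.false_of_line (h : KMaxE K F) (ht : TightAt K)
    (hcen : ∀ x ∈ K, x ∈ centralizer (K : Set G) → x = 1) (hle : E₁ ≤ F) (hFK : F ⊓ K ≤ E₁)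
    (hend : ∃ n ∈ normalizer (E₁ : Set G), n ∉ normalizer (K : Set G))
    {V₀ : Subgroup G} (hV₀E : V₀ ≤ E₁) (hV₀C : V₀ ≤ centralizer (K : Set G)) (hV₀ : V₀ ≠ ⊥)
    (hV2 : ∀ v ∈ hull (normalizer (E₁ : Set G)) V₀, v * v = 1)
    (hab : ∀ x ∈ hull (normalizer (E₁ : Set G)) V₀, ∀ y ∈ hull (normalizer (E₁ : Set G)) V₀, x * y = y * x)
    (hVN : ∀ n ∈ normalizer (E₁ : Set G), n ∈ normalizer (K : Set G) → ∀ x ∈ V₀, n * x * n⁻¹ ∈ V₀)
    (hdec : ∀ n ∈ normalizer (E₁ : Set G), ∀ v ∈ V₀, ∃ c ∈ V₀, ∃ k ∈ K, n * v * n⁻¹ = c * k)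
    {l : Subgroup G} (hl : IsLine (E₁ ⊓ K) l) (hlK : l ≤ K) (hlN : l ≤ normalizer (E₁ : Set G))
    (hlE : ¬ l ≤ E₁)
    (hcent : ∀ t ∈ l, t ∈ E₁ → ∀ v ∈ hull (normalizer (E₁ : Set G)) V₀, t * v = v * t) : False := by
  set N := normalizer (E₁ : Set G) with hN
  set C := centralizer (K : Set G) with hC
  have hcomm : ∀ k ∈ K, ∀ c ∈ C, k * c = c * k := fun k hk c hc => mem_centralizer_iff.mp hc k hk
  have hcjE : ∀ n ∈ N, ∀ x ∈ E₁, n * x * n⁻¹ ∈ E₁ := fun n hn x hx => (mem_normalizer_iff.mp hn x).mp hx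
  have hVE : hull N V₀ ≤ E₁ := by
    unfold hull
    rw [closure_le]
    rintro _ ⟨n, hn, x, hx, rfl⟩
    exact hcjE n hn x (hV₀E hx)
  have hv2 : ∀ v ∈ V₀, v * v = 1 := fun v hv => hV2 v (subset_closure ⟨1, one_mem _, v, hv, by group⟩)
  have hKM : ∀ m ∈ normalizer (K : Set G), ∀ k ∈ K, m * k * m⁻¹ ∈ K :=
    fun m hm k hk => (mem_normalizer_iff.mp hm k).mp hk
  have hbr : ∀ v ∈ hull N V₀, ∀ x ∈ l, v * x * v⁻¹ * x⁻¹ ∈ hull N V₀ ∧ v * x * v⁻¹ * x⁻¹ ∈ E₁ ⊓ K := by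
    intro v hv x hx
    have h1 : v * x * v⁻¹ * x⁻¹ ∈ hull N V₀ := by
      have e : v * x * v⁻¹ * x⁻¹ = v * (x * v⁻¹ * x⁻¹) := by group
      rw [e]
      exact mul_mem hv (hull_cj (hlN hx) (inv_mem hv))
    refine ⟨h1, hVE h1, ?_⟩
    exact K.mul_mem (hKM v (h.maxE.le (hle (hVE hv))) x (hlK hx)) (K.inv_mem (hlK hx))
  have hquad : ∀ v ∈ hull N V₀, ∀ x ∈ l, ∀ x' ∈ l,
      x' * (v * x * v⁻¹ * x⁻¹) = (v * x * v⁻¹ * x⁻¹) * x' := by
    intro v hv x hx x' hx'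
    by_cases hx1 : x = 1
    · subst hx1; simp
    obtain ⟨h1, h2⟩ := hbr v hv x hx
    apply hl.star _ h2 x hx hx1 ?_ x' hx'
    have hxx := hl.sq x hx
    have hvv := hV2 v hv
    have e1 : v⁻¹ = v := inv_eq_of_mul_eq_one_right hvv
    have e2 : x⁻¹ = x := inv_eq_of_mul_eq_one_right hxx
    have h4 := hab _ (hull_cj (hlN hx) hv) v hv
    rw [e1, e2] at *
    calc x * (v * x * v * x) = (x * v * x * v) * x := by group
      _ = (v * (x * v * x)) * x := by rw [h4]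
      _ = v * x * v * x * x := by group
  obtain ⟨z, hz, hz1⟩ := (Subgroup.bot_or_exists_ne_one V₀).resolve_left hV₀
  have hz2 : orderOf z = 2 := orderOf_eq_prime (by rw [pow_two]; exact hv2 z hz) hz1
  have hinv : ∃ x ∈ E₁, x ∈ C ∧ orderOf x = 2 := ⟨z, hV₀E hz, hV₀C hz, hz2⟩
  have hlE' : ∀ t ∈ l, t ∈ E₁ → (∀ v ∈ hull N V₀, t * v = v * t) → t = 1 := by
    intro t htl htE htc
    by_contra ht1
    apply hlE
    intro x hx
    obtain ⟨n, hn, hnM⟩ := hend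
    have hv : n * z * n⁻¹ ∈ hull N V₀ := hull_cj hn (subset_closure ⟨1, one_mem _, z, hz, by group⟩)
    obtain ⟨c, hc, k, hk, hck⟩ := hdec n hn z hz
    have hkE : k ∈ E₁ ⊓ K := by
      refine mem_inf.mpr ⟨?_, hk⟩
      have h1 : k = c⁻¹ * (n * z * n⁻¹) := by rw [hck]; group
      rw [h1]
      exact mul_mem (inv_mem (hV₀E hc)) (hVE hv)
    have htk : t * k = k * t := by
      have h1 := htc _ hv
      rw [hck] at h1
      have h2 : t * c = c * t := hcomm t (hlK htl) c (hV₀C hc)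
      have h3 : c * (t * k) = c * (k * t) := by
        calc c * (t * k) = (c * t) * k := by group
          _ = t * c * k := by rw [h2]
          _ = t * (c * k) := by group
          _ = c * k * t := h1
          _ = c * (k * t) := by group
      exact mul_left_cancel h3
    have hxk := hl.star k hkE t htl ht1 htk x hx
    have hxv : x * (n * z * n⁻¹) = n * z * n⁻¹ * x := by
      rw [hck]
      calc x * (c * k) = (x * c) * k := by group
        _ = (c * x) * k := by rw [hcomm x (hlK hx) c (hV₀C hc)]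
        _ = c * (x * k) := by group
        _ = c * (k * x) := by rw [hxk]
        _ = c * k * x := by group
    refine h.semi hle hFK hinv hn hnM (hlN hx) (hlK hx) ⟨1, by rw [pow_one, pow_two]; exact hl.sq x hx⟩ ?_
    have h1 : n⁻¹ * (n * z * n⁻¹) * n ∈ C := by
      have e : n⁻¹ * (n * z * n⁻¹) * n = z := by group
      rw [e]; exact hV₀C hz
    refine Tight.mem_of_comm ht h1 ?_ hxv
    rw [Basic.orderOf_conj]; exact hz2
  have hlE'' : ∀ t ∈ l, t ∈ E₁ → t = 1 := fun t ht' htE => hlE' t ht' htE (hcent t ht' htE)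
  obtain ⟨a, ha, b, hb, ha1, hb1, hne⟩ := hl.exists_pair
  refine h.false_of_trace ht hcen hle hFK hend hV₀E hV₀C hV₀ hV2 hab hVN hdec hlK hlN ?_ hlE'' ?_
  · intro x
    exact ⟨1, Subtype.ext (by
      show (x : G) ^ 2 ^ 1 = 1
      rw [pow_one, pow_two]; exact hl.sq _ x.2)⟩
  · intro v hv
    refine ⟨a, ha, b, hb, hl.sq a ha, hl.sq b hb, hl.comm ha hb, ha1, hb1, hne, ?_⟩
    exact trace_of_quad (hV2 v hv) (hV2 _ (hbr v hv a ha).1) (hl.sq a ha) (hl.sq b hb) (hl.comm ha hb)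
      (hquad v hv a ha b hb)

/-- the case `V₀ = Ω₁(Z(E₁)) ∩ C(K)`, `Q ≤ E₁` -/
theorem KMaxE.false_of_line_omegaZ (h : KMaxE K F) (ht : TightAt K)
    (hcen : ∀ x ∈ K, x ∈ centralizer (K : Set G) → x = 1)
    (hQ : IsSyl Q (centralizer (K : Set G))) (hQE : Q ≤ E₁) (hle : E₁ ≤ F) (hFK : F ⊓ K ≤ E₁)
    (hend : ∃ n ∈ normalizer (E₁ : Set G), n ∉ normalizer (K : Set G))
    (hinn : ∀ n ∈ normalizer (E₁ : Set G), ∀ v ∈ omegaZ E₁ (centralizer (K : Set G)),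
      ∃ c ∈ centralizer (K : Set G), ∃ k ∈ K, n * v * n⁻¹ = c * k)
    {l : Subgroup G} (hl : IsLine (E₁ ⊓ K) l) (hlK : l ≤ K) (hlN : l ≤ normalizer (E₁ : Set G))
    (hlE : ¬ l ≤ E₁) : False := by
  have hE2 : IsPGroup 2 ↥E₁ := h.maxE.isPGroup.to_le hle
  have hEM : E₁ ≤ normalizer (K : Set G) := hle.trans h.maxE.le
  have hVZ := hull_omegaZ (C := centralizer (K : Set G)) (E := E₁)
  have hV₀ : omegaZ E₁ (centralizer (K : Set G)) ≠ ⊥ := by
    obtain ⟨x, hx, hxC, hx2⟩ := h.maxE.exists_inv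
    -- an involution of `Q`
    obtain ⟨m, hm, hmq⟩ := hQ.conj_into (Q := zpowers x) (by
      rw [IsPGroup.iff_card]; exact ⟨1, by rw [Nat.card_zpowers, hx2]; norm_num⟩) (zpowers_le.mpr hxC)
    have hy := hmq x (mem_zpowers x)
    have hy2 : orderOf (m * x * m⁻¹) = 2 := by rw [Basic.orderOf_conj]; exact hx2
    obtain ⟨z, hzE, hzC, hz2, hzc⟩ := exists_central_involution (S := E₁) (N := E₁ ⊓ centralizer (K : Set G))
      hE2 (by
        intro s hs n hn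
        exact mem_inf.mpr ⟨mul_mem (mul_mem hs hn.1) (inv_mem hs), ht.norm s (hEM hs) n hn.2⟩)
      ⟨_, hQE hy, ⟨hQE hy, hQ.le hy⟩, by
        intro h1
        rw [h1, orderOf_one] at hy2; exact absurd hy2 (by norm_num)⟩
    intro hbot
    have hz : z ∈ omegaZ E₁ (centralizer (K : Set G)) :=
      ⟨hzE, hzC.2, by rw [← pow_two, ← hz2]; exact pow_orderOf_eq_one z, hzc⟩
    rw [hbot, mem_bot] at hz
    rw [hz, orderOf_one] at hz2
    exact absurd hz2 (by norm_num)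
  refine h.false_of_line ht hcen hle hFK hend (V₀ := omegaZ E₁ (centralizer (K : Set G)))
    (fun x hx => hx.1) (fun x hx => hx.2.1) hV₀ (fun v hv => (hVZ v hv).2.1)
    (fun x hx y hy => (hVZ y hy).2.2 x (hVZ x hx).1) ?_ ?_ hl hlK hlN hlE
    (fun t _ htE v hv => (hVZ v hv).2.2 t htE)
  · intro n hn hnM x hx
    have h1 := hVZ _ (hull_cj (v := x) hn (subset_closure ⟨1, one_mem _, x, hx, by group⟩))
    exact ⟨h1.1, ht.norm n hnM x hx.2.1, h1.2.1, h1.2.2⟩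
  · intro n hn v hv
    obtain ⟨c, hc, k, hk, hck⟩ := hinn n hn v hv
    have h1 := hVZ _ (hull_cj (v := v) hn (subset_closure ⟨1, one_mem _, v, hv, by group⟩))
    rw [hck] at h1
    refine ⟨c, comp_omegaZ ht hcen hQ hQE hEM hc hk h1.1 h1.2.1 h1.2.2, k, hk, hck⟩

end

end Cfsg.Agent.OddHalf.D4.KMax

end

-- merged: Cfsg.Agent.OddHalf.D4.LineR
section

/-!
# ODD, D4, (1B): relative lines

`IsLineR S D l`: a line modulo `D` (`D` the next term of the filtration): squares in `D`, at least a four-group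
modulo `D`, and `C_l(y) ≤ D` or `C_l(y) = l` for `y ∈ S`. The barycentre lemma only uses the action of the line on
the hull, so it holds for relative lines if `D` centralizes the hull.
-/

set_option autoImplicit false

namespace Cfsg.Agent.OddHalf.D4.LineR

open Cfsg Subgroup Cfsg.Agent.OddHalf.D4 Cfsg.Agent.OddHalf.D4.Basic Cfsg.Agent.OddHalf.D4.BaryEnd
open Cfsg.Agent.OddHalf.D4.Line Cfsg.Agent.OddHalf.D4.BaryGen Cfsg.Agent.OddHalf.D4.KMax
open Cfsg.Agent.OddHalf.D4.CommConj (Tight MaxE cj mem_cj mem_cj_mul exists_central_involution)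

/-- A line of `S` relative to `D`. -/
structure IsLineR {G : Type*} [Group G] (S D l : Subgroup G) : Prop where
  sq : ∀ x ∈ l, x * x ∈ D
  pair : ∃ a ∈ l, ∃ b ∈ l, a ∉ D ∧ b ∉ D ∧ a⁻¹ * b ∉ D
  star : ∀ y ∈ S, ∀ x ∈ l, x ∉ D → x * y = y * x → ∀ x' ∈ l, x' * y = y * x'

theorem IsLineR.of_isLine {G : Type*} [Group G] [Finite G] {S D l : Subgroup G} (h : IsLine S l)
    (hD : ∀ x ∈ l, x ∈ D → x = 1) : IsLineR S D l := by
  refine ⟨fun x hx => by rw [h.sq x hx]; exact one_mem _, ?_, fun y hy x hx hxD => h.star y hy x hx ?_⟩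
  · obtain ⟨a, ha, b, hb, ha1, hb1, hne⟩ := h.exists_pair
    exact ⟨a, ha, b, hb, fun h' => ha1 (hD a ha h'), fun h' => hb1 (hD b hb h'),
      fun h' => hne (inv_mul_eq_one.mp (hD _ (mul_mem (inv_mem ha) hb) h'))⟩
  · rintro rfl
    exact hxD (one_mem _)

theorem IsLineR.mono {G : Type*} [Group G] {S S' D l : Subgroup G} (h : IsLineR S D l) (hS : S' ≤ S) :
    IsLineR S' D l := ⟨h.sq, h.pair, fun y hy => h.star y (hS hy)⟩

/-- A central series generated by relative lines. -/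
structure FiltR {G : Type*} [Group G] (S : Subgroup G) (U : ℕ → Subgroup G) : Prop where
  zero : U 0 = S
  bot : ∃ n, U n = ⊥
  le : ∀ j, U (j + 1) ≤ U j
  comm : ∀ j, ∀ u ∈ U j, ∀ s ∈ S, s * u * s⁻¹ * u⁻¹ ∈ U (j + 1)
  gen : ∀ j, ∀ u ∈ U j,
    u ∈ closure ({x | ∃ l : Subgroup G, l ≤ U j ∧ IsLineR S (U (j + 1)) l ∧ x ∈ l} ∪ (U (j + 1) : Set G))

/-- The K-fact. -/
def LineFactsR (X : Type*) [Group X] : Prop := ∀ S : Sylow 2 X, ∃ U : ℕ → Subgroup X, FiltR (S : Subgroup X) U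

/-! ### Barycentres -/

/-- **Barycentres**, the action of `T` on the hull only. -/
theorem hull_falseR {G : Type*} [Group G] [Finite G] {K M N V₀ T : Subgroup G}
    (hVK : ∀ x ∈ V₀, ∀ k ∈ K, k * x = x * k)
    (hcen : ∀ x ∈ K, x ∈ centralizer (K : Set G) → x = 1)
    (hKM : ∀ m ∈ M, ∀ k ∈ K, m * k * m⁻¹ ∈ K)
    (hV2 : ∀ v ∈ hull N V₀, v * v = 1)
    (hab : ∀ x ∈ hull N V₀, ∀ y ∈ hull N V₀, x * y = y * x)
    (hCM : ∀ n ∈ N, (∀ v ∈ hull N V₀, n * v = v * n) → n ∈ M)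
    (hVN : ∀ n ∈ N, n ∈ M → ∀ x ∈ V₀, n * x * n⁻¹ ∈ V₀)
    (hdec0 : ∀ n ∈ N, ∀ v ∈ V₀, ∃ c ∈ V₀, ∃ k ∈ K, n * v * n⁻¹ = c * k)
    (hend : ∃ n ∈ N, ∃ z ∈ V₀, n * z * n⁻¹ ∉ V₀)
    (hTK : T ≤ K) (hTN : T ≤ N) (hTM : T ≤ M) (hT2 : IsPGroup 2 ↥T)
    (semi : ∀ n ∈ N, n ∉ M → ∀ s ∈ T, n⁻¹ * s * n ∈ M → ∀ v ∈ hull N V₀, s * v = v * s)
    (htr : ∀ v ∈ hull N V₀, ∃ a ∈ T, ∃ b ∈ T,
      (∀ w ∈ hull N V₀, a * a * w = w * (a * a)) ∧ (∀ w ∈ hull N V₀, b * b * w = w * (b * b)) ∧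
      (∀ w ∈ hull N V₀, a * b * w * (a * b)⁻¹ = b * a * w * (b * a)⁻¹) ∧
      (∃ w ∈ hull N V₀, a * w ≠ w * a) ∧ (∃ w ∈ hull N V₀, b * w ≠ w * b) ∧
      (∃ w ∈ hull N V₀, a⁻¹ * b * w ≠ w * (a⁻¹ * b)) ∧
      v * (a * v * a⁻¹) * (b * v * b⁻¹) * (a * b * v * (a * b)⁻¹) = 1) : False := by
  classical
  set V := hull N V₀ with hV
  have hcomm : ∀ k ∈ K, ∀ c ∈ V₀, k * c = c * k := fun k hk c hc => hVK c hc k hk
  have hV₀C : ∀ c ∈ V₀, c ∈ centralizer (K : Set G) := fun c hc => mem_centralizer_iff.mpr fun k hk => hcomm k hk c hc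
  -- decompositions
  have huniq : ∀ c ∈ V₀, ∀ k ∈ K, ∀ c' ∈ V₀, ∀ k' ∈ K, c * k = c' * k' → c = c' := by
    intro c hc k hk c' hc' k' hk' h
    have h1 : c'⁻¹ * c = k' * k⁻¹ := by
      calc c'⁻¹ * c = c'⁻¹ * (c * k) * k⁻¹ := by group
        _ = c'⁻¹ * (c' * k') * k⁻¹ := by rw [h]
        _ = k' * k⁻¹ := by group
    have h2 := hcen _ (by rw [h1]; exact mul_mem hk' (inv_mem hk)) (hV₀C _ (mul_mem (inv_mem hc') hc))
    exact (inv_mul_eq_one.mp h2).symm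
  have hdec : ∀ v ∈ V, ∃ c ∈ V₀, ∃ k ∈ K, v = c * k := by
    intro v hv
    have hv' : v ∈ closure {y | ∃ n ∈ N, ∃ x ∈ V₀, y = n * x * n⁻¹} := hv
    induction hv' using closure_induction with
    | mem x hx =>
      obtain ⟨n, hn, y, hy, rfl⟩ := hx
      exact hdec0 n hn y hy
    | one => exact ⟨1, one_mem _, 1, one_mem _, by simp⟩
    | mul x y hx hy hx' hy' =>
      obtain ⟨c, hc, k, hk, rfl⟩ := hx' hx
      obtain ⟨c', hc', k', hk', rfl⟩ := hy' hy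
      refine ⟨c * c', mul_mem hc hc', k * k', mul_mem hk hk', ?_⟩
      calc c * k * (c' * k') = c * (k * c') * k' := by group
        _ = c * (c' * k) * k' := by rw [hcomm k hk c' hc']
        _ = c * c' * (k * k') := by group
    | inv x hx hx' =>
      obtain ⟨c, hc, k, hk, rfl⟩ := hx' hx
      refine ⟨c⁻¹, inv_mem hc, k⁻¹, inv_mem hk, ?_⟩
      rw [mul_inv_rev, hcomm _ (inv_mem hk) _ (inv_mem hc)]
  have hV₀V : V₀ ≤ V := fun x hx => subset_closure ⟨1, one_mem _, x, hx, by group⟩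
  -- the projection
  choose! pf hpf kf hkf hpk using hdec
  let hcg : CommGroup ↥V := { (inferInstance : Group ↥V) with mul_comm := fun x y => Subtype.ext (hab x x.2 y y.2) }
  let p : ↥V →* ↥V :=
    { toFun := fun v => ⟨pf v, hV₀V (hpf v v.2)⟩
      map_one' := Subtype.ext (by
        show pf ((1 : ↥V) : G) = 1
        have h1 := hpk _ (1 : ↥V).2
        exact huniq _ (hpf _ (1 : ↥V).2) _ (hkf _ (1 : ↥V).2) 1 (one_mem _) 1 (one_mem _)
          (by rw [← h1]; simp))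
      map_mul' := fun x y => Subtype.ext (by
        show pf ((x * y : ↥V) : G) = pf x * pf y
        have h1 := hpk _ (x * y).2
        have hx := hpk _ x.2
        have hy := hpk _ y.2
        refine huniq _ (hpf _ (x * y).2) _ (hkf _ (x * y).2) _
          (mul_mem (hpf _ x.2) (hpf _ y.2)) (kf x * kf y) (mul_mem (hkf _ x.2) (hkf _ y.2)) ?_
        rw [← h1]
        show (x : G) * y = _
        conv_lhs => rw [hx, hy]
        calc pf x * kf x * (pf y * kf y) = pf x * (kf x * pf y) * kf y := by group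
          _ = pf x * (pf y * kf x) * kf y := by rw [hcomm _ (hkf _ x.2) _ (hpf _ y.2)]
          _ = pf x * pf y * (kf x * kf y) := by group) }
  let hact : MulDistribMulAction ↥N ↥V := conjAct N V (fun n hn v hv => hull_cj hn hv)
  have hsmul : ∀ (n : ↥N) (v : ↥V), ((n • v : ↥V) : G) = n * v * (n : G)⁻¹ := fun _ _ => rfl
  have hp : ∀ y ∈ M.subgroupOf N, ∀ a : ↥V, p (y • a) = y • p a := by
    intro y hy a
    have hyM : (y : G) ∈ M := mem_subgroupOf.mp hy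
    apply Subtype.ext
    rw [hsmul]
    show pf ((y • a : ↥V) : G) = y * pf a * (y : G)⁻¹
    have h1 := hpk _ (y • a : ↥V).2
    have h2 := hpk _ a.2
    refine huniq _ (hpf _ (y • a : ↥V).2) _ (hkf _ (y • a : ↥V).2) _
      (hVN _ y.2 hyM _ (hpf _ a.2)) ((y : G) * kf a * (y : G)⁻¹) (hKM _ hyM _ (hkf _ a.2)) ?_
    rw [← h1, hsmul]
    conv_lhs => rw [h2]
    group
  have hVp : IsPGroup 2 ↥V := by
    intro v
    exact ⟨1, Subtype.ext (by
      show (v : G) ^ 2 ^ 1 = 1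
      rw [pow_one, pow_two]; exact hV2 _ v.2)⟩
  have hpV₀ : ∀ x (hx : x ∈ V₀), p ⟨x, hV₀V hx⟩ = ⟨x, hV₀V hx⟩ := by
    intro x hx
    apply Subtype.ext
    show pf x = x
    have h1 := hpk x (hV₀V hx)
    exact huniq _ (hpf _ (hV₀V hx)) _ (hkf _ (hV₀V hx)) _ hx 1 (one_mem _) (by rw [← h1, mul_one])
  -- the group of automorphisms
  let φ : ↥N →* MulAut ↥V := MulDistribMulAction.toMulAut ↥N ↥V
  let ψ : ↥N →* ↥φ.range := φ.rangeRestrict
  have hψs : Function.Surjective ψ := φ.rangeRestrict_surjective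
  have : Finite ↥φ.range := Finite.of_surjective ψ hψs
  have hψ : ∀ (n : ↥N) (v : ↥V), ψ n • v = n • v := fun _ _ => rfl
  have hker : ∀ n : ↥N, ψ n = 1 ↔ ∀ v ∈ V, (n : G) * v = v * n := by
    intro n
    constructor
    · intro h1 v hv
      have h2 := hψ n ⟨v, hv⟩
      rw [h1, one_smul] at h2
      have h3 : v = (n : G) * v * (n : G)⁻¹ := congrArg Subtype.val h2
      calc (n : G) * v = (n : G) * v * (n : G)⁻¹ * n := by group
        _ = v * n := by rw [← h3]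
    · intro h1
      apply Subtype.ext
      apply MulEquiv.ext
      intro v
      show n • v = v
      apply Subtype.ext
      rw [hsmul, h1 v v.2]
      group
  have hψeq : ∀ a b : ↥N, ψ a = ψ b → ∀ v ∈ V, ((a : G)⁻¹ * b) * v = v * ((a : G)⁻¹ * b) := by
    intro a b h1
    have h2 : ψ (a⁻¹ * b) = 1 := by rw [map_mul, map_inv, h1, inv_mul_cancel]
    exact (hker _).mp h2
  let Y : Subgroup ↥φ.range := (M.subgroupOf N).map ψ
  let E : Subgroup ↥φ.range := (T.subgroupOf N).map ψ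
  let hfE : Fintype ↥E := Fintype.ofFinite _
  have hEY : E ≤ Y := by
    rintro _ ⟨t, ht', rfl⟩
    exact ⟨t, mem_subgroupOf.mpr (hTM (mem_subgroupOf.mp ht')), rfl⟩
  have hE2 : IsPGroup 2 ↥E := hT2.comap_subtype.map _
  have key := Bary.ker_eq_bot (Γ := ↥φ.range) (A := ↥V) (Y := Y) (E := E) hEY (p := p) (by
      rintro _ ⟨y, hy, rfl⟩ a
      exact hp y hy a) (by
      intro g hg s hs hgs
      obtain ⟨g, rfl⟩ := hψs g
      obtain ⟨s, hs, rfl⟩ := hs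
      obtain ⟨y, hy, hyg⟩ := hgs
      have h1 : ψ y = ψ (g⁻¹ * s * g) := by rw [hyg, map_mul, map_mul, map_inv]
      have h2 := hψeq _ _ h1
      have h3 : ((y : G))⁻¹ * ((g⁻¹ * s * g : ↥N) : G) ∈ M :=
        hCM _ (mul_mem (inv_mem y.2) (g⁻¹ * s * g : ↥N).2) h2
      have h4 : (g : G)⁻¹ * s * g ∈ M := by
        have h5 := mul_mem (mem_subgroupOf.mp hy) h3
        have e : (y : G) * ((y : G)⁻¹ * ((g⁻¹ * s * g : ↥N) : G)) = (g : G)⁻¹ * s * g := by push_cast; group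
        rwa [e] at h5
      have h5 : (g : G) ∉ M := fun h => hg ⟨g, mem_subgroupOf.mpr h, rfl⟩
      exact (hker s).mpr (semi _ g.2 h5 _ (mem_subgroupOf.mp hs) h4)) (by
      intro v
      obtain ⟨a, ha, b, hb, ha2, hb2, hab', ⟨w₁, hw₁, hne₁⟩, ⟨w₂, hw₂, hne₂⟩, ⟨w₃, hw₃, hne₃⟩, htr'⟩ :=
        htr v v.2
      have haN : a ∈ N := hTN ha
      have hbN : b ∈ N := hTN hb
      let a' : ↥E := ⟨ψ ⟨a, haN⟩, ⟨⟨a, haN⟩, mem_subgroupOf.mpr ha, rfl⟩⟩
      let b' : ↥E := ⟨ψ ⟨b, hbN⟩, ⟨⟨b, hbN⟩, mem_subgroupOf.mpr hb, rfl⟩⟩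
      have ha3 : a' * a' = 1 := by
        apply Subtype.ext
        show ψ ⟨a, haN⟩ * ψ ⟨a, haN⟩ = 1
        rw [← map_mul]
        exact (hker _).mpr ha2
      have hb3 : b' * b' = 1 := by
        apply Subtype.ext
        show ψ ⟨b, hbN⟩ * ψ ⟨b, hbN⟩ = 1
        rw [← map_mul]
        exact (hker _).mpr hb2
      have hab3 : a' * b' = b' * a' := by
        apply Subtype.ext
        show ψ ⟨a, haN⟩ * ψ ⟨b, hbN⟩ = ψ ⟨b, hbN⟩ * ψ ⟨a, haN⟩
        rw [← map_mul, ← map_mul]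
        apply Subtype.ext
        apply MulEquiv.ext
        intro w
        exact Subtype.ext (hab' w w.2)
      have htr3 : v * a' • v * b' • v * (a' * b') • v = 1 := by
        apply Subtype.ext
        show (v : G) * (a * v * a⁻¹) * (b * v * b⁻¹) * (a * (b * v * b⁻¹) * a⁻¹) = 1
        rw [← htr']
        group
      refine prod_smul_eq_one (Y := ↥E) (V := ↥V) (a := a') (b := b') ha3 hb3 hab3 ?_ ?_ ?_
        (v := v) htr3
      · intro h
        exact hne₁ ((hker ⟨a, haN⟩).mp (congrArg Subtype.val h) w₁ hw₁)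
      · intro h
        exact hne₂ ((hker ⟨b, hbN⟩).mp (congrArg Subtype.val h) w₂ hw₂)
      · intro h
        exact hne₃ (hψeq ⟨a, haN⟩ ⟨b, hbN⟩ (congrArg Subtype.val h) w₃ hw₃)) hVp hE2 (by
      intro a
      exact hpV₀ _ (hpf _ a.2)) (by
      rintro _ ⟨s, hs, rfl⟩ a
      apply Subtype.ext
      rw [hψ, hsmul]
      show (s : G) * pf a * (s : G)⁻¹ = pf a
      rw [hcomm _ (hTK (mem_subgroupOf.mp hs)) _ (hpf _ a.2)]
      group) (by
      intro H hH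
      rw [Subgroup.eq_top_iff']
      have h1 : V ≤ H.map V.subtype := by
        refine (Subgroup.closure_le (H.map V.subtype)).mpr ?_
        rintro _ ⟨n, hn, x, hx, rfl⟩
        refine ⟨ψ (⟨n, hn⟩ : ↥N) • p ⟨x, hV₀V hx⟩, hH _ _, ?_⟩
        rw [hpV₀ x hx]
        rfl
      intro v
      obtain ⟨w, hw, hwv⟩ := h1 v.2
      have : w = v := Subtype.ext hwv
      rwa [← this])
  -- conclusion
  obtain ⟨n, hn, z, hz, hnz⟩ := hend
  have hv : n * z * n⁻¹ ∈ V := hull_cj hn (hV₀V hz)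
  have h1 : p (⟨n * z * n⁻¹, hv⟩ * (p ⟨n * z * n⁻¹, hv⟩)⁻¹) = 1 := by
    rw [map_mul, map_inv]
    have h2 : p (p ⟨n * z * n⁻¹, hv⟩) = p ⟨n * z * n⁻¹, hv⟩ := hpV₀ _ (hpf _ hv)
    rw [h2, mul_inv_cancel]
  have h2 := key _ h1
  have h3 : n * z * n⁻¹ = pf (n * z * n⁻¹) := by
    have h4 := mul_inv_eq_one.mp h2
    exact congrArg Subtype.val h4
  exact hnz (by rw [h3]; exact hpf _ hv)

/-! ### Relative lines -/

variable {G : Type*} [Group G] [Finite G] {K F E₁ Q : Subgroup G}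

/-- **a relative line normalizing `E₁`**. -/
theorem KMaxE.false_of_lineR (h : KMaxE K F) (ht : TightAt K)
    (hcen : ∀ x ∈ K, x ∈ centralizer (K : Set G) → x = 1) (hle : E₁ ≤ F) (hFK : F ⊓ K ≤ E₁)
    (hend : ∃ n ∈ normalizer (E₁ : Set G), n ∉ normalizer (K : Set G))
    {V₀ : Subgroup G} (hV₀E : V₀ ≤ E₁) (hV₀C : V₀ ≤ centralizer (K : Set G)) (hV₀ : V₀ ≠ ⊥)
    (hV2 : ∀ v ∈ hull (normalizer (E₁ : Set G)) V₀, v * v = 1)
    (hab : ∀ x ∈ hull (normalizer (E₁ : Set G)) V₀, ∀ y ∈ hull (normalizer (E₁ : Set G)) V₀, x * y = y * x)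
    (hVN : ∀ n ∈ normalizer (E₁ : Set G), n ∈ normalizer (K : Set G) → ∀ x ∈ V₀, n * x * n⁻¹ ∈ V₀)
    (hdec : ∀ n ∈ normalizer (E₁ : Set G), ∀ v ∈ V₀, ∃ c ∈ V₀, ∃ k ∈ K, n * v * n⁻¹ = c * k)
    {D l : Subgroup G} (hl : IsLineR (E₁ ⊓ K) D l) (hl2 : IsPGroup 2 ↥l) (hlK : l ≤ K)
    (hlN : l ≤ normalizer (E₁ : Set G)) (hlE : ¬ l ≤ E₁)
    (hD : ∀ d ∈ D, ∀ v ∈ hull (normalizer (E₁ : Set G)) V₀, d * v = v * d)
    (hcent : ∀ t ∈ l, t ∈ E₁ → ∀ v ∈ hull (normalizer (E₁ : Set G)) V₀, t * v = v * t) : False := by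
  set N := normalizer (E₁ : Set G) with hN
  set C := centralizer (K : Set G) with hC
  have hcomm : ∀ k ∈ K, ∀ c ∈ C, k * c = c * k := fun k hk c hc => mem_centralizer_iff.mp hc k hk
  have hcjE : ∀ n ∈ N, ∀ x ∈ E₁, n * x * n⁻¹ ∈ E₁ := fun n hn x hx => (mem_normalizer_iff.mp hn x).mp hx
  have hVE : hull N V₀ ≤ E₁ := by
    unfold hull
    rw [closure_le]
    rintro _ ⟨n, hn, x, hx, rfl⟩
    exact hcjE n hn x (hV₀E hx)
  have hV₀V : V₀ ≤ hull N V₀ := fun x hx => subset_closure ⟨1, one_mem _, x, hx, by group⟩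
  have hv2 : ∀ v ∈ V₀, v * v = 1 := fun v hv => hV2 v (hV₀V hv)
  have hKM : ∀ m ∈ normalizer (K : Set G), ∀ k ∈ K, m * k * m⁻¹ ∈ K :=
    fun m hm k hk => (mem_normalizer_iff.mp hm k).mp hk
  have hl2' : ∀ x ∈ l, ∃ k : ℕ, x ^ 2 ^ k = 1 := by
    intro x hx
    obtain ⟨k, hk⟩ := hl2 ⟨x, hx⟩
    exact ⟨k, congrArg Subtype.val hk⟩
  have hbr : ∀ v ∈ hull N V₀, ∀ x ∈ l, v * x * v⁻¹ * x⁻¹ ∈ hull N V₀ ∧ v * x * v⁻¹ * x⁻¹ ∈ E₁ ⊓ K := by
    intro v hv x hx
    have h1 : v * x * v⁻¹ * x⁻¹ ∈ hull N V₀ := by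
      have e : v * x * v⁻¹ * x⁻¹ = v * (x * v⁻¹ * x⁻¹) := by group
      rw [e]
      exact mul_mem hv (hull_cj (hlN hx) (inv_mem hv))
    refine ⟨h1, hVE h1, ?_⟩
    exact K.mul_mem (hKM v (h.maxE.le (hle (hVE hv))) x (hlK hx)) (K.inv_mem (hlK hx))
  -- squares act trivially
  have hsq : ∀ x ∈ l, ∀ v ∈ hull N V₀, x * x * v = v * (x * x) := fun x hx v hv => hD _ (hl.sq x hx) v hv
  -- `[v, x]` commutes with `x`
  have hself : ∀ v ∈ hull N V₀, ∀ x ∈ l, x * (v * x * v⁻¹ * x⁻¹) = (v * x * v⁻¹ * x⁻¹) * x := by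
    intro v hv x hx
    have hvv := hV2 v hv
    have e1 : v⁻¹ = v := inv_eq_of_mul_eq_one_right hvv
    have h4 : x * v * x⁻¹ * v = v * (x * v * x⁻¹) := hab _ (hull_cj (hlN hx) hv) v hv
    have h5 := hsq x hx v hv
    have h6 : x * (x * v * x⁻¹) * x⁻¹ = v := by
      calc x * (x * v * x⁻¹) * x⁻¹ = x * x * v * (x * x)⁻¹ := by group
        _ = v := by rw [h5]; group
    rw [e1]
    calc x * (v * x * v * x⁻¹) = x * v * x⁻¹ * (x * (x * v * x⁻¹) * x⁻¹) * x := by group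
      _ = x * v * x⁻¹ * v * x := by rw [h6]
      _ = v * (x * v * x⁻¹) * x := by rw [h4]
      _ = v * x * v * x⁻¹ * x := by group
  have hquad : ∀ v ∈ hull N V₀, ∀ x ∈ l, ∀ x' ∈ l,
      x' * (v * x * v⁻¹ * x⁻¹) = (v * x * v⁻¹ * x⁻¹) * x' := by
    intro v hv x hx x' hx'
    by_cases hxD : x ∈ D
    · have h1 : v * x * v⁻¹ * x⁻¹ = 1 := by
        rw [← hD x hxD v hv]; group
      rw [h1]; simp
    · exact hl.star _ (hbr v hv x hx).2 x hx hxD (hself v hv x hx) x' hx'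
  obtain ⟨z, hz, hz1⟩ := (Subgroup.bot_or_exists_ne_one V₀).resolve_left hV₀
  have hz2 : orderOf z = 2 := orderOf_eq_prime (by rw [pow_two]; exact hv2 z hz) hz1
  have hinv : ∃ x ∈ E₁, x ∈ C ∧ orderOf x = 2 := ⟨z, hV₀E hz, hV₀C hz, hz2⟩
  -- elements outside `D` act nontrivially
  have hnt : ∀ t ∈ l, t ∉ D → ∃ v ∈ hull N V₀, t * v ≠ v * t := by
    intro t htl htD
    by_contra hcon
    push Not at hcon
    apply hlE
    intro x hx
    obtain ⟨n, hn, hnM⟩ := hend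
    have hv : n * z * n⁻¹ ∈ hull N V₀ := hull_cj hn (hV₀V hz)
    obtain ⟨c, hc, k, hk, hck⟩ := hdec n hn z hz
    have hkE : k ∈ E₁ ⊓ K := by
      refine mem_inf.mpr ⟨?_, hk⟩
      have h1 : k = c⁻¹ * (n * z * n⁻¹) := by rw [hck]; group
      rw [h1]
      exact mul_mem (inv_mem (hV₀E hc)) (hVE hv)
    have htk : t * k = k * t := by
      have h1 := hcon _ hv
      rw [hck] at h1
      have h2 : t * c = c * t := hcomm t (hlK htl) c (hV₀C hc)
      have h3 : c * (t * k) = c * (k * t) := by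
        calc c * (t * k) = (c * t) * k := by group
          _ = t * c * k := by rw [h2]
          _ = t * (c * k) := by group
          _ = c * k * t := h1
          _ = c * (k * t) := by group
      exact mul_left_cancel h3
    have hxk := hl.star k hkE t htl htD htk x hx
    have hxv : x * (n * z * n⁻¹) = n * z * n⁻¹ * x := by
      rw [hck]
      calc x * (c * k) = (x * c) * k := by group
        _ = (c * x) * k := by rw [hcomm x (hlK hx) c (hV₀C hc)]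
        _ = c * (x * k) := by group
        _ = c * (k * x) := by rw [hxk]
        _ = c * k * x := by group
    refine h.semi hle hFK hinv hn hnM (hlN hx) (hlK hx) (hl2' x hx) ?_
    have h1 : n⁻¹ * (n * z * n⁻¹) * n ∈ C := by
      have e : n⁻¹ * (n * z * n⁻¹) * n = z := by group
      rw [e]; exact hV₀C hz
    refine Tight.mem_of_comm ht h1 ?_ hxv
    rw [Basic.orderOf_conj]; exact hz2
  obtain ⟨a, ha, b, hb, haD, hbD, habD⟩ := hl.pair
  refine hull_falseR (K := K) (M := normalizer (K : Set G)) (N := N) (V₀ := V₀) (T := l)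
    ?_ hcen ?_ hV2 hab ?_ hVN hdec ?_ hlK hlN (hlK.trans le_normalizer) hl2 ?_ ?_
  · intro x hx k hk
    exact mem_centralizer_iff.mp (hV₀C hx) k hk
  · exact hKM
  · intro n _ hnc
    have h1 : (1 : G)⁻¹ * z * 1 ∈ C := by simpa using hV₀C hz
    have h2 := Tight.mem_of_comm ht h1 hz2 (hnc z (hV₀V hz))
    simpa using h2
  · obtain ⟨n, hn, hnM⟩ := hend
    refine ⟨n, hn, z, hz, ?_⟩
    intro h1
    exact hnM (ht.tight n z (hV₀C hz) hz2 (hV₀C h1))
  · intro n hn hnM s hs hns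
    exact hcent s hs (h.semi hle hFK hinv hn hnM (hlN hs) (hlK hs) (hl2' s hs) hns)
  · intro v hv
    refine ⟨a, ha, b, hb, hsq a ha, hsq b hb, ?_, hnt a ha haD, hnt b hb hbD,
      hnt _ (mul_mem (inv_mem ha) hb) habD, ?_⟩
    · -- `a b` and `b a` act in the same way
      intro w hw
      have h1 : a * b * (a * b) * w = w * (a * b * (a * b)) := hsq _ (mul_mem ha hb) w hw
      have h2 := hsq a ha
      have h3 := hsq b hb
      have hw' : (b * a) * w * (b * a)⁻¹ ∈ hull N V₀ := hull_cj (mul_mem (hlN hb) (hlN ha)) hw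
      -- `a b · (b a) w` : `a b b a` acts trivially
      have h4 : a * b * (b * a * w * (b * a)⁻¹) * (a * b)⁻¹ = w := by
        have h5 : a * w * a⁻¹ ∈ hull N V₀ := hull_cj (hlN ha) hw
        calc a * b * (b * a * w * (b * a)⁻¹) * (a * b)⁻¹ = a * (b * b * (a * w * a⁻¹) * (b * b)⁻¹) * a⁻¹ := by group
          _ = a * (a * w * a⁻¹) * a⁻¹ := by rw [h3 _ h5]; group
          _ = a * a * w * (a * a)⁻¹ := by group
          _ = w := by rw [h2 w hw]; group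
      have h6 : a * b * (a * b * w * (a * b)⁻¹) * (a * b)⁻¹ = w := by
        calc a * b * (a * b * w * (a * b)⁻¹) * (a * b)⁻¹ = a * b * (a * b) * w * (a * b * (a * b))⁻¹ := by group
          _ = w := by rw [h1]; group
      have h7 : a * b * (a * b * w * (a * b)⁻¹) * (a * b)⁻¹ = a * b * (b * a * w * (b * a)⁻¹) * (a * b)⁻¹ := by
        rw [h6, h4]
      exact mul_left_cancel (mul_right_cancel h7)
    · have hvv := hV2 v hv
      have e1 : v⁻¹ = v := inv_eq_of_mul_eq_one_right hvv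
      have h5 : b * (v * a * v⁻¹ * a⁻¹) = v * a * v⁻¹ * a⁻¹ * b := hquad v hv a ha b hb
      rw [e1] at h5
      have h6 : (v * a * v * a⁻¹) * (v * a * v * a⁻¹) = 1 := by
        have h7 := hV2 _ (hbr v hv a ha).1
        rwa [e1] at h7
      have hba : (b * v * b⁻¹) * (a * b * v * (a * b)⁻¹) = b * (v * (a * v * a⁻¹)) * b⁻¹ := by
        have h1 : a * b * (a * b) * v = v * (a * b * (a * b)) := hsq _ (mul_mem ha hb) v hv
        have h5 : a * v * a⁻¹ ∈ hull N V₀ := hull_cj (hlN ha) hv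
        have h4 : a * b * (b * a * v * (b * a)⁻¹) * (a * b)⁻¹ = v := by
          calc a * b * (b * a * v * (b * a)⁻¹) * (a * b)⁻¹
              = a * (b * b * (a * v * a⁻¹) * (b * b)⁻¹) * a⁻¹ := by group
            _ = a * (a * v * a⁻¹) * a⁻¹ := by rw [hsq b hb _ h5]; group
            _ = a * a * v * (a * a)⁻¹ := by group
            _ = v := by rw [hsq a ha v hv]; group
        have h6 : a * b * (a * b * v * (a * b)⁻¹) * (a * b)⁻¹ = v := by
          calc a * b * (a * b * v * (a * b)⁻¹) * (a * b)⁻¹ = a * b * (a * b) * v * (a * b * (a * b))⁻¹ := by group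
            _ = v := by rw [h1]; group
        have h7 : a * b * (a * b * v * (a * b)⁻¹) * (a * b)⁻¹ = a * b * (b * a * v * (b * a)⁻¹) * (a * b)⁻¹ := by
          rw [h6, h4]
        have h8 : a * b * v * (a * b)⁻¹ = b * a * v * (b * a)⁻¹ := mul_left_cancel (mul_right_cancel h7)
        rw [h8]; group
      rw [mul_assoc (v * (a * v * a⁻¹)), hba]
      calc v * (a * v * a⁻¹) * (b * (v * (a * v * a⁻¹)) * b⁻¹)
          = (v * a * v * a⁻¹) * (b * (v * a * v * a⁻¹)) * b⁻¹ := by group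
        _ = (v * a * v * a⁻¹) * (v * a * v * a⁻¹ * b) * b⁻¹ := by rw [h5]
        _ = (v * a * v * a⁻¹) * (v * a * v * a⁻¹) := by group
        _ = 1 := h6

/-- the case `V₀ = Ω₁(Z(E₁)) ∩ C(K)`, `Q ≤ E₁`, `D ≤ E₁` -/
theorem KMaxE.false_of_lineR_omegaZ (h : KMaxE K F) (ht : TightAt K)
    (hcen : ∀ x ∈ K, x ∈ centralizer (K : Set G) → x = 1)
    (hQ : IsSyl Q (centralizer (K : Set G))) (hQE : Q ≤ E₁) (hle : E₁ ≤ F) (hFK : F ⊓ K ≤ E₁)
    (hend : ∃ n ∈ normalizer (E₁ : Set G), n ∉ normalizer (K : Set G))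
    (hinn : ∀ n ∈ normalizer (E₁ : Set G), ∀ v ∈ omegaZ E₁ (centralizer (K : Set G)),
      ∃ c ∈ centralizer (K : Set G), ∃ k ∈ K, n * v * n⁻¹ = c * k)
    {D l : Subgroup G} (hl : IsLineR (E₁ ⊓ K) D l) (hl2 : IsPGroup 2 ↥l) (hlK : l ≤ K)
    (hlN : l ≤ normalizer (E₁ : Set G)) (hlE : ¬ l ≤ E₁) (hD : D ≤ E₁) : False := by
  have hE2 : IsPGroup 2 ↥E₁ := h.maxE.isPGroup.to_le hle
  have hEM : E₁ ≤ normalizer (K : Set G) := hle.trans h.maxE.le
  have hVZ := hull_omegaZ (C := centralizer (K : Set G)) (E := E₁)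
  have hV₀ : omegaZ E₁ (centralizer (K : Set G)) ≠ ⊥ := by
    obtain ⟨x, hx, hxC, hx2⟩ := h.maxE.exists_inv
    -- an involution of `Q`
    obtain ⟨m, hm, hmq⟩ := hQ.conj_into (Q := zpowers x) (by
      rw [IsPGroup.iff_card]; exact ⟨1, by rw [Nat.card_zpowers, hx2]; norm_num⟩) (zpowers_le.mpr hxC)
    have hy := hmq x (mem_zpowers x)
    have hy2 : orderOf (m * x * m⁻¹) = 2 := by rw [Basic.orderOf_conj]; exact hx2
    obtain ⟨z, hzE, hzC, hz2, hzc⟩ := exists_central_involution (S := E₁) (N := E₁ ⊓ centralizer (K : Set G))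
      hE2 (by
        intro s hs n hn
        exact mem_inf.mpr ⟨mul_mem (mul_mem hs hn.1) (inv_mem hs), ht.norm s (hEM hs) n hn.2⟩)
      ⟨_, hQE hy, ⟨hQE hy, hQ.le hy⟩, by
        intro h1
        rw [h1, orderOf_one] at hy2; exact absurd hy2 (by norm_num)⟩
    intro hbot
    have hz : z ∈ omegaZ E₁ (centralizer (K : Set G)) :=
      ⟨hzE, hzC.2, by rw [← pow_two, ← hz2]; exact pow_orderOf_eq_one z, hzc⟩
    rw [hbot, mem_bot] at hz
    rw [hz, orderOf_one] at hz2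
    exact absurd hz2 (by norm_num)
  refine KMaxE.false_of_lineR h ht hcen hle hFK hend (V₀ := omegaZ E₁ (centralizer (K : Set G)))
    (fun x hx => hx.1) (fun x hx => hx.2.1) hV₀ (fun v hv => (hVZ v hv).2.1)
    (fun x hx y hy => (hVZ y hy).2.2 x (hVZ x hx).1) ?_ ?_ hl hl2 hlK hlN hlE
    (fun d hd v hv => (hVZ v hv).2.2 d (hD hd)) (fun t _ htE v hv => (hVZ v hv).2.2 t htE)
  · intro n hn hnM x hx
    have h1 := hVZ _ (hull_cj (v := x) hn (subset_closure ⟨1, one_mem _, x, hx, by group⟩))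
    exact ⟨h1.1, ht.norm n hnM x hx.2.1, h1.2.1, h1.2.2⟩
  · intro n hn v hv
    obtain ⟨c, hc, k, hk, hck⟩ := hinn n hn v hv
    have h1 := hVZ _ (hull_cj (v := v) hn (subset_closure ⟨1, one_mem _, v, hv, by group⟩))
    rw [hck] at h1
    refine ⟨c, comp_omegaZ ht hcen hQ hQE hEM hc hk h1.1 h1.2.1 h1.2.2, k, hk, hck⟩

end Cfsg.Agent.OddHalf.D4.LineR

end
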