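import Cfsg.Agent.OddHalf.D9.EEight.Move
import Cfsg.Agent.OddHalf.D9.EEight.Facts
import Cfsg.Agent.OddHalf.D9.EEight.FrameHom

-- merged: Cfsg.Agent.OddHalf.D9.EEight.Fields
section

/-!
# The easy fields of `EF det neg IsRefl` (helper109)

`c_ne`, `c_sq`, `c_comm`, `c_det`, `cenK`, `rf_det`, `rf_neg`, `rf_conj`, `rf_trans`.
-/

set_option autoImplicit false

namespace Cfsg.Agent.OddHalf.D9.EEight.Fields

open Coord Move

theorem single_ne : (Pi.single 0 1 : Lat) ≠ 0 := by
  intro h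
  have := congrFun h 0
  simp at this

theorem c_ne : (neg : W) ≠ 1 := by
  intro h
  have h1 : ap neg (Pi.single 0 1) = ap 1 (Pi.single 0 1) := by rw [h]
  rw [ap_neg_one, ap_one] at h1
  have := congrFun h1 0
  simp at this

theorem c_sq : (neg : W) * neg = 1 := ext_ap fun x => by rw [ap_mul, ap_neg_one, ap_neg_one, neg_neg, ap_one]

theorem c_comm (w : W) : neg * w = w * neg := ext_ap fun x => by
  rw [ap_mul, ap_mul, ap_neg_one, ap_neg_one, ap_neg]

theorem coe_det (w : W) :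
    ((det w : ℤˣ) : ℤ) = ((w : (Matrix (Fin 8) (Fin 8) ℤ)ˣ) : Matrix (Fin 8) (Fin 8) ℤ).det := by
  unfold det
  rw [MonoidHom.comp_apply, Units.coe_map, Matrix.coe_detMonoidHom]
  rfl

theorem c_det : det (neg : W) = 1 := by
  apply Units.ext
  rw [coe_det]
  show (-1 : Matrix (Fin 8) (Fin 8) ℤ).det = 1
  rw [Matrix.det_neg, Matrix.det_one]
  simp

theorem refl_coe {a : Lat} (ha : IsRoot a) :
    (((refl ha : W) : (Matrix (Fin 8) (Fin 8) ℤ)ˣ) : Matrix (Fin 8) (Fin 8) ℤ) =
      1 + Matrix.replicateCol (Fin 1) (-a) * Matrix.replicateRow (Fin 1) (Matrix.mulVec GM a) := by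
  apply Matrix.ext_of_mulVec_single
  intro i
  have h := ap_refl ha (Pi.single i 1)
  unfold ap at h
  rw [h, Matrix.add_mulVec, Matrix.one_mulVec, ← Matrix.mulVec_mulVec, sub_eq_add_neg]
  congr 1
  have e : form (Pi.single i 1) a = Matrix.mulVec GM a i := by
    unfold form
    rw [single_dotProduct, one_mul]
  rw [e]
  funext j
  rw [Matrix.mulVec_single_one]
  generalize Matrix.mulVec GM a = g
  simp [Matrix.mulVec, dotProduct, mul_comm]

theorem row_col (u v : Lat) : Matrix.replicateRow (Fin 1) v * Matrix.replicateCol (Fin 1) u =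
    Matrix.of fun _ _ => dotProduct v u := by
  ext i j
  simp [Matrix.mul_apply, Matrix.replicateCol, Matrix.replicateRow, dotProduct]

theorem rf_det' {a : Lat} (ha : IsRoot a) : det (refl ha) = -1 := by
  apply Units.ext
  have : dotProduct (Matrix.mulVec GM a) (-a) = - form a a := by
    rw [dotProduct_neg, dotProduct_comm]; rfl
  rw [coe_det, refl_coe, Matrix.det_one_add_mul_comm, row_col, Matrix.det_fin_one, this, show form a a = 2 from ha]
  rfl

theorem rf_det (ρ : W) (h : IsRefl ρ) : det ρ = -1 := by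
  obtain ⟨a, ha, rfl⟩ := h
  exact rf_det' ha

theorem trace_refl {a : Lat} (ha : IsRoot a) :
    Matrix.trace (((refl ha : W) : (Matrix (Fin 8) (Fin 8) ℤ)ˣ) : Matrix (Fin 8) (Fin 8) ℤ) = 6 := by
  have : dotProduct (Matrix.mulVec GM a) (-a) = - form a a := by
    rw [dotProduct_neg, dotProduct_comm]; rfl
  rw [refl_coe, Matrix.trace_add, Matrix.trace_one, Matrix.trace_mul_comm, row_col, Matrix.trace_fin_one, this,
    show form a a = 2 from ha]
  rfl

theorem rf_neg (ρ : W) (h : IsRefl ρ) : ¬ IsRefl (neg * ρ) := by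
  obtain ⟨a, ha, rfl⟩ := h
  rintro ⟨b, hb, e⟩
  have h1 := trace_refl hb
  rw [← e] at h1
  have h2 : (((neg * refl ha : W) : (Matrix (Fin 8) (Fin 8) ℤ)ˣ) : Matrix (Fin 8) (Fin 8) ℤ) =
      - (((refl ha : W) : (Matrix (Fin 8) (Fin 8) ℤ)ˣ) : Matrix (Fin 8) (Fin 8) ℤ) := by
    show (-1 : Matrix (Fin 8) (Fin 8) ℤ) * _ = _
    rw [neg_one_mul]
  rw [h2, Matrix.trace_neg, trace_refl ha] at h1
  omega

theorem conj_refl (w : W) {a : Lat} (ha : IsRoot a) : w * refl ha * w⁻¹ = refl (isRoot_ap ha w) := by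
  apply ext_ap
  intro x
  rw [ap_mul, ap_mul, ap_refl, ap_refl, ap_sub, ap_ap_inv, ap_smul, form_ap_left, inv_inv]

theorem rf_conj (ρ w : W) (h : IsRefl ρ) : IsRefl (w * ρ * w⁻¹) := by
  obtain ⟨a, ha, rfl⟩ := h
  exact ⟨_, _, conj_refl w ha⟩

theorem refl_congr {a b : Lat} (ha : IsRoot a) (hb : IsRoot b) (h : a = b) : refl ha = refl hb := by
  subst h; rfl

theorem refl_neg {a : Lat} (ha : IsRoot a) : refl (isRoot_neg ha) = refl ha := by
  apply ext_ap
  intro x
  rw [ap_refl, ap_refl, form_neg_right, smul_neg, neg_smul, neg_neg]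

/-- some element of determinant one maps `a` to `± b` -/
theorem exists_K {a b : Lat} (ha : IsRoot a) (hb : IsRoot b) :
    ∃ k : W, det k = 1 ∧ (ap k a = b ∨ ap k a = -b) := by
  obtain ⟨v, hv⟩ := trans1 ha
  obtain ⟨u, hu⟩ := trans1 hb
  have hw : ap (u⁻¹ * v) a = b := by rw [ap_mul, hv, ← hu, ap_inv_ap]
  rcases Int.units_eq_one_or (det (u⁻¹ * v)) with h | h
  · exact ⟨_, h, Or.inl hw⟩
  · refine ⟨refl hb * (u⁻¹ * v), by rw [map_mul, h, rf_det']; rfl, Or.inr ?_⟩
    rw [ap_mul, hw, ap_refl_self]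

theorem rf_trans (ρ τ : W) (h : IsRefl ρ) (h' : IsRefl τ) : ∃ k : W, det k = 1 ∧ k * ρ * k⁻¹ = τ := by
  obtain ⟨a, ha, rfl⟩ := h
  obtain ⟨b, hb, rfl⟩ := h'
  obtain ⟨k, hk, h1 | h1⟩ := exists_K ha hb
  · exact ⟨k, hk, (conj_refl k ha).trans (refl_congr _ _ h1)⟩
  · exact ⟨k, hk, ((conj_refl k ha).trans (refl_congr _ (isRoot_neg hb) h1)).trans (refl_neg hb)⟩

/-- a root in the plane of two orthogonal roots -/
theorem plane {a b r : Lat} (ha : IsRoot a) (hb : IsRoot b) (hab : form a b = 0) (hr : IsRoot r)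
    (h : ap (refl ha * refl hb) r = -r) : r = a ∨ r = -a ∨ r = b ∨ r = -b := by
  rw [ap_mul, ap_refl hb, ap_refl ha, form_sub_left, form_smul_left, form_comm b a, hab, mul_zero, sub_zero] at h
  -- `2 r = (r, a) a + (r, b) b`
  have h2 : (2 : ℤ) • r = form r a • a + form r b • b := by
    rw [two_smul]
    have : r + r = form r a • a + form r b • b + (r - form r b • b - form r a • a) + r := by abel
    rw [this, h]; abel
  have h3 : form ((2 : ℤ) • r) r = 4 := by
    rw [form_smul_left, show form r r = 2 from hr]; norm_num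
  rw [h2, form_add_left, form_smul_left, form_smul_left, form_comm a r, form_comm b r] at h3
  have b1 := root_bound hr ha
  have b2 := root_bound hr hb
  generalize hx : form r a = x at *
  generalize hy : form r b = y at *
  have hx' : x = -2 ∨ x = -1 ∨ x = 0 ∨ x = 1 ∨ x = 2 := by omega
  have hy' : y = -2 ∨ y = -1 ∨ y = 0 ∨ y = 1 ∨ y = 2 := by omega
  rcases hx' with rfl | rfl | rfl | rfl | rfl
  · right; left
    have := eq_neg_of_form hr ha hx
    rw [this, neg_neg]
  · rcases hy' with rfl | rfl | rfl | rfl | rfl <;> omega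
  · rcases hy' with rfl | rfl | rfl | rfl | rfl
    · right; right; right
      have := eq_neg_of_form hr hb hy
      rw [this, neg_neg]
    · omega
    · omega
    · omega
    · right; right; left
      exact eq_of_form hr hb hy
  · rcases hy' with rfl | rfl | rfl | rfl | rfl <;> omega
  · left
    exact eq_of_form hr ha hx

/-- for every root there are three pairwise orthogonal roots orthogonal to it -/
theorem exists_orth {a : Lat} (ha : IsRoot a) : ∃ b c, IsRoot b ∧ IsRoot c ∧ form a b = 0 ∧ form a c = 0 ∧ form b c = 0 := by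
  obtain ⟨w, hw⟩ := trans1 ha
  have h2 : ([0, 0, 2, 2, 0, 0, 0, 0] : List ℤ) ∈ RL := by decide +kernel
  have h3 : ([0, 0, 2, -2, 0, 0, 0, 0] : List ℤ) ∈ RL := by decide +kernel
  have r2 := isRoot_unL h2
  have r3 := isRoot_unL h3
  have f2 := form_unL t1_mem h2
  have f3 := form_unL t1_mem h3
  have f23 := form_unL h2 h3
  have e2 : dotL t1 [0, 0, 2, 2, 0, 0, 0, 0] = 0 := by decide
  have e3 : dotL t1 [0, 0, 2, -2, 0, 0, 0, 0] = 0 := by decide
  have e23 : dotL [0, 0, 2, 2, 0, 0, 0, 0] [0, 0, 2, -2, 0, 0, 0, 0] = 0 := by decide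
  refine ⟨ap w⁻¹ (unL [0, 0, 2, 2, 0, 0, 0, 0]), ap w⁻¹ (unL [0, 0, 2, -2, 0, 0, 0, 0]), isRoot_ap r2 _, isRoot_ap r3 _,
    ?_, ?_, ?_⟩
  · rw [← form_ap_left, hw]; omega
  · rw [← form_ap_left, hw]; omega
  · rw [form_ap]; omega

/-- an element commuting with `K₀` maps every root to itself up to sign -/
theorem sign_of_comm {w : W} (h : ∀ k : W, det k = 1 → w * k = k * w) {a : Lat} (ha : IsRoot a) :
    ap w a = a ∨ ap w a = -a := by
  obtain ⟨b, c, hb, hc, hab, hac, hbc⟩ := exists_orth ha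
  have key : ∀ {b : Lat} (hb : IsRoot b), form a b = 0 → ap w a = a ∨ ap w a = -a ∨ ap w a = b ∨ ap w a = -b := by
    intro b hb hab
    apply plane ha hb hab (isRoot_ap ha w)
    have h1 : det (refl ha * refl hb) = 1 := by rw [map_mul, rf_det', rf_det']; rfl
    rw [← ap_mul, ← h _ h1, ap_mul, ap_mul, ap_refl_orth hb hab, ap_refl_self, ap_neg]
  rcases key hb hab with h1 | h1 | h1 | h1
  · exact Or.inl h1
  · exact Or.inr h1
  · exfalso
    have e : form a a = 2 := ha
    have e' : form b b = 2 := hb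
    rcases key hc hac with h2 | h2 | h2 | h2
    · rw [← h1, h2] at hab; omega
    · rw [← h1, h2, form_neg_right] at hab; omega
    · rw [h1] at h2; rw [← h2] at hbc; omega
    · rw [h1] at h2
      have h3 : c = -b := by rw [h2, neg_neg]
      rw [h3, form_neg_right] at hbc; omega
  · exfalso
    have e : form a a = 2 := ha
    have e' : form b b = 2 := hb
    have h3 : b = - ap w a := by rw [h1, neg_neg]
    rcases key hc hac with h2 | h2 | h2 | h2
    · rw [h3, h2, form_neg_right] at hab; omega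
    · rw [h3, h2, neg_neg] at hab; omega
    · rw [h1] at h2; rw [← h2, form_neg_right] at hbc; omega
    · rw [h1] at h2; rw [← neg_injective h2] at hbc; omega

/-- simple roots -/
theorem isRoot_single (i : Fin 8) : IsRoot (Pi.single i 1) := by
  have : ∀ i : Fin 8, form (Pi.single i 1) (Pi.single i 1) = 2 := by decide +kernel
  exact this i

theorem ext_single {v w : W} (h : ∀ i, ap v (Pi.single i 1) = ap w (Pi.single i 1)) : v = w := by
  apply Subtype.ext
  apply Units.ext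
  apply Matrix.ext_of_mulVec_single
  intro i
  exact h i

/-- adjacent simple roots -/
theorem path : ∀ i : Fin 8, i ≠ 0 → ∃ j : Fin 8, j < i ∧ form (Pi.single i 1) (Pi.single j 1) ≠ 0 ∨
    i = 1 := by decide +kernel

theorem cenK (w : W) (h : ∀ k : W, det k = 1 → w * k = k * w) : w = 1 ∨ w = neg := by
  have hs : ∀ i : Fin 8, ap w (Pi.single i 1) = Pi.single i 1 ∨ ap w (Pi.single i 1) = -Pi.single i 1 :=
    fun i => sign_of_comm h (isRoot_single i)
  -- adjacent
  have hadj : ∀ i j : Fin 8, form (Pi.single i 1) (Pi.single j 1) ≠ 0 →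
      (ap w (Pi.single i 1) = Pi.single i 1 ↔ ap w (Pi.single j 1) = Pi.single j 1) := by
    intro i j hij
    have ni : ∀ i : Fin 8, (Pi.single i 1 : Lat) ≠ - Pi.single i 1 := by
      intro i h
      have := congrFun h i
      simp at this
    have e := form_ap w (Pi.single i 1) (Pi.single j 1)
    rcases hs i with h1 | h1 <;> rcases hs j with h2 | h2
    · exact ⟨fun _ => h2, fun _ => h1⟩
    · rw [h1, h2, form_neg_right] at e; omega
    · rw [h1, h2, form_neg_left] at e; omega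
    · rw [h1, h2]
      exact ⟨fun h => absurd h.symm (ni i), fun h => absurd h.symm (ni j)⟩
  have e02 := hadj 0 2 (by decide +kernel)
  have e13 := hadj 1 3 (by decide +kernel)
  have e23 := hadj 2 3 (by decide +kernel)
  have e34 := hadj 3 4 (by decide +kernel)
  have e45 := hadj 4 5 (by decide +kernel)
  have e56 := hadj 5 6 (by decide +kernel)
  have e67 := hadj 6 7 (by decide +kernel)
  rcases hs 0 with h0 | h0
  · left
    apply ext_single
    intro i
    rw [ap_one]
    have a2 := e02.1 h0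
    have a3 := e23.1 a2
    have a4 := e34.1 a3
    have a5 := e45.1 a4
    have a6 := e56.1 a5
    fin_cases i
    exacts [h0, e13.2 a3, a2, a3, a4, a5, a6, e67.1 a6]
  · right
    have n0 : ¬ ap w (Pi.single 0 1) = Pi.single 0 1 := by
      intro h
      rw [h0] at h
      have := congrFun h 0
      simp at this
    have a2 := fun h => n0 (e02.2 h)
    have a3 := fun h => a2 (e23.2 h)
    have a4 := fun h => a3 (e34.2 h)
    have a5 := fun h => a4 (e45.2 h)
    have a6 := fun h => a5 (e56.2 h)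
    have a7 := fun h => a6 (e67.2 h)
    have a1 := fun h => a3 (e13.1 h)
    apply ext_single
    intro i
    rw [ap_neg_one]
    fin_cases i
    exacts [h0, (hs 1).resolve_left a1, (hs 2).resolve_left a2, (hs 3).resolve_left a3, (hs 4).resolve_left a4,
      (hs 5).resolve_left a5, (hs 6).resolve_left a6, (hs 7).resolve_left a7]

end Cfsg.Agent.OddHalf.D9.EEight.Fields

end

-- merged: Cfsg.Agent.OddHalf.D4.EvenEComb
section

/-!
# Sign vectors and the Hamming code: invariance under the involutions `(i j)(k l)` of `AGL₃(2)` (helper807)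

* `autCode_dbl`: the double transposition `(i j)(k l)`, `l = i + j + k` in `𝔽₂³`, preserves the code.
* `comb`: if every `(i j)(k l)` fixing `ε` fixes `η`, and every `(i j)(k l)` fixing `ε η` fixes `η`, then one of `ε`, `η`,
  `ε η` is `± 1`.
* `exists_move`: `ε ≠ ± 1` is moved by some `(i j)(k l)`, not to `- ε`.
-/

set_option autoImplicit false
set_option Elab.async false

namespace Cfsg.Agent.OddHalf.D4.EvenEComb

open Cfsg.Agent.OddHalf.D9.EEight Equiv

/-- `i + j + k` in `𝔽₂³` -/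
def x3 (i j k : Fin 8) : Fin 8 := i ^^^ j ^^^ k

/-- the double transposition `(i j)(k l)` -/
def dbl (i j k : Fin 8) : Perm (Fin 8) := swap i j * swap k (x3 i j k)

/-- the sign of a Boolean -/
def sB (b : Bool) : ℤˣ := bif b then -1 else 1

theorem sB_inj : ∀ a b, sB a = sB b ↔ a = b := by decide
theorem exists_sB : ∀ u : ℤˣ, ∃ b, u = sB b := by decide
theorem sB_mul : ∀ a b, sB a * sB b = sB (xor a b) := by decide
theorem sB_eq_one : ∀ a, sB a = 1 ↔ a = false := by decide

/-- a Boolean vector -/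
def vec (e0 e1 e2 e3 e4 e5 e6 e7 : Bool) (i : Fin 8) : Bool :=
  match i with
  | 0 => e0 | 1 => e1 | 2 => e2 | 3 => e3 | 4 => e4 | 5 => e5 | 6 => e6 | 7 => e7

theorem code_bool : ∀ e0 e1 e2 e3 e4 e5 e6 e7 : Bool,
    xor (xor (xor e0 e1) (xor e2 e3)) (xor (xor e4 e5) (xor e6 e7)) = false →
    xor (xor e1 e3) (xor e5 e7) = false → xor (xor e2 e3) (xor e6 e7) = false →
    xor (xor e4 e5) (xor e6 e7) = false →
    ∀ i j k : Fin 8, xor (xor (vec e0 e1 e2 e3 e4 e5 e6 e7 i) (vec e0 e1 e2 e3 e4 e5 e6 e7 j))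
      (xor (vec e0 e1 e2 e3 e4 e5 e6 e7 k) (vec e0 e1 e2 e3 e4 e5 e6 e7 (x3 i j k))) = false := by
  decide +kernel

theorem code_x3 {ε : Sg} (h : IsCode ε) (i j k : Fin 8) : ε i * ε j * ε k * ε (x3 i j k) = 1 := by
  have he : ∀ i, ∃ b, ε i = sB b := fun i => exists_sB (ε i)
  choose e he using he
  obtain ⟨h0, h1, h2, h3⟩ := h
  rw [prd_apply, Fin.prod_univ_eight] at h0
  simp only [he, sB_mul, sB_eq_one] at h0 h1 h2 h3 ⊢
  have key := code_bool (e 0) (e 1) (e 2) (e 3) (e 4) (e 5) (e 6) (e 7)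
    (by rw [← h0]; simp only [Bool.xor_assoc]) (by rw [← h1]; simp only [Bool.xor_assoc])
    (by rw [← h2]; simp only [Bool.xor_assoc]) (by rw [← h3]; simp only [Bool.xor_assoc]) i j k
  have hv : ∀ i, vec (e 0) (e 1) (e 2) (e 3) (e 4) (e 5) (e 6) (e 7) i = e i := by
    intro i; fin_cases i <;> rfl
  rw [hv, hv, hv, hv] at key
  rw [← key]
  simp only [Bool.xor_assoc]

theorem autCode_of {σ : Perm (Fin 8)} (h1 : x3 (σ 1) (σ 3) (σ 5) = σ 7) (h2 : x3 (σ 2) (σ 3) (σ 6) = σ 7)
    (h3 : x3 (σ 4) (σ 5) (σ 6) = σ 7) : AutCode σ := by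
  intro ε hε
  refine ⟨?_, ?_, ?_, ?_⟩
  · rw [prd_pm]; exact hε.1
  · simp only [pm_apply]; rw [← h1]; exact code_x3 hε _ _ _
  · simp only [pm_apply]; rw [← h2]; exact code_x3 hε _ _ _
  · simp only [pm_apply]; rw [← h3]; exact code_x3 hε _ _ _

theorem autCode_dbl {i j k : Fin 8} (hij : i ≠ j) (hki : k ≠ i) (hkj : k ≠ j) : AutCode (dbl i j k) := by
  have key : ∀ i j k : Fin 8, i ≠ j → k ≠ i → k ≠ j →
      x3 (dbl i j k 1) (dbl i j k 3) (dbl i j k 5) = dbl i j k 7 ∧
      x3 (dbl i j k 2) (dbl i j k 3) (dbl i j k 6) = dbl i j k 7 ∧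
      x3 (dbl i j k 4) (dbl i j k 5) (dbl i j k 6) = dbl i j k 7 := by decide +kernel
  obtain ⟨h1, h2, h3⟩ := key i j k hij hki hkj
  exact autCode_of h1 h2 h3

theorem x3_ne {i j k : Fin 8} (hij : i ≠ j) (hki : k ≠ i) (hkj : k ≠ j) :
    x3 i j k ≠ i ∧ x3 i j k ≠ j ∧ x3 i j k ≠ k := by
  revert i j k; decide +kernel

theorem dbl_left {i j k : Fin 8} (hij : i ≠ j) (hki : k ≠ i) (hkj : k ≠ j) : dbl i j k i = j := by
  obtain ⟨h1, h2, h3⟩ := x3_ne hij hki hkj
  unfold dbl
  rw [Perm.mul_apply, swap_apply_of_ne_of_ne hki.symm h1.symm, swap_apply_left]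

/-- if `ε` is constant on `{i, j}` and on `{k, l}` it is fixed -/
theorem pm_dbl {i j k : Fin 8} {ε : Sg} (hij : i ≠ j) (hki : k ≠ i) (hkj : k ≠ j) (h1 : ε i = ε j)
    (h2 : ε k = ε (x3 i j k)) : pm (dbl i j k) ε = ε := by
  obtain ⟨n1, n2, n3⟩ := x3_ne hij hki hkj
  funext x
  rw [pm_apply]
  unfold dbl
  rw [Perm.mul_apply]
  by_cases hk : x = k
  · subst hk
    rw [swap_apply_left, swap_apply_of_ne_of_ne n1 n2, h2]
  by_cases hl : x = x3 i j k
  · rw [hl, swap_apply_right, swap_apply_of_ne_of_ne hki hkj, h2]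
  rw [swap_apply_of_ne_of_ne hk hl]
  by_cases hi : x = i
  · subst hi; rw [swap_apply_left, h1]
  by_cases hj : x = j
  · subst hj; rw [swap_apply_right, h1]
  rw [swap_apply_of_ne_of_ne hi hj]

/-! ### The check -/

/-- equality of Booleans -/
def eqb (a b : Bool) : Bool := bif a then b else !b
/-- implication -/
def imp (a b : Bool) : Bool := bif a then b else true

/-- the rule in one direction -/
def dr (b0 b1 b2 b3 B0 B1 B2 B3 : Bool) : Bool :=
  (imp (b0 && b1) (B0 && B1)) && (imp (b0 && b2) (B0 && B2)) && (imp (b0 && b3) (B0 && B3)) &&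
  (imp (b1 && b2) (B1 && B2)) && (imp (b1 && b3) (B1 && B3)) && (imp (b2 && b3) (B2 && B3))

/-- the rule -/
def rule (e0 e1 e2 e3 e4 e5 e6 e7 h0 h1 h2 h3 h4 h5 h6 h7 : Bool) : Bool :=
  dr (eqb e0 e1) (eqb e2 e3) (eqb e4 e5) (eqb e6 e7) (eqb h0 h1) (eqb h2 h3) (eqb h4 h5) (eqb h6 h7) &&
  dr (eqb e0 e2) (eqb e1 e3) (eqb e4 e6) (eqb e5 e7) (eqb h0 h2) (eqb h1 h3) (eqb h4 h6) (eqb h5 h7) &&
  dr (eqb e0 e3) (eqb e1 e2) (eqb e4 e7) (eqb e5 e6) (eqb h0 h3) (eqb h1 h2) (eqb h4 h7) (eqb h5 h6) &&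
  dr (eqb e0 e4) (eqb e1 e5) (eqb e2 e6) (eqb e3 e7) (eqb h0 h4) (eqb h1 h5) (eqb h2 h6) (eqb h3 h7) &&
  dr (eqb e0 e5) (eqb e1 e4) (eqb e2 e7) (eqb e3 e6) (eqb h0 h5) (eqb h1 h4) (eqb h2 h7) (eqb h3 h6) &&
  dr (eqb e0 e6) (eqb e1 e7) (eqb e2 e4) (eqb e3 e5) (eqb h0 h6) (eqb h1 h7) (eqb h2 h4) (eqb h3 h5) &&
  dr (eqb e0 e7) (eqb e1 e6) (eqb e2 e5) (eqb e3 e4) (eqb h0 h7) (eqb h1 h6) (eqb h2 h5) (eqb h3 h4)

/-- all Booleans -/
def allB (f : Bool → Bool) : Bool := f false && f true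

theorem allB_spec {f : Bool → Bool} (h : allB f = true) (b : Bool) : f b = true := by
  unfold allB at h
  rw [Bool.and_eq_true] at h
  cases b
  · exact h.1
  · exact h.2

/-- all entries equal to zero -/
def zr (a1 a2 a3 a4 a5 a6 a7 : Bool) : Bool := !(a1 || a2 || a3 || a4 || a5 || a6 || a7)

/-- the statement to check -/
def chk (e1 e2 e3 e4 e5 e6 e7 h1 h2 h3 h4 h5 h6 h7 : Bool) : Bool :=
  imp (rule false e1 e2 e3 e4 e5 e6 e7 false h1 h2 h3 h4 h5 h6 h7)
    (imp (rule false (xor e1 h1) (xor e2 h2) (xor e3 h3) (xor e4 h4) (xor e5 h5) (xor e6 h6) (xor e7 h7)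
      false h1 h2 h3 h4 h5 h6 h7)
      (zr e1 e2 e3 e4 e5 e6 e7 || zr h1 h2 h3 h4 h5 h6 h7 ||
        zr (xor e1 h1) (xor e2 h2) (xor e3 h3) (xor e4 h4) (xor e5 h5) (xor e6 h6) (xor e7 h7)))

theorem check : (allB fun e1 => allB fun e2 => allB fun e3 => allB fun e4 => allB fun e5 => allB fun e6 =>
    allB fun e7 => allB fun h1 => allB fun h2 => allB fun h3 => allB fun h4 => allB fun h5 => allB fun h6 =>
    allB fun h7 => chk e1 e2 e3 e4 e5 e6 e7 h1 h2 h3 h4 h5 h6 h7) = true := by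
  decide +kernel

theorem check' (e1 e2 e3 e4 e5 e6 e7 h1 h2 h3 h4 h5 h6 h7 : Bool) :
    chk e1 e2 e3 e4 e5 e6 e7 h1 h2 h3 h4 h5 h6 h7 = true :=
  allB_spec (allB_spec (allB_spec (allB_spec (allB_spec (allB_spec (allB_spec (allB_spec (allB_spec (allB_spec
    (allB_spec (allB_spec (allB_spec (allB_spec check e1) e2) e3) e4) e5) e6) e7) h1) h2) h3) h4) h5) h6) h7

theorem eqb_true : ∀ a b, eqb a b = true ↔ a = b := by decide
theorem imp_true : ∀ a b, imp a b = true ↔ (a = true → b = true) := by decide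

/-- the rule for Boolean vectors -/
def Rl (e h : Fin 8 → Bool) : Prop :=
  ∀ i j k : Fin 8, i ≠ j → k ≠ i → k ≠ j → e i = e j → e k = e (x3 i j k) → h i = h j

theorem Rl.two {e h : Fin 8 → Bool} (H : Rl e h) {i j k l : Fin 8} (hij : i ≠ j) (hki : k ≠ i) (hkj : k ≠ j)
    (hl : x3 i j k = l) (hk : x3 k l i = j) (hkl : k ≠ l) (hil : i ≠ l) :
    imp (eqb (e i) (e j) && eqb (e k) (e l)) (eqb (h i) (h j) && eqb (h k) (h l)) = true := by
  rw [imp_true, Bool.and_eq_true, Bool.and_eq_true, eqb_true, eqb_true, eqb_true, eqb_true]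
  rintro ⟨h1, h2⟩
  exact ⟨H i j k hij hki hkj h1 (by rw [hl]; exact h2), H k l i hkl hki.symm hil h2 (by rw [hk]; exact h1)⟩

theorem Rl.rule {e h : Fin 8 → Bool} (H : Rl e h) :
    rule (e 0) (e 1) (e 2) (e 3) (e 4) (e 5) (e 6) (e 7) (h 0) (h 1) (h 2) (h 3) (h 4) (h 5) (h 6) (h 7) = true := by
  unfold EvenEComb.rule dr
  simp only [Bool.and_eq_true]
  refine ⟨⟨⟨⟨⟨⟨?_, ?_⟩, ?_⟩, ?_⟩, ?_⟩, ?_⟩, ?_⟩ <;>
    exact ⟨⟨⟨⟨⟨H.two (by decide) (by decide) (by decide) (by decide) (by decide) (by decide) (by decide),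
      H.two (by decide) (by decide) (by decide) (by decide) (by decide) (by decide) (by decide)⟩,
      H.two (by decide) (by decide) (by decide) (by decide) (by decide) (by decide) (by decide)⟩,
      H.two (by decide) (by decide) (by decide) (by decide) (by decide) (by decide) (by decide)⟩,
      H.two (by decide) (by decide) (by decide) (by decide) (by decide) (by decide) (by decide)⟩,
      H.two (by decide) (by decide) (by decide) (by decide) (by decide) (by decide) (by decide)⟩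

theorem zr_spec (a1 a2 a3 a4 a5 a6 a7 : Bool) (h : zr a1 a2 a3 a4 a5 a6 a7 = true) :
    a1 = false ∧ a2 = false ∧ a3 = false ∧ a4 = false ∧ a5 = false ∧ a6 = false ∧ a7 = false := by
  unfold zr at h
  simp only [Bool.not_eq_true', Bool.or_eq_false_iff] at h
  obtain ⟨⟨⟨⟨⟨⟨h1, h2⟩, h3⟩, h4⟩, h5⟩, h6⟩, h7⟩ := h
  exact ⟨h1, h2, h3, h4, h5, h6, h7⟩

theorem xor_const : ∀ a b c : Bool, xor a c = xor b c ↔ a = b := by decide

theorem const_of {e : Fin 8 → Bool} (h : e 1 = e 0 ∧ e 2 = e 0 ∧ e 3 = e 0 ∧ e 4 = e 0 ∧ e 5 = e 0 ∧ e 6 = e 0 ∧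
    e 7 = e 0) (i : Fin 8) : e i = e 0 := by
  obtain ⟨h1, h2, h3, h4, h5, h6, h7⟩ := h
  fin_cases i
  exacts [rfl, h1, h2, h3, h4, h5, h6, h7]

theorem comb_bool {e h : Fin 8 → Bool} (H1 : Rl e h) (H2 : Rl (fun i => xor (e i) (h i)) h) :
    (∀ i, e i = e 0) ∨ (∀ i, h i = h 0) ∨ (∀ i, xor (e i) (h i) = xor (e 0) (h 0)) := by
  have N : ∀ {e h : Fin 8 → Bool} (c d : Bool), Rl e h → Rl (fun i => xor (e i) c) (fun i => xor (h i) d) := by
    intro e h c d H i j k hij hki hkj h1 h2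
    simp only [xor_const] at h1 h2 ⊢
    exact H i j k hij hki hkj h1 h2
  have r1 := (N (e 0) (h 0) H1).rule
  have r2 := (N (xor (e 0) (h 0)) (h 0) H2).rule
  have hx : ∀ i, xor (xor (e i) (h i)) (xor (e 0) (h 0)) = xor (xor (e i) (e 0)) (xor (h i) (h 0)) := by
    intro i
    generalize e i = a
    generalize h i = b
    generalize e 0 = c
    generalize h 0 = d
    revert a b c d; decide
  simp only [hx, Bool.xor_self] at r1 r2
  have := check' (xor (e 1) (e 0)) (xor (e 2) (e 0)) (xor (e 3) (e 0)) (xor (e 4) (e 0)) (xor (e 5) (e 0))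
    (xor (e 6) (e 0)) (xor (e 7) (e 0)) (xor (h 1) (h 0)) (xor (h 2) (h 0)) (xor (h 3) (h 0)) (xor (h 4) (h 0))
    (xor (h 5) (h 0)) (xor (h 6) (h 0)) (xor (h 7) (h 0))
  unfold chk at this
  rw [imp_true, imp_true] at this
  have h3 := this r1 r2
  rw [Bool.or_eq_true, Bool.or_eq_true] at h3
  have hxf : ∀ a b : Bool, xor a b = false ↔ a = b := by decide
  rcases h3 with (h3 | h3) | h3
  · left
    have := zr_spec _ _ _ _ _ _ _ h3
    simp only [hxf] at this
    exact const_of this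
  · right; left
    have := zr_spec _ _ _ _ _ _ _ h3
    simp only [hxf] at this
    exact const_of this
  · right; right
    have := zr_spec _ _ _ _ _ _ _ h3
    simp only [← hx] at this
    simp only [hxf] at this
    exact const_of (e := fun i => xor (e i) (h i)) this

theorem const_cases {ε : Sg} (h : ∀ i, ε i = ε 0) : ε = 1 ∨ ε = -1 := by
  rcases Int.units_eq_one_or (ε 0) with h0 | h0
  · left; funext i; rw [h i, h0]; rfl
  · right; funext i; rw [h i, h0]; rfl

/-- **The combinatorial statement.** -/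
theorem comb {ε η : Sg}
    (H1 : ∀ i j k : Fin 8, i ≠ j → k ≠ i → k ≠ j → pm (dbl i j k) ε = ε → pm (dbl i j k) η = η)
    (H2 : ∀ i j k : Fin 8, i ≠ j → k ≠ i → k ≠ j → pm (dbl i j k) (ε * η) = ε * η → pm (dbl i j k) η = η) :
    (ε = 1 ∨ ε = -1) ∨ (η = 1 ∨ η = -1) ∨ (ε * η = 1 ∨ ε * η = -1) := by
  have he : ∀ i, ∃ b, ε i = sB b := fun i => exists_sB (ε i)
  have hh : ∀ i, ∃ b, η i = sB b := fun i => exists_sB (η i)
  choose e he using he
  choose h hh using hh
  have key : ∀ {ζ : Sg} {z : Fin 8 → Bool}, (∀ i, ζ i = sB (z i)) →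
      (∀ i j k : Fin 8, i ≠ j → k ≠ i → k ≠ j → pm (dbl i j k) ζ = ζ → pm (dbl i j k) η = η) → Rl z h := by
    intro ζ z hz H i j k hij hki hkj h1 h2
    have h3 := H i j k hij hki hkj (pm_dbl hij hki hkj (by rw [hz, hz, h1]) (by rw [hz, hz, h2]))
    have h4 := congrFun h3 i
    rw [pm_apply, dbl_left hij hki hkj, hh, hh, sB_inj] at h4
    exact h4.symm
  have r1 := key he H1
  have r2 := key (ζ := ε * η) (z := fun i => xor (e i) (h i)) (fun i => by
    rw [Pi.mul_apply, he, hh, sB_mul]) H2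
  rcases comb_bool r1 r2 with h1 | h1 | h1
  · exact Or.inl (const_cases fun i => by rw [he, he, h1])
  · exact Or.inr (Or.inl (const_cases fun i => by rw [hh, hh, h1]))
  · refine Or.inr (Or.inr (const_cases fun i => ?_))
    rw [Pi.mul_apply, Pi.mul_apply, he, hh, he, hh, sB_mul, sB_mul, h1]

/-- a sign vector other than `± 1` is moved -/
theorem exists_move {ε : Sg} (h1 : ε ≠ 1) (h2 : ε ≠ -1) :
    ∃ σ, AutCode σ ∧ pm σ ε ≠ ε ∧ pm σ ε ≠ -ε := by
  have h3 : ∃ i, ε i ≠ ε 0 := by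
    by_contra hcon
    push Not at hcon
    rcases const_cases hcon with h | h
    · exact h1 h
    · exact h2 h
  obtain ⟨i, hi⟩ := h3
  have hi0 : i ≠ 0 := fun h => hi (by rw [h])
  obtain ⟨k, hki, hk0, x, hx⟩ : ∃ k : Fin 8, k ≠ i ∧ k ≠ 0 ∧ ∃ x, dbl i 0 k x = x := by
    revert hi0
    clear hi
    revert i
    decide +kernel
  refine ⟨dbl i 0 k, autCode_dbl hi0 hki hk0, ?_, ?_⟩
  · intro h
    have := congrFun h i
    rw [pm_apply, dbl_left hi0 hki hk0] at this
    exact hi this.symm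
  · intro h
    have := congrFun h x
    rw [pm_apply, hx, Pi.neg_apply] at this
    rcases Int.units_eq_one_or (ε x) with h4 | h4 <;> rw [h4] at this <;> revert this <;> decide

end Cfsg.Agent.OddHalf.D4.EvenEComb

end

-- merged: Cfsg.Agent.OddHalf.D4.EvenEFacts
section

/-!
# Involutory automorphisms of `K₀ = 2.Ω₈⁺(2) ≤ W(E₈)` (helper807)

Hypotheses: `AutConj` (every automorphism of `K₀` is induced by `W`) and `InvFrame` (every involution of `W` is a
sign change along a labelled frame, (W1)).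

* `c1`: `u² = -1` and `C_{K₀}(u) ≤ C(v)` imply `v = ± 1` or `v = ± u`.
* `pair_free` = (P1), `sq_diff` = (P2) of `OddHalf/D4/EvenCyc.lean`, for `K₀`.
-/

set_option autoImplicit false
set_option Elab.async false

namespace Cfsg.Agent.OddHalf.D4.EvenEFacts

open Cfsg.Agent.OddHalf.D9.EEight Coord Move Fields EvenEComb
open Subgroup

/-- the lattice -/
local notation "L8" => Cfsg.Agent.OddHalf.D9.EEight.Lat
/-- the reflection -/
local notation "ρ" => Cfsg.Agent.OddHalf.D9.EEight.refl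

/-- Every automorphism of `K₀` is induced by an element of `W`. -/
def AutConj : Prop := ∀ α : MulAut ↥K₀, ∃ w : W, ∀ x : ↥K₀, ((α x : ↥K₀) : W) = w * (x : W) * w⁻¹

/-- (W1) -/
def InvFrame : Prop := ∀ w : W, w * w = 1 → ∃ d : Sg →* W, IsFr det neg IsRefl d ∧ w ∈ d.range

theorem det_two {a b : L8} (ha : IsRoot a) (hb : IsRoot b) : det (ρ ha * ρ hb) = 1 := by
  rw [map_mul, rf_det', rf_det']; rfl

/-! ### `u² = -1` -/

section Cx

variable {u v : W}

theorem ap_sq (hu : u * u = neg) (x : L8) : ap u (ap u x) = -x := by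
  rw [← ap_mul, hu, ap_neg_one]

theorem orth_sq (hu : u * u = neg) (x : L8) : form x (ap u x) = 0 := by
  have h := form_ap u x (ap u x)
  rw [ap_sq hu, form_neg_right, form_comm (ap u x) x] at h
  omega

theorem refl_comm {a b : L8} (ha : IsRoot a) (hb : IsRoot b) (h : form a b = 0) :
    ρ ha * ρ hb = ρ hb * ρ ha := by
  apply ext_ap
  intro x
  simp only [ap_mul, ap_refl, form_sub_left, form_smul_left, h, form_comm b a, mul_zero, sub_zero]
  abel

theorem comm_sq (hu : u * u = neg) {a : L8} (ha : IsRoot a) :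
    ρ ha * ρ (isRoot_ap ha u) * u = u * (ρ ha * ρ (isRoot_ap ha u)) := by
  have h1 : u * ρ ha * u⁻¹ = ρ (isRoot_ap ha u) := conj_refl u ha
  have h2 : u * ρ (isRoot_ap ha u) * u⁻¹ = ρ ha := by
    rw [conj_refl, ← refl_neg ha]
    exact refl_congr _ _ (ap_sq hu a)
  have h3 : u * (ρ ha * ρ (isRoot_ap ha u)) * u⁻¹ = ρ ha * ρ (isRoot_ap ha u) := by
    calc u * (ρ ha * ρ (isRoot_ap ha u)) * u⁻¹
        = (u * ρ ha * u⁻¹) * (u * ρ (isRoot_ap ha u) * u⁻¹) := by group
      _ = ρ ha * ρ (isRoot_ap ha u) := by rw [h1, h2, refl_comm _ _ (by rw [form_comm]; exact orth_sq hu a)]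
  calc ρ ha * ρ (isRoot_ap ha u) * u = (u * (ρ ha * ρ (isRoot_ap ha u)) * u⁻¹) * u := by rw [h3]
    _ = u * (ρ ha * ρ (isRoot_ap ha u)) := by group

/-- the image of a root under `v` -/
theorem image (hu : u * u = neg) (h : ∀ k : W, det k = 1 → k * u = u * k → k * v = v * k) {a : L8} (ha : IsRoot a) :
    ap v a = a ∨ ap v a = -a ∨ ap v a = ap u a ∨ ap v a = -ap u a := by
  apply plane ha (isRoot_ap ha u) (orth_sq hu a) (isRoot_ap ha v)
  rw [← ap_mul, h _ (det_two _ _) (comm_sq hu ha), ap_mul, ap_mul,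
    ap_refl_orth (isRoot_ap ha u) (orth_sq hu a), ap_refl_self, ap_neg]

/-- the four possibilities as group elements -/
def sel (u : W) (n : Fin 4) : W := match n with
  | 0 => 1
  | 1 => neg
  | 2 => u
  | 3 => neg * u

theorem image' (hu : u * u = neg) (h : ∀ k : W, det k = 1 → k * u = u * k → k * v = v * k) {a : L8}
    (ha : IsRoot a) : ∃ n : Fin 4, ap v a = ap (sel u n) a := by
  rcases image hu h ha with h1 | h1 | h1 | h1
  · exact ⟨0, by rw [h1]; exact (ap_one a).symm⟩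
  · exact ⟨1, by rw [h1]; exact (ap_neg_one a).symm⟩
  · exact ⟨2, h1⟩
  · exact ⟨3, by rw [h1]; show _ = ap (neg * u) a; rw [ap_mul, ap_neg_one]⟩

theorem adj (hu : u * u = neg) (h : ∀ k : W, det k = 1 → k * u = u * k → k * v = v * k) {a b : L8}
    (ha : IsRoot a) (hb : IsRoot b) (hab : form a b = -1) {n : Fin 4} (hn : ap v a = ap (sel u n) a) :
    ap v b = ap (sel u n) b := by
  have hc := isRoot_add ha hb hab
  obtain ⟨m, hm⟩ := image' hu h hb
  obtain ⟨l, hl⟩ := image' hu h hc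
  by_cases hmn : m = n
  · rw [hm, hmn]
  exfalso
  have ha' : form a a = 2 := ha
  have hb' : form b b = 2 := hb
  have e1 := form_ap v a b
  have e2 := congrArg (fun x => form x (a + b)) (ap_add v a b)
  have e3 := congrArg (fun x => form x (ap u a + ap u b)) (ap_add v a b)
  simp only [hl] at e2 e3
  rw [hn, hm] at e1 e2 e3
  have o1 := orth_sq hu a
  have o2 := orth_sq hu b
  have o3 : form a (ap u b) + form b (ap u a) = 0 := by
    have := orth_sq hu (a + b)
    rw [ap_add, form_add_left, form_add_right, form_add_right] at this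
    omega
  have q1 : form (ap u a) (ap u a) = 2 := by rw [form_ap, ha']
  have q2 : form (ap u b) (ap u b) = 2 := by rw [form_ap, hb']
  have q3 : form (ap u a) (ap u b) = -1 := by rw [form_ap, hab]
  have q3' : form (ap u b) (ap u a) = -1 := by rw [form_comm, q3]
  have hba : form b a = -1 := by rw [form_comm, hab]
  have s1 := form_comm (ap u a) a
  have s2 := form_comm (ap u b) b
  have s3 := form_comm (ap u a) b
  have s4 := form_comm (ap u b) a
  fin_cases n <;> fin_cases m <;> first | exact hmn rfl | skip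
  all_goals
    fin_cases l <;>
    · simp only [sel, ap_one, ap_mul, ap_neg_one, ap_add,
        form_add_left, form_add_right, form_neg_left, form_neg_right] at e1 e2 e3
      omega

/-- **`u² = -1`** -/
theorem c1 (hu : u * u = neg) (h : ∀ k : W, det k = 1 → k * u = u * k → k * v = v * k) : ∃ n : Fin 4, v = sel u n := by
  obtain ⟨n, h0⟩ := image' hu h (isRoot_single 0)
  have A : ∀ i j : Fin 8, form (Pi.single i 1) (Pi.single j 1) = -1 →
      ap v (Pi.single i 1) = ap (sel u n) (Pi.single i 1) → ap v (Pi.single j 1) = ap (sel u n) (Pi.single j 1) :=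
    fun i j hij hi => adj hu h (isRoot_single i) (isRoot_single j) hij hi
  have h2 := A 0 2 (by decide +kernel) h0
  have h3 := A 2 3 (by decide +kernel) h2
  have h1 := A 3 1 (by decide +kernel) h3
  have h4 := A 3 4 (by decide +kernel) h3
  have h5 := A 4 5 (by decide +kernel) h4
  have h6 := A 5 6 (by decide +kernel) h5
  have h7 := A 6 7 (by decide +kernel) h6
  refine ⟨n, ext_single fun i => ?_⟩
  fin_cases i
  exacts [h0, h1, h2, h3, h4, h5, h6, h7]

end Cx

/-! ### Automorphisms -/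

section Aut

variable {α β : MulAut ↥K₀} {u v : W}

/-- `α` is induced by `u` -/
def Ind (α : MulAut ↥K₀) (u : W) : Prop := ∀ x : ↥K₀, ((α x : ↥K₀) : W) = u * (x : W) * u⁻¹

theorem Ind.mul (hu : Ind α u) (hv : Ind β v) : Ind (α * β) (u * v) := by
  intro x
  rw [MulAut.mul_apply, hu, hv]
  group

theorem Ind.fix (hu : Ind α u) (x : ↥K₀) : α x = x ↔ (x : W) * u = u * x := by
  rw [← Subtype.coe_inj, hu, mul_inv_eq_iff_eq_mul]
  exact eq_comm

theorem Ind.eq_one (hu : Ind α u) : α = 1 ↔ u = 1 ∨ u = neg := by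
  constructor
  · intro h
    apply cenK
    intro k hk
    have := (hu.fix ⟨k, hk⟩).1 (by rw [h]; rfl)
    exact this.symm
  · intro h
    refine MulEquiv.ext fun x => Subtype.ext ?_
    rw [hu]
    show u * (x : W) * u⁻¹ = x
    rw [mul_inv_eq_iff_eq_mul]
    rcases h with rfl | rfl
    · rw [one_mul, mul_one]
    · exact c_comm _

theorem comm_neg (w : W) : w * neg = neg * w := (c_comm w).symm

/-- **(P1) for `K₀`.** -/
theorem pair_free (hA : AutConj) (hI : InvFrame) : ∀ α β : MulAut ↥K₀, α * α = 1 → β * β = 1 → α * β = β * α → α ≠ 1 →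
    β ≠ 1 → α ≠ β → (∀ x, α x = x → β x = x) → ¬ ∀ x, α (β x) = x → β x = x := by
  intro α β hα hβ hc hα1 hβ1 hne H1 H2
  obtain ⟨u, hu⟩ := hA α
  obtain ⟨v, hv⟩ := hA β
  have hu : Ind α u := hu
  have hv : Ind β v := hv
  have huv : Ind (α * β) (u * v) := hu.mul hv
  have hαβ1 : α * β ≠ 1 := by
    intro h
    apply hne
    calc α = α * (β * β) := by rw [hβ, mul_one]
      _ = (α * β) * β := by rw [mul_assoc]
      _ = β := by rw [h, one_mul]
  have hαβ : (α * β) * (α * β) = 1 := by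
    calc (α * β) * (α * β) = α * (β * α) * β := by simp only [mul_assoc]
      _ = (α * α) * (β * β) := by rw [← hc]; simp only [mul_assoc]
      _ = 1 := by rw [hα, hβ, one_mul]
  rw [Ne, hu.eq_one] at hα1
  rw [Ne, hv.eq_one] at hβ1
  rw [Ne, huv.eq_one] at hαβ1
  rw [(hu.mul hu).eq_one] at hα
  rw [(huv.mul huv).eq_one] at hαβ
  have K1 : ∀ k : W, det k = 1 → k * u = u * k → k * v = v * k := by
    intro k hk h
    exact (hv.fix ⟨k, hk⟩).1 (H1 _ ((hu.fix ⟨k, hk⟩).2 h))
  have K2 : ∀ k : W, det k = 1 → k * (u * v) = (u * v) * k → k * v = v * k := by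
    intro k hk h
    exact (hv.fix ⟨k, hk⟩).1 (H2 _ ((huv.fix ⟨k, hk⟩).2 h))
  push Not at hα1 hβ1 hαβ1
  -- `u² = 1`
  have hu2 : u * u = 1 := by
    rcases hα with h | h
    · exact h
    exfalso
    obtain ⟨n, hn⟩ := c1 h K1
    fin_cases n
    · exact hβ1.1 hn
    · exact hβ1.2 hn
    · refine hαβ1.2 ?_
      have hn : v = u := hn
      rw [hn, h]
    · refine hαβ1.1 ?_
      have hn : v = neg * u := hn
      rw [hn, ← mul_assoc, comm_neg, mul_assoc, h, c_sq]
  -- `(u v)² = 1`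
  have huv2 : (u * v) * (u * v) = 1 := by
    rcases hαβ with h | h
    · exact h
    exfalso
    obtain ⟨n, hn⟩ := c1 h K2
    fin_cases n
    · exact hβ1.1 hn
    · exact hβ1.2 hn
    · refine hα1.1 ?_
      have hn : v = u * v := hn
      exact mul_eq_right.1 hn.symm
    · refine hα1.2 ?_
      have hn : v = neg * (u * v) := hn
      have h3 : neg * u = 1 := by
        have h4 : (neg * u) * v = v := by rw [mul_assoc]; exact hn.symm
        exact mul_eq_right.1 h4
      calc u = (neg * neg) * u := by rw [c_sq, one_mul]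
        _ = neg := by rw [mul_assoc, h3, mul_one]
  -- the frame
  obtain ⟨d, F, ε, hε⟩ := hI u hu2
  obtain ⟨η, hη⟩ : v ∈ d.range := by
    apply F.cen
    intro ζ hζ
    refine (K1 (d ζ) (by rw [F.det]; exact mem_Ev.1 hζ) ?_).symm
    rw [← hε, ← map_mul, ← map_mul, mul_comm]
  have S : ∀ ζ : Sg, (∀ k : W, det k = 1 → k * d ζ = d ζ * k → k * v = v * k) → ∀ i j k : Fin 8, i ≠ j → k ≠ i →
      k ≠ j → pm (dbl i j k) ζ = ζ → pm (dbl i j k) η = η := by
    intro ζ hζ i j k hij hki hkj h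
    obtain ⟨g, hg, hg'⟩ := F.sym _ (autCode_dbl hij hki hkj)
    have h1 := hζ g hg (by
      have := hg' ζ
      rw [h, mul_inv_eq_iff_eq_mul] at this
      exact this)
    have h2 := hg' η
    rw [hη, h1, mul_inv_cancel_right, ← hη] at h2
    exact (F.inj h2).symm
  have hεη : d (ε * η) = u * v := by rw [map_mul, hε, hη]
  have e1 : d 1 = 1 := map_one d
  rcases comb (S ε (by rw [hε]; exact K1)) (S (ε * η) (by rw [hεη]; exact K2)) with (h | h) | (h | h) | (h | h)
  · exact hα1.1 (by rw [← hε, h, e1])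
  · exact hα1.2 (by rw [← hε, h, F.neg])
  · exact hβ1.1 (by rw [← hη, h, e1])
  · exact hβ1.2 (by rw [← hη, h, F.neg])
  · exact hαβ1.1 (by rw [← hεη, h, e1])
  · exact hαβ1.2 (by rw [← hεη, h, F.neg])

theorem sg_inv (ε : Sg) : ε⁻¹ = ε := by
  funext i
  exact Int.units_inv_eq_self _

theorem sg_mul_self (ε : Sg) : ε * ε = 1 := by
  rw [mul_eq_one_iff_inv_eq, sg_inv]

/-- four roots: `a`, `a' ⟂ a` given; `b, c ⟂ a, a'` with `(b, c) = 1` -/
theorem exists_bc {a a' : L8} (ha : IsRoot a) (ha' : IsRoot a') (h : form a a' = 0) :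
    ∃ b c : L8, IsRoot b ∧ IsRoot c ∧ form a b = 0 ∧ form a c = 0 ∧ form a' b = 0 ∧ form a' c = 0 ∧ form b c = 1 := by
  obtain ⟨w, hw1, hw2⟩ := trans2 ha ha' h
  have h2 : ([0, 0, 2, 2, 0, 0, 0, 0] : List ℤ) ∈ RL := by decide +kernel
  have h3 : ([0, 0, 2, 0, 2, 0, 0, 0] : List ℤ) ∈ RL := by decide +kernel
  have f12 := form_unL t1_mem h2
  have f13 := form_unL t1_mem h3
  have f22 := form_unL t2_mem h2
  have f23 := form_unL t2_mem h3
  have f := form_unL h2 h3
  have e12 : dotL t1 [0, 0, 2, 2, 0, 0, 0, 0] = 0 := by decide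
  have e13 : dotL t1 [0, 0, 2, 0, 2, 0, 0, 0] = 0 := by decide
  have e22 : dotL t2 [0, 0, 2, 2, 0, 0, 0, 0] = 0 := by decide
  have e23 : dotL t2 [0, 0, 2, 0, 2, 0, 0, 0] = 0 := by decide
  have e : dotL [0, 0, 2, 2, 0, 0, 0, 0] [0, 0, 2, 0, 2, 0, 0, 0] = 4 := by decide
  refine ⟨ap w⁻¹ (unL [0, 0, 2, 2, 0, 0, 0, 0]), ap w⁻¹ (unL [0, 0, 2, 0, 2, 0, 0, 0]),
    isRoot_ap (isRoot_unL h2) _, isRoot_ap (isRoot_unL h3) _, ?_, ?_, ?_, ?_, ?_⟩
  · rw [← form_ap_left, hw1]; omega
  · rw [← form_ap_left, hw1]; omega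
  · rw [← form_ap_left, hw2]; omega
  · rw [← form_ap_left, hw2]; omega
  · rw [form_ap]; omega


/-- four pairwise orthogonal roots: the product `y` of the reflections -/
theorem four_ap {p q r s : L8} (hp : IsRoot p) (hq : IsRoot q) (hr : IsRoot r) (hs : IsRoot s) (pq : form p q = 0)
    (pr : form p r = 0) (ps : form p s = 0) (qr : form q r = 0) (qs : form q s = 0) (rs : form r s = 0) (x : L8) :
    ap (ρ hs * ρ hr * ρ hq * ρ hp) x =
      x - form x p • p - form x q • q - form x r • r - form x s • s := by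
  simp only [ap_mul, ap_refl, form_sub_left, form_smul_left, pq, pr, ps, qr, qs, rs, mul_zero, sub_zero]

theorem four_sq {p q r s : L8} (hp : IsRoot p) (hq : IsRoot q) (hr : IsRoot r) (hs : IsRoot s) (pq : form p q = 0)
    (pr : form p r = 0) (ps : form p s = 0) (qr : form q r = 0) (qs : form q s = 0) (rs : form r s = 0) :
    (ρ hs * ρ hr * ρ hq * ρ hp) * (ρ hs * ρ hr * ρ hq * ρ hp) = 1 := by
  have p2 : form p p = 2 := hp
  have q2 : form q q = 2 := hq
  have r2 : form r r = 2 := hr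
  have s2 : form s s = 2 := hs
  have qp : form q p = 0 := by rw [form_comm, pq]
  have rp : form r p = 0 := by rw [form_comm, pr]
  have sp : form s p = 0 := by rw [form_comm, ps]
  have rq : form r q = 0 := by rw [form_comm, qr]
  have sq : form s q = 0 := by rw [form_comm, qs]
  have sr : form s r = 0 := by rw [form_comm, rs]
  apply ext_ap
  intro x
  rw [ap_mul, ap_one, four_ap hp hq hr hs pq pr ps qr qs rs (ap _ x), four_ap hp hq hr hs pq pr ps qr qs rs x]
  simp only [form_sub_left, form_smul_left, pq, pr, ps, qr, qs, rs, qp, rp, sp, rq, sq, sr, p2, q2, r2, s2,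
    mul_zero, sub_zero]
  module

/-- **(P2) for `K₀`.** -/
theorem sq_diff (hA : AutConj) (hI : InvFrame) : ∀ α : MulAut ↥K₀, α * α = 1 → α ≠ 1 →
    ∃ x : ↥K₀, (α x)⁻¹ * x ∉ center ↥K₀ ∧ ((α x)⁻¹ * x) * ((α x)⁻¹ * x) = 1 := by
  intro α hα hα1
  obtain ⟨u, hu⟩ := hA α
  have hu : Ind α u := hu
  rw [Ne, hu.eq_one] at hα1
  rw [(hu.mul hu).eq_one] at hα
  push Not at hα1
  -- reduction to elements of `W`
  have red : ∀ k : W, det k = 1 → u * k⁻¹ * u⁻¹ * k ≠ 1 → u * k⁻¹ * u⁻¹ * k ≠ neg →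
      (u * k⁻¹ * u⁻¹ * k) * (u * k⁻¹ * u⁻¹ * k) = 1 →
      ∃ x : ↥K₀, (α x)⁻¹ * x ∉ center ↥K₀ ∧ ((α x)⁻¹ * x) * ((α x)⁻¹ * x) = 1 := by
    intro k hk h1 h2 h3
    have e : (((α ⟨k, hk⟩)⁻¹ * ⟨k, hk⟩ : ↥K₀) : W) = u * k⁻¹ * u⁻¹ * k := by
      rw [coe_mul, coe_inv, hu]
      group
    refine ⟨⟨k, hk⟩, ?_, ?_⟩
    · intro hc
      rw [mem_center_iff] at hc
      have := cenK (u * k⁻¹ * u⁻¹ * k) (by
        intro g hg
        have h4 : g * (((α ⟨k, hk⟩)⁻¹ * ⟨k, hk⟩ : ↥K₀) : W) = (((α ⟨k, hk⟩)⁻¹ * ⟨k, hk⟩ : ↥K₀) : W) * g :=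
          congrArg Subtype.val (hc ⟨g, hg⟩)
        rw [e] at h4
        exact h4.symm)
      rcases this with h | h
      · exact h1 h
      · exact h2 h
    · apply Subtype.ext
      rw [coe_mul, e, h3]
      rfl
  rcases hα with h | h
  · -- `u² = 1`
    obtain ⟨d, F, ε, hε⟩ := hI u h
    have hε1 : ε ≠ 1 := fun h1 => hα1.1 (by rw [← hε, h1, map_one])
    have hε2 : ε ≠ -1 := fun h1 => hα1.2 (by rw [← hε, h1, F.neg])
    obtain ⟨σ, hσ, hm1, hm2⟩ := exists_move hε1 hε2
    obtain ⟨k, hk, hk'⟩ := F.sym σ hσ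
    have e : u * (k⁻¹)⁻¹ * u⁻¹ * k⁻¹ = d (ε * pm σ ε) := by
      calc u * (k⁻¹)⁻¹ * u⁻¹ * k⁻¹ = u * (k * u⁻¹ * k⁻¹) := by group
        _ = d ε * d (pm σ ε⁻¹) := by rw [← hk', map_inv, hε]
        _ = d (ε * pm σ ε) := by rw [sg_inv, map_mul]
    refine red k⁻¹ (by rw [map_inv, hk, inv_one]) ?_ ?_ ?_
    · rw [e]
      intro h1
      rw [← map_one d] at h1
      have h2 := F.inj h1
      apply hm1
      calc pm σ ε = (ε * ε) * pm σ ε := by rw [sg_mul_self, one_mul]
        _ = ε := by rw [mul_assoc, h2, mul_one]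
    · rw [e, ← F.neg]
      intro h1
      have h2 := F.inj h1
      apply hm2
      calc pm σ ε = (ε * ε) * pm σ ε := by rw [sg_mul_self, one_mul]
        _ = -ε := by rw [mul_assoc, h2, mul_neg, mul_one]
    · rw [e, ← map_mul, sg_mul_self, map_one]
  · -- `u² = -1`
    have ha := isRoot_single 0
    have ha' := isRoot_ap ha u
    obtain ⟨b, c, hb, hc, ab, ac, a'b, a'c, bc⟩ := exists_bc ha ha' (orth_sq h _)
    have hb' := isRoot_ap hb u
    set a : L8 := Pi.single 0 1
    have aa' : form a (ap u a) = 0 := orth_sq h a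
    have bb' : form b (ap u b) = 0 := orth_sq h b
    have ab' : form a (ap u b) = 0 := by
      have := form_ap u a (ap u b)
      rw [ap_sq h, form_neg_right, a'b] at this
      omega
    have a'b' : form (ap u a) (ap u b) = 0 := by rw [form_ap, ab]
    have ba : form b a = 0 := by rw [form_comm, ab]
    have ba' : form b (ap u a) = 0 := by rw [form_comm, a'b]
    have ca : form c a = 0 := by rw [form_comm, ac]
    have ca' : form c (ap u a) = 0 := by rw [form_comm, a'c]
    have cb : form c b = 1 := by rw [form_comm, bc]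
    have e : u * (ρ ha * ρ hb)⁻¹ * u⁻¹ * (ρ ha * ρ hb) =
        ρ hb' * ρ ha' * ρ ha * ρ hb := by
      have h1 : u * (ρ ha)⁻¹ * u⁻¹ = ρ ha' := by
        rw [← conj_refl u ha]
        have : (ρ ha)⁻¹ = ρ ha := by
          rw [inv_eq_iff_mul_eq_one]
          apply ext_ap
          intro x
          have h2 : form a a = 2 := ha
          rw [ap_mul, ap_refl, ap_refl, form_sub_left, form_smul_left, h2, ap_one]
          module
        rw [this]
      have h1' : u * (ρ hb)⁻¹ * u⁻¹ = ρ hb' := by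
        rw [← conj_refl u hb]
        have : (ρ hb)⁻¹ = ρ hb := by
          rw [inv_eq_iff_mul_eq_one]
          apply ext_ap
          intro x
          have h2 : form b b = 2 := hb
          rw [ap_mul, ap_refl, ap_refl, form_sub_left, form_smul_left, h2, ap_one]
          module
        rw [this]
      rw [← h1, ← h1']
      group
    have hap := four_ap hb ha ha' hb' ba ba' bb' aa' ab' a'b' c
    have hcc : form (ap (ρ hb' * ρ ha' * ρ ha * ρ hb) c) c = 1 - form c (ap u b) * form c (ap u b) := by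
      have c2 : form c c = 2 := hc
      rw [hap]
      simp only [form_sub_left, form_smul_left, ca, ca', cb, zero_mul, sub_zero, c2, bc, form_comm (ap u b) c]
      ring
    have hbd := root_bound hc hb'
    refine red (ρ ha * ρ hb) (det_two _ _) ?_ ?_ ?_
    · rw [e]
      intro h1
      rw [h1, ap_one, show form c c = 2 from hc] at hcc
      nlinarith
    · rw [e]
      intro h1
      rw [h1, ap_neg_one, form_neg_left, show form c c = 2 from hc] at hcc
      have : form c (ap u b) * form c (ap u b) = 3 := by omega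
      generalize form c (ap u b) = t at this hbd
      have ht : t = -2 ∨ t = -1 ∨ t = 0 ∨ t = 1 ∨ t = 2 := by omega
      rcases ht with rfl | rfl | rfl | rfl | rfl <;> omega
    · rw [e]
      exact four_sq hb ha ha' hb' ba ba' bb' aa' ab' a'b'

end Aut

end Cfsg.Agent.OddHalf.D4.EvenEFacts

end
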