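import Cfsg.Agent.OddHalf.D4.LineRgd
import Cfsg.Agent.Nodes.RGDTwActE6
import Cfsg.Agent.KFacts.RgdFiltTwAll

-- merged: Cfsg.Agent.OddHalf.D4.StarLoc
section

/-!
# ODD, D4, (1B): the star property by leading terms (helper128)

For a root group datum with the Chevalley commutator formula:
* `Cl.inf`: `⟨X S⟩ ⊓ ⟨X S'⟩ ≤ ⟨X (S ∩ S')⟩` for closed sets of positive roots;
* `star_of_loc`: an element of `U` commuting with `x` commutes with `l`, if this holds for the leading factors;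
* `lead`: the leading factor `z` of an element commuting with `x`: `⁅z, x⁆` lies above the height `ht s + ht r`.
-/

set_option autoImplicit false
set_option linter.unusedSectionVars false

namespace Cfsg.Agent.OddHalf.D4.StarLoc

open Cfsg.Agent.Tits.Roots hiding ht
open Subgroup CoxeterSystem Cfsg.Agent.ChevalleyStructure.CoxeterGeom Cfsg.Agent.Tits.Core
  Cfsg.Agent.Nodes.Reps Cfsg.Agent.Nodes.BNOf Cfsg.Agent.Nodes.Bruhat Cfsg.Agent.Nodes.OppDec
  Cfsg.Agent.Nodes.NormalForm Cfsg.Agent.Nodes.Coroot Cfsg.Agent.Nodes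
  Cfsg.Agent.KFacts.RgdPar Cfsg.Agent.KFacts.RgdTI Cfsg.Agent.KFacts.RgdFilt Cfsg.Agent.KFacts.RgdBorelTits
  Cfsg.Agent.OddHalf.D4.LineRgd
open scoped commutatorElement

variable {I W Y : Type*} [Fintype I] [DecidableEq I] [Group W] [Group Y] {M : CoxeterMatrix I}
  {cs : CoxeterSystem M W} {A : I → I → ℤ} {h : IsCartan M A} {p : ℕ} {T : Subgroup Y} {n : I → Y}
  {X : (I → ℤ) → Subgroup Y}

/-! ### closed sets -/

theorem ib_ht {x y z : I → ℤ} (hz : IB cs h x y z) : ∃ i j : ℤ, 0 < i ∧ 0 < j ∧ z = i • x + j • y ∧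
    ht z = i * ht x + j * ht y := by
  obtain ⟨-, i, j, hi, hj, rfl⟩ := hz
  exact ⟨i, j, hi, hj, rfl, by rw [map_add, map_zsmul, map_zsmul, smul_eq_mul, smul_eq_mul]⟩

theorem ht_pos' {x : I → ℤ} (hx : x ∈ RGD.Pos cs h) : 0 < ht x := ht_pos hx.2 hx.1.ne_zero

theorem ib_pos {x y z : I → ℤ} (hx : x ∈ RGD.Pos cs h) (hy : y ∈ RGD.Pos cs h) (hz : IB cs h x y z) :
    z ∈ RGD.Pos cs h := by
  refine ⟨hz.1, ?_⟩
  obtain ⟨-, i, j, hi, hj, rfl⟩ := hz
  intro k
  exact add_nonneg (mul_nonneg hi.le (hx.2 k)) (mul_nonneg hj.le (hy.2 k))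

theorem ib_add_le {x y z : I → ℤ} (hx : x ∈ RGD.Pos cs h) (hy : y ∈ RGD.Pos cs h) (hz : IB cs h x y z) :
    ht x + ht y ≤ ht z ∧ (ht z = ht x + ht y → z = x + y) := by
  obtain ⟨i, j, hi, hj, e, e'⟩ := ib_ht hz
  have h1 := ht_pos' hx
  have h2 := ht_pos' hy
  constructor
  · rw [e']
    nlinarith
  · intro h3
    rw [e'] at h3
    have hi1 : i = 1 := by
      by_contra hne
      have h4 : 2 ≤ i := by omega
      nlinarith
    have hj1 : j = 1 := by
      by_contra hne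
      have h4 : 2 ≤ j := by omega
      nlinarith
    rw [e, hi1, hj1, one_smul, one_smul]

theorem ne_neg {x y : I → ℤ} (hx : x ∈ RGD.Pos cs h) (hy : y ∈ RGD.Pos cs h) : x ≠ -y := by
  rintro rfl
  have h1 := ht_pos' hx
  have h2 := ht_pos' hy
  rw [map_neg] at h1
  omega

/-- the commutators of two positive root groups -/
theorem comm_mem (hI : IntComm cs h X) {x y : I → ℤ} (hx : x ∈ RGD.Pos cs h) (hy : y ∈ RGD.Pos cs h)
    (hxy : x ≠ y) {S : Set (I → ℤ)} (hS : ∀ z, IB cs h x y z → z ∈ S) {a b : Y} (ha : a ∈ X x) (hb : b ∈ X y) :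
    ⁅a, b⁆ ∈ RGD.Sup X S := by
  have h1 := hI x y hx.1 hy.1 hxy (ne_neg hx hy) a ha b hb
  exact (FS_le fun z hz => RGD.le_Sup (hS z hz) : FS X {z | IB cs h x y z} ≤ RGD.Sup X S) h1

/-- a closed set of positive roots -/
def Cl (cs : CoxeterSystem M W) (h : IsCartan M A) (S : Set (I → ℤ)) : Prop :=
  S ⊆ RGD.Pos cs h ∧ ∀ x ∈ S, ∀ y ∈ S, x ≠ y → ∀ z, IB cs h x y z → z ∈ S

theorem FS_cut {S : Set (I → ℤ)} (hS : S ⊆ RGD.Pos cs h) : FS (cut S X) (RGD.Pos cs h) = RGD.Sup X S := by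
  apply le_antisymm
  · refine FS_le fun z _ => ?_
    by_cases hz : z ∈ S
    · rw [cut_pos hz]; exact RGD.le_Sup hz
    · rw [cut_neg hz]; exact bot_le
  · refine RGD.Sup_le fun z hz => ?_
    have h1 := le_FS (G := cut S X) (S := RGD.Pos cs h) (hS hz)
    rwa [cut_pos hz] at h1

/-- **Independence.** -/
theorem Cl.inf [Finite W] (R : RGD cs h p T n X) (hI : IntComm cs h X) {S S' : Set (I → ℤ)} (hS : Cl cs h S)
    (hS' : Cl cs h S') : RGD.Sup X S ⊓ RGD.Sup X S' ≤ RGD.Sup X (S ∩ S') := by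
  have hPS : PS' cs h (1 : W) = RGD.Pos cs h := by
    ext x
    simp [PS', RGD.Pos]
  have hFC : ∀ {S : Set (I → ℤ)}, Cl cs h S → FC cs h (cut S X) (PS' cs h (1 : W)) := by
    intro S hS x _ y _ hxy a ha b hb
    by_cases hx : x ∈ S
    · by_cases hy : y ∈ S
      · rw [cut_pos hx] at ha
        rw [cut_pos hy] at hb
        refine FS_mono (fun z hz _ => ?_) (hI x y (hS.1 hx).1 (hS.1 hy).1 hxy (ne_neg (hS.1 hx) (hS.1 hy)) a ha b hb)
        have hz' : IB cs h x y z := hz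
        refine ⟨hz'.btwn, ?_⟩
        rw [cut_pos (hS.2 x hx y hy hxy z hz')]
      · rw [cut_neg hy, Subgroup.mem_bot] at hb
        rw [hb, commutatorElement_one_right]
        exact one_mem _
    · rw [cut_neg hx, Subgroup.mem_bot] at ha
      rw [ha, commutatorElement_one_left]
      exact one_mem _
  have h1 := inf_w R (G := cut S X) (G' := cut S' X) (1 : W) (hFC hS) (hFC hS') (fun x _ => cut_le _ _ _)
    (fun x _ => cut_le _ _ _)
  rw [hPS, FS_cut hS.1, FS_cut hS'.1] at h1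
  refine h1.trans (FS_le fun z _ => ?_)
  by_cases hz : z ∈ S
  · by_cases hz' : z ∈ S'
    · rw [cut_pos hz, inf_comm, cut_pos hz', inf_idem]
      exact RGD.le_Sup ⟨hz, hz'⟩
    · rw [cut_neg hz', inf_bot_eq]; exact bot_le
  · rw [cut_neg hz, bot_inf_eq]; exact bot_le

/-- a set of positive roots closed upwards -/
def Up (cs : CoxeterSystem M W) (h : IsCartan M A) (S : Set (I → ℤ)) : Prop :=
  S ⊆ RGD.Pos cs h ∧ ∀ s ∈ S, ∀ t ∈ RGD.Pos cs h, ht s < ht t → t ∈ S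

theorem Up.ib {S : Set (I → ℤ)} (hS : Up cs h S) {x y z : I → ℤ} (hx : x ∈ RGD.Pos cs h) (hy : y ∈ S)
    (hz : IB cs h x y z) : z ∈ S := by
  refine hS.2 y hy z (ib_pos hx (hS.1 hy) hz) ?_
  have h1 := (ib_add_le hx (hS.1 hy) hz).1
  have h2 := ht_pos' hx
  omega

theorem Up.cl {S : Set (I → ℤ)} (hS : Up cs h S) : Cl cs h S :=
  ⟨hS.1, fun x hx _ hy _ _ hz => hS.ib (hS.1 hx) hy hz⟩

/-- The positive root groups normalise `⟨X S⟩`. -/
theorem Up.conj (hI : IntComm cs h X) {S : Set (I → ℤ)} (hS : Up cs h S) {x : I → ℤ} (hx : x ∈ RGD.Pos cs h)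
    {g : Y} (hg : g ∈ X x) {u : Y} (hu : u ∈ RGD.Sup X S) : g * u * g⁻¹ ∈ RGD.Sup X S := by
  by_cases hxS : x ∈ S
  · have h1 : g ∈ RGD.Sup X S := RGD.le_Sup hxS hg
    exact mul_mem (mul_mem h1 hu) (inv_mem h1)
  · have h1 : RGD.Sup X S ≤ (RGD.Sup X S).comap (MulAut.conj g).toMonoidHom := by
      refine RGD.Sup_le fun y hy v hv => ?_
      show g * v * g⁻¹ ∈ RGD.Sup X S
      have hne : x ≠ y := by rintro rfl; exact hxS hy
      have h2 : ⁅g, v⁆ ∈ RGD.Sup X S := comm_mem hI hx (hS.1 hy) hne (fun z hz => hS.ib hx hy hz) hg hv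
      have h3 := mul_mem h2 (RGD.le_Sup hy hv)
      rwa [commutatorElement_def, inv_mul_cancel_right] at h3
    exact h1 hu

theorem Up.le_normalizer (hI : IntComm cs h X) {S : Set (I → ℤ)} (hS : Up cs h S) {x : I → ℤ}
    (hx : x ∈ RGD.Pos cs h) : X x ≤ Subgroup.normalizer (RGD.Sup X S : Set Y) := by
  intro g hg
  rw [Subgroup.mem_normalizer_iff]
  intro u
  refine ⟨fun hu => hS.conj hI hx hg hu, fun hu => ?_⟩
  have h1 := hS.conj hI hx (inv_mem hg) hu
  have e : g⁻¹ * (g * u * g⁻¹) * g⁻¹⁻¹ = u := by group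
  rwa [e] at h1

/-- the positive roots of height at least `ht s` other than `s` -/
def Oth (cs : CoxeterSystem M W) (h : IsCartan M A) (s : I → ℤ) : Set (I → ℤ) :=
  {t | t ∈ RGD.Pos cs h ∧ ht s ≤ ht t ∧ t ≠ s}

/-- the positive roots of height greater than `m` -/
def Gt (cs : CoxeterSystem M W) (h : IsCartan M A) (m : ℤ) : Set (I → ℤ) := {t | t ∈ RGD.Pos cs h ∧ m < ht t}

theorem up_oth (s : I → ℤ) : Up cs h (Oth cs h s) := by
  refine ⟨fun t ht' => ht'.1, ?_⟩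
  rintro t ⟨-, h2, -⟩ t' ht' hlt
  refine ⟨ht', by omega, ?_⟩
  rintro rfl
  omega

theorem up_gt (m : ℤ) : Up cs h (Gt cs h m) :=
  ⟨fun _ ht' => ht'.1, fun _ hs t ht' hlt => ⟨ht', hs.2.trans hlt⟩⟩

/-- **The star property by leading factors.** -/
theorem star_of_loc [Finite W] (hI : IntComm cs h X) {x : Y} {l : Set Y} (hxl : x ∈ l)
    (hloc : ∀ s ∈ RGD.Pos cs h, ∀ z ∈ X s, ∀ u ∈ RGD.Sup X (Oth cs h s), z * u * x = x * (z * u) →
      ∀ x' ∈ l, z * x' = x' * z) :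
    ∀ u ∈ RGD.Sup X (RGD.Pos cs h), u * x = x * u → ∀ x' ∈ l, u * x' = x' * u := by
  have hfin : (RGD.Pos cs h).Finite := (RGD.finite_roots (cs := cs) (h := h)).subset fun x hx => hx.1
  have key : ∀ m : ℕ, ∀ S : Set (I → ℤ), Up cs h S → S.ncard ≤ m →
      ∀ u ∈ RGD.Sup X S, u * x = x * u → ∀ x' ∈ l, u * x' = x' * u := by
    intro m
    induction m with
    | zero =>
      intro S hS hm u hu _ x' _
      have h1 : S = ∅ := (Set.ncard_eq_zero (hfin.subset hS.1)).1 (Nat.le_zero.1 hm)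
      have h2 : RGD.Sup X S ≤ ⊥ := by
        rw [h1]
        exact RGD.Sup_le fun z hz => absurd hz (Set.notMem_empty z)
      have h3 := Subgroup.mem_bot.1 (h2 hu)
      rw [h3, one_mul, mul_one]
    | succ m ih =>
      intro S hS hm u hu hux x' hx'
      rcases S.eq_empty_or_nonempty with h1 | h1
      · exact ih S hS (by rw [h1]; simp) u hu hux x' hx'
      obtain ⟨s, hs, hmin⟩ := Set.exists_min_image S ht (hfin.subset hS.1) h1
      have hS' : Up cs h (S \ {s}) := by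
        refine ⟨fun t ht' => hS.1 ht'.1, ?_⟩
        rintro t ⟨ht', hts⟩ t' ht'' hlt
        refine ⟨hS.2 t ht' t' ht'' hlt, ?_⟩
        rintro rfl
        have := hmin t ht'
        omega
      have hle : RGD.Sup X S ≤ X s ⊔ RGD.Sup X (S \ {s}) := by
        refine RGD.Sup_le fun t ht' => ?_
        by_cases hts : t = s
        · rw [hts]; exact le_sup_left
        · exact (RGD.le_Sup (S := S \ {s}) ⟨ht', hts⟩).trans le_sup_right
      have h2 : u ∈ ((X s ⊔ RGD.Sup X (S \ {s}) : Subgroup Y) : Set Y) := hle hu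
      rw [Subgroup.coe_mul_of_left_le_normalizer_right _ _ (hS'.le_normalizer hI (hS.1 hs)), Set.mem_mul] at h2
      obtain ⟨z, hz, u', hu', rfl⟩ := h2
      have hsub : S \ {s} ⊆ Oth cs h s := fun t ht' => ⟨hS.1 ht'.1, hmin t ht'.1, ht'.2⟩
      have hcard : (S \ {s}).ncard ≤ m := by
        have h3 := Set.ncard_diff_singleton_add_one hs (hfin.subset hS.1)
        omega
      have hz1 := hloc s (hS.1 hs) z hz u' (RGD.Sup_mono hsub hu') hux
      have hz2 := hz1 x hxl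
      have hu1 : u' * x = x * u' := by
        apply mul_left_cancel (a := z)
        rw [← mul_assoc, hux, ← mul_assoc, ← hz2, mul_assoc]
      rw [mul_assoc, ih _ hS' hcard u' hu' hu1 x' hx', ← mul_assoc, hz1 x' hx', mul_assoc]
  intro u hu
  exact key _ _ ⟨le_rfl, fun _ _ t ht' _ => ht'⟩ le_rfl u hu

/-- the commutator of `⟨X (Oth s)⟩` and `X r` avoids `s + r` -/
theorem comm_oth (hI : IntComm cs h X) {s r : I → ℤ} (hs : s ∈ RGD.Pos cs h) (hr : r ∈ RGD.Pos cs h)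
    (hab : ∀ a ∈ X r, ∀ b ∈ X r, a * b = b * a) {x u : Y} (hx : x ∈ X r) (hu : u ∈ RGD.Sup X (Oth cs h s)) :
    ⁅u, x⁆ ∈ RGD.Sup X {t | t ∈ RGD.Pos cs h ∧ ht s + ht r ≤ ht t ∧ t ≠ s + r} := by
  have hB : Up cs h {t | t ∈ RGD.Pos cs h ∧ ht s + ht r ≤ ht t ∧ t ≠ s + r} := by
    refine ⟨fun t ht' => ht'.1, ?_⟩
    rintro t ⟨-, h2, -⟩ t' ht' hlt
    refine ⟨ht', by omega, ?_⟩
    rintro rfl
    rw [map_add] at hlt
    omega
  have hP : ∀ t ∈ RGD.Pos cs h, ∀ g ∈ X t, ∀ v ∈ RGD.Sup X {t | t ∈ RGD.Pos cs h ∧ ht s + ht r ≤ ht t ∧ t ≠ s + r},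
      g * v * g⁻¹ ∈ RGD.Sup X {t | t ∈ RGD.Pos cs h ∧ ht s + ht r ≤ ht t ∧ t ≠ s + r} :=
    fun t ht' g hg v hv => hB.conj hI ht' hg hv
  have hconj : ∀ g ∈ RGD.Sup X (Oth cs h s),
      ∀ v ∈ RGD.Sup X {t | t ∈ RGD.Pos cs h ∧ ht s + ht r ≤ ht t ∧ t ≠ s + r},
      g * v * g⁻¹ ∈ RGD.Sup X {t | t ∈ RGD.Pos cs h ∧ ht s + ht r ≤ ht t ∧ t ≠ s + r} := by
    intro g hg
    refine Subgroup.iSup_induction (fun t : ↥(Oth cs h s) => X t.1) (C := fun g => ∀ v ∈ RGD.Sup X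
      {t | t ∈ RGD.Pos cs h ∧ ht s + ht r ≤ ht t ∧ t ≠ s + r}, g * v * g⁻¹ ∈ RGD.Sup X
      {t | t ∈ RGD.Pos cs h ∧ ht s + ht r ≤ ht t ∧ t ≠ s + r}) hg ?_ ?_ ?_
    · intro t g hg v hv
      exact hP t.1 t.2.1 g hg v hv
    · intro v hv
      rwa [one_mul, inv_one, mul_one]
    · intro g g' h1 h2 v hv
      have e : g * g' * v * (g * g')⁻¹ = g * (g' * v * g'⁻¹) * g⁻¹ := by group
      rw [e]
      exact h1 _ (h2 _ hv)
  have hu' : u ∈ RGD.Sup X (Oth cs h s) ∧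
      ⁅u, x⁆ ∈ RGD.Sup X {t | t ∈ RGD.Pos cs h ∧ ht s + ht r ≤ ht t ∧ t ≠ s + r} := by
    refine Subgroup.iSup_induction (fun t : ↥(Oth cs h s) => X t.1) (C := fun u => u ∈ RGD.Sup X (Oth cs h s) ∧
      ⁅u, x⁆ ∈ RGD.Sup X {t | t ∈ RGD.Pos cs h ∧ ht s + ht r ≤ ht t ∧ t ≠ s + r}) hu ?_ ?_ ?_
    · rintro ⟨t, ht1, ht2, ht3⟩ g hg
      refine ⟨RGD.le_Sup (S := Oth cs h s) ⟨ht1, ht2, ht3⟩ hg, ?_⟩
      by_cases htr : t = r
      · subst htr
        have e : ⁅g, x⁆ = 1 := commutatorElement_eq_one_iff_mul_comm.2 (hab g hg x hx)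
        rw [e]
        exact one_mem _
      · refine comm_mem (S := {t | t ∈ RGD.Pos cs h ∧ ht s + ht r ≤ ht t ∧ t ≠ s + r}) hI ht1 hr htr
          (fun z hz => ⟨ib_pos ht1 hr hz, ?_, ?_⟩) hg hx
        · have h1 := (ib_add_le ht1 hr hz).1
          omega
        · intro he
          have h1 := ib_add_le ht1 hr hz
          rw [he, map_add] at h1
          have h2 := h1.2 (by omega)
          exact ht3 (add_right_cancel h2).symm
    · refine ⟨one_mem _, ?_⟩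
      rw [commutatorElement_one_left]
      exact one_mem _
    · rintro g g' ⟨h1, h2⟩ ⟨h3, h4⟩
      refine ⟨mul_mem h1 h3, ?_⟩
      have e : ⁅g * g', x⁆ = g * ⁅g', x⁆ * g⁻¹ * ⁅g, x⁆ := by
        simp only [commutatorElement_def]; group
      rw [e]
      exact mul_mem (hconj g h1 _ h4) h2
  exact hu'.2

/-- **The leading factor.** -/
theorem lead [Finite W] (R : RGD cs h p T n X) (hI : IntComm cs h X) {s r : I → ℤ} (hs : s ∈ RGD.Pos cs h)
    (hr : r ∈ RGD.Pos cs h) (hab : ∀ a ∈ X r, ∀ b ∈ X r, a * b = b * a) {x z u : Y} (hx : x ∈ X r) (hz : z ∈ X s)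
    (hu : u ∈ RGD.Sup X (Oth cs h s)) (hc : z * u * x = x * (z * u)) :
    ⁅z, x⁆ ∈ RGD.Sup X (Gt cs h (ht s + ht r)) := by
  by_cases hsr : s = r
  · subst hsr
    rw [commutatorElement_eq_one_iff_mul_comm.2 (hab z hz x hx)]
    exact one_mem _
  have hB : Up cs h {t | t ∈ RGD.Pos cs h ∧ ht s + ht r ≤ ht t ∧ t ≠ s + r} := by
    refine ⟨fun t ht' => ht'.1, ?_⟩
    rintro t ⟨-, h2, -⟩ t' ht' hlt
    refine ⟨ht', by omega, ?_⟩
    rintro rfl
    rw [map_add] at hlt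
    omega
  have hA : Up cs h {t | t ∈ RGD.Pos cs h ∧ (ht s + ht r < ht t ∨ t = s + r)} := by
    refine ⟨fun t ht' => ht'.1, ?_⟩
    rintro t ⟨-, h2⟩ t' ht' hlt
    refine ⟨ht', Or.inl ?_⟩
    rcases h2 with h2 | rfl
    · omega
    · rwa [map_add] at hlt
  have h1 : ⁅z, x⁆ ∈ RGD.Sup X {t | t ∈ RGD.Pos cs h ∧ (ht s + ht r < ht t ∨ t = s + r)} := by
    refine comm_mem (S := {t | t ∈ RGD.Pos cs h ∧ (ht s + ht r < ht t ∨ t = s + r)}) hI hs hr hsr
      (fun w hw => ⟨ib_pos hs hr hw, ?_⟩) hz hx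
    have h2 := ib_add_le hs hr hw
    rcases h2.1.lt_or_eq with h3 | h3
    · exact Or.inl h3
    · exact Or.inr (h2.2 h3.symm)
  have h2 : ⁅z, x⁆ ∈ RGD.Sup X {t | t ∈ RGD.Pos cs h ∧ ht s + ht r ≤ ht t ∧ t ≠ s + r} := by
    have h3 := comm_oth hI hs hr hab hx hu
    have h4 := hB.conj hI hs hz h3
    have e : ⁅z, x⁆ = (z * ⁅u, x⁆ * z⁻¹)⁻¹ := by
      have h5 : z * ⁅u, x⁆ * z⁻¹ * ⁅z, x⁆ = 1 := by
        have h6 : z * ⁅u, x⁆ * z⁻¹ * ⁅z, x⁆ = z * u * x * (x * (z * u))⁻¹ := by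
          simp only [commutatorElement_def]; group
        rw [h6, hc, mul_inv_cancel]
      exact eq_inv_of_mul_eq_one_right h5
    rw [e]
    exact inv_mem h4
  refine (RGD.Sup_mono ?_) (hA.cl.inf R hI hB.cl ⟨h1, h2⟩)
  rintro t ⟨⟨h3, h4⟩, -, h5, h6⟩
  exact ⟨h3, h4.resolve_right h6⟩

/-- A product of root elements above a height. -/
theorem eq_one_of_gt [Finite W] (R : RGD cs h p T n X) (hI : IntComm cs h X) {a : I → ℤ} (ha : a ∈ RGD.Pos cs h)
    {y y' : Y} (hy : y ∈ X a) (hy' : y' ∈ RGD.Sup X (Gt cs h (ht a))) (hyy : y * y' ∈ RGD.Sup X (Gt cs h (ht a))) :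
    y = 1 := by
  have h1 : y ∈ RGD.Sup X (Gt cs h (ht a)) := by
    have h2 := mul_mem hyy (inv_mem hy')
    rwa [mul_inv_cancel_right] at h2
  have h2 : Cl cs h {a} := by
    refine ⟨fun t ht' => by rw [Set.mem_singleton_iff.1 ht']; exact ha, ?_⟩
    rintro x hx y hy hxy
    exact absurd ((Set.mem_singleton_iff.1 hx).trans (Set.mem_singleton_iff.1 hy).symm) hxy
  have h3 := h2.inf R hI (up_gt (cs := cs) (h := h) (ht a)).cl
    ⟨RGD.le_Sup (S := {a}) (Set.mem_singleton a) hy, h1⟩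
  have h4 : RGD.Sup X ({a} ∩ Gt cs h (ht a)) ≤ ⊥ := by
    refine RGD.Sup_le ?_
    rintro z ⟨hz, hz'⟩
    rw [Set.mem_singleton_iff] at hz
    subst hz
    exact absurd hz'.2 (lt_irrefl _)
  exact Subgroup.mem_bot.1 (h4 h3)

end Cfsg.Agent.OddHalf.D4.StarLoc

end

-- merged: Cfsg.Agent.OddHalf.D4.StarTw
section

/-!
# ODD, D4, (1B): the star property for twisted groups, coordinates (helper128)

* `intComm_sub`: the Chevalley commutator formula in the twisted group;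
* `rp_x`: representatives of the Weyl group act on the root elements by `a ↦ c * φ^k a`.
-/

set_option autoImplicit false
set_option linter.unusedSectionVars false

namespace Cfsg.Agent.OddHalf.D4.StarTw

open CoxeterSystem Cfsg.Agent.ChevalleyStructure.CoxeterGeom Cfsg.Agent.Tits.Roots Cfsg.Agent.Tits.Core
  Cfsg.Agent.Nodes.BNOf Cfsg.Agent.Nodes.Reps Cfsg.Agent.Nodes.RGDTwGen Cfsg.Agent.Nodes.RGDChev
  Cfsg.Agent.Nodes.RGDFold Cfsg.Agent.Nodes.RGDFoldSL Cfsg.Agent.Nodes.RGDTwCoord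
open Cfsg.Lie Cfsg.Agent.ChevalleyStructure Cfsg.Agent.ChevalleyStructure.Elts
open Cfsg.Agent.KFacts.RgdBorelTits Cfsg.Agent.KFacts.RgdFilt
open scoped commutatorElement

universe u

section Group

variable {D : ChevalleyDatum} {l : ℕ} {M' : CoxeterMatrix (Fin l)} {hp : IsType D l M'} {K : Type u} [Field K]
variable {m : ℕ} {M : CoxeterMatrix (Fin m)} {W : Type*} [Group W] (cs : CoxeterSystem M W)
  {A : Fin m → Fin m → ℤ} (h : IsCartan M A)
variable {J : Fin m → List (Fin l)} {L : List (List ℕ)} {σ : GL D.Idx K →* GL D.Idx K} {ρ ρ' : ℕ → ℕ}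
    {f : ℕ → K → K} {G : Subgroup (GL D.Idx K)} {φ : K →+* K} {ε δ : ℕ → ℤ} {O : List (List ℕ)}
    {dg : ℕ → ℕ → ℕ}

/-- The Chevalley commutator formula in the twisted group. -/
theorem intComm_sub [Finite K] (FD : FoldData D M A J L) (FG : FoldGrp hp K J L σ ρ ρ' f G) (p : ℕ)
    [Fact p.Prime] [CharP K p] :
    IntComm cs h (fun z => (R D hp K J σ z).subgroupOf G) := by
  intro x y hx hy hxy hxy' a ha b hb
  have h1 := KFacts.RgdFiltTwAll.intComm_fold cs h FD FG p x y hx hy hxy hxy' a ha b hb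
  have h2 : FS (fun z => (R D hp K J σ z).subgroupOf G) {z | IB cs h x y z} =
      (FS (R D hp K J σ) {z | IB cs h x y z}).subgroupOf G := by
    unfold FS
    rw [Nodes.RGDLib.iSup_subgroupOf]
    rintro ⟨z, hz⟩
    exact R_le cs h FD FG p hz.1
  rw [h2, Subgroup.mem_subgroupOf]
  exact h1

theorem phi_iter (ψ : K →+* K) {t : K} (ht : ψ t = t) (k : ℕ) : ψ^[k] t = t := by
  induction k with
  | zero => rfl
  | succ k ih => rw [Function.iterate_succ_apply, ht, ih]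

/-- The elements fixed by `φ` are coordinates. -/
theorem ok_mul_fix {z : Fin m → ℤ} {a t : K} (ha : Ok D J O φ z a) (ht : φ t = t) : Ok D J O φ z (t * a) := by
  unfold Ok at *
  rw [iterate_map_mul, ha, phi_iter φ ht]

/-- **The action of the representatives of the Weyl group.** -/
theorem rp_x [Finite K] (Tw : TwC hp K M A J L σ ρ ρ' f G φ ε δ O dg) (p : ℕ) [Fact p.Prime] [CharP K p]
    (hN : NSys M ((D.diagonalSubgroup K ⊓ G).subgroupOf G) (fun i => (⟨nI hp K (J i), Tw.FG.nG i⟩ : ↥G)))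
    {w : W} {g : ↥G} (hg : Rp cs hN w g) {z : Fin m → ℤ} (hz : IsRoot cs h z) :
    ∃ (c : K) (k : ℕ), c ≠ 0 ∧ ∀ a, Ok D J O φ z a → Ok D J O φ (rep cs h w z) (c * φ^[k] a) ∧
      g * x hp J φ δ O G z a * g⁻¹ = x hp J φ δ O G (rep cs h w z) (c * φ^[k] a) := by
  obtain ⟨ω, rfl⟩ := cs.wordProd_surjective w
  induction ω generalizing g with
  | nil =>
    rw [wordProd_nil] at hg ⊢
    rw [map_one, Module.End.one_apply]
    obtain ⟨χ, h1, h2, h3⟩ := Tw.tor_x cs h p hg.mem_of_one hz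
    exact ⟨χ, 0, h1, fun a ha => ⟨Ok.mul h2 ha, h3 a ha⟩⟩
  | cons i ω ih =>
    rw [wordProd_cons] at hg ⊢
    have h1 : Rp cs hN (cs.wordProd ω) ((⟨nI hp K (J i), Tw.FG.nG i⟩ : ↥G)⁻¹ * g) := by
      have := (rp_simple cs hN i).inv.mul hg
      rwa [inv_mul_cancel_left] at this
    obtain ⟨c, k, hc, h2⟩ := ih h1
    obtain ⟨η, hη, h3⟩ := Tw.conj_x cs h p i (hz.act (cs.wordProd ω))
    refine ⟨η * φ^[ex D J A O i (rep cs h (cs.wordProd ω) z)] c, ex D J A O i (rep cs h (cs.wordProd ω) z) + k,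
      mul_ne_zero hη.ne_zero ?_, fun a ha => ?_⟩
    · intro h0
      exact hc (φ.injective.iterate _ (by rw [h0, iterate_map_zero]))
    · obtain ⟨h4, h5⟩ := h2 a ha
      obtain ⟨h6, h7⟩ := h3 _ h4
      have e1 : η * φ^[ex D J A O i (rep cs h (cs.wordProd ω) z)] c *
          φ^[ex D J A O i (rep cs h (cs.wordProd ω) z) + k] a =
          η * φ^[ex D J A O i (rep cs h (cs.wordProd ω) z)] (c * φ^[k] a) := by
        rw [Function.iterate_add_apply, iterate_map_mul, mul_assoc]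
      rw [e1, rep_mul_apply]
      refine ⟨h6, ?_⟩
      rw [← h7, ← h5]
      group

/-- The lines over the field fixed by `φ`. -/
theorem rp_star [Finite K] (Tw : TwC hp K M A J L σ ρ ρ' f G φ ε δ O dg) (p : ℕ) [Fact p.Prime] [CharP K p]
    (hN : NSys M ((D.diagonalSubgroup K ⊓ G).subgroupOf G) (fun i => (⟨nI hp K (J i), Tw.FG.nG i⟩ : ↥G)))
    {u : ↥G} (hst : ∀ z ∈ RGD.Pos cs h, ∀ a, Ok D J O φ z a → a ≠ 0 → u * x hp J φ δ O G z a = x hp J φ δ O G z a * u →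
      ∀ t, φ t = t → u * x hp J φ δ O G z (t * a) = x hp J φ δ O G z (t * a) * u)
    {w : W} {g : ↥G} (hg : Rp cs hN w g) {z : Fin m → ℤ} (hz : IsRoot cs h z) (hw : rep cs h w z ∈ RGD.Pos cs h)
    {a : K} (ha : Ok D J O φ z a) (ha0 : a ≠ 0)
    (hu : u * (g * x hp J φ δ O G z a * g⁻¹) = g * x hp J φ δ O G z a * g⁻¹ * u) {t : K} (ht : φ t = t) :
    u * (g * x hp J φ δ O G z (t * a) * g⁻¹) = g * x hp J φ δ O G z (t * a) * g⁻¹ * u := by
  obtain ⟨c, k, hc, h1⟩ := rp_x cs h Tw p hN hg hz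
  obtain ⟨h2, h3⟩ := h1 a ha
  obtain ⟨h4, h5⟩ := h1 _ (ok_mul_fix ha ht)
  rw [h3] at hu
  rw [h5]
  have e : c * φ^[k] (t * a) = t * (c * φ^[k] a) := by
    rw [iterate_map_mul, phi_iter φ ht]
    ring
  rw [e]
  refine hst _ hw _ h2 (mul_ne_zero hc fun h0 => ha0 (φ.injective.iterate _ (by rw [h0, iterate_map_zero]))) hu t ht

/-- The structure constants. -/
theorem NN_of_tm (Tw : TwC hp K M A J L σ ρ ρ' f G φ ε δ O dg) {o o' : List ℕ} (ho : ∀ r ∈ o, r < D.nroots)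
    (ho' : ∀ r ∈ o', r < D.nroots) {k₀ : ℕ} {v : ℤ} {i j : ℕ} (hm : (v, i, j) ∈ tm dg δ o o' k₀) : v * v = 1 := by
  unfold tm at hm
  rw [List.mem_flatMap] at hm
  obtain ⟨r, hr, hm⟩ := hm
  obtain ⟨s, hs, e⟩ := List.mem_map.1 hm
  rw [List.mem_filter, decide_eq_true_eq] at hs
  have h1 : NN dg δ r s = v := congrArg Prod.fst e
  rw [← h1]
  exact Tw.NN_sq (ho r hr) (ho' s hs.1) hs.2.1

end Group

end Cfsg.Agent.OddHalf.D4.StarTw

end

-- merged: Cfsg.Agent.OddHalf.D4.StarESix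
section

/-!
# ODD, D4, (1B): the star property for `²E₆(q)`, `q` even (helper128)

* `star_x`: an element of `U` commuting with `x_z(a)`, `a ≠ 0`, `z > 0`, commutes with `x_z(t a)`, `t ∈ F_q`;
* `star`: the same for `g * x_i(a) * g⁻¹`, `g` a representative of the Weyl group.
-/

set_option autoImplicit false
set_option linter.unusedSectionVars false

namespace Cfsg.Agent.OddHalf.D4.StarESix

open CoxeterSystem Cfsg.Agent.ChevalleyStructure.CoxeterGeom Cfsg.Agent.Tits.Core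
  Cfsg.Agent.Nodes.BNOf Cfsg.Agent.Nodes.Reps Cfsg.Agent.Nodes.RGDTwGen Cfsg.Agent.Nodes.RGDChev
  Cfsg.Agent.Nodes.RGDFold
  Cfsg.Agent.Nodes.RGDFoldSL Cfsg.Agent.Nodes.RGDTwE6 Cfsg.Agent.Nodes.RGDTwTab Cfsg.Agent.Nodes.RGDTwCoordE6
  Cfsg.Agent.Nodes.RGDTwCoord Cfsg.Agent.Nodes.RGDTwComE6 Cfsg.Agent.Nodes.RGDTwActE6
open Cfsg.Agent.Tits.Roots hiding ht
open Cfsg.Lie Cfsg.Agent.ChevalleyStructure
open Cfsg.Agent.ChevalleyStructure.TwE6Basic (sg)
open Cfsg.Agent.KFacts.RgdBorelTits Cfsg.Agent.KFacts.RgdFilt Cfsg.Agent.OddHalf.D4.StarLoc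
  Cfsg.Agent.OddHalf.D4.LineRgd
open scoped commutatorElement

universe u

/-- The class of a vector. -/
local notation "cl" => Cfsg.Agent.Nodes.RGDTwCoord.cl chevE6 J O

variable {K : Type u} [Field K] {q : ℕ} {φ : K →+* K}
  {W : Type*} [Group W] {cs : CoxeterSystem CoxeterMatrix.F₄ W} {z w : Fin 4 → ℤ}

variable [Fintype K] (hφ : ∀ x, φ x = x ^ q) (hqq : ∀ t : K, (t ^ q) ^ q = t)

include hφ hqq

/-- The structure constants are signs. -/
theorem N_sq (hz : IsRoot cs isCartan z) (hw : IsRoot cs isCartan w) (hzw : IsRoot cs isCartan (z + w))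
    (hne : ¬ (St z ∧ Lg w)) : N z w * N z w = 1 := by
  have hlz : ∀ r ∈ cl z, r < chevE6.nroots := fun r hr => (V_of_mem hz hr).1
  have hlw : ∀ r ∈ cl w, r < chevE6.nroots := fun r hr => (V_of_mem hw hr).1
  rcases long_or_short hz with lz | sz
  · rcases long_or_short hw with lw | sw
    · obtain ⟨k, -, -, h3⟩ := facts_long hz hw (kd_long hz hw hzw lz lw)
      exact StarTw.NN_of_tm (twC hφ hqq) hlz hlw (k₀ := k) (i := 0) (j := 0) (by rw [h3]; exact List.mem_cons_self)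
    · obtain ⟨r, s₀, s₁, u₀, u₁, v, e1, e2, -, -, -, -, h5, h6, -⟩ := facts_quad hz hw (kd_quad hz hw hzw lz sw)
      rw [h6]
      have h7 : 2 ≤ dgE6 r s₀ := by
        unfold okQ sumB at h5
        simp only [Bool.and_eq_true, decide_eq_true_eq] at h5
        exact h5.1.1.1.1.1.1.2
      exact (twC hφ hqq).NN_sq (hlz r (by rw [e1]; exact List.mem_cons_self))
        (hlw s₀ (by rw [e2]; exact List.mem_cons_self)) h7
  · rcases long_or_short hw with lw | sw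
    · exact absurd ⟨sz, lw⟩ hne
    · rcases kd_ss hz hw hzw sz sw with hk | hk
      · obtain ⟨k, -, -, h3⟩ := facts_trace hz hw hk
        exact StarTw.NN_of_tm (twC hφ hqq) hlz hlw (k₀ := k) (i := 0) (j := 1) (by rw [h3]; exact List.mem_cons_self)
      · obtain ⟨u₀, u₁, -, -, h3⟩ := facts_short hz hw hk
        exact StarTw.NN_of_tm (twC hφ hqq) hlz hlw (k₀ := u₀) (i := 1) (j := 1)
          (by rw [h3]; exact List.mem_cons_self)

theorem N_ne_zero (hz : IsRoot cs isCartan z) (hw : IsRoot cs isCartan w) (hzw : IsRoot cs isCartan (z + w))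
    (hne : ¬ (St z ∧ Lg w)) : ((N z w : ℤ) : K) ≠ 0 := by
  intro h0
  have h1 := congrArg (Int.cast : ℤ → K) (N_sq hφ hqq hz hw hzw hne)
  rw [Int.cast_mul, h0, mul_zero, Int.cast_one] at h1
  exact zero_ne_one h1

theorem abel (hz : IsRoot cs isCartan z) : ∀ a ∈ X φ q z, ∀ b ∈ X φ q z, a * b = b * a := by
  intro a ha b hb
  obtain ⟨a, ha', rfl⟩ := (mem_X hφ hqq hz a).1 ha
  obtain ⟨b, hb', rfl⟩ := (mem_X hφ hqq hz b).1 hb
  rw [← x_add hφ hqq hz ha' hb', ← x_add hφ hqq hz hb' ha', add_comm]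

theorem intComm : IntComm cs isCartan (X φ q : (Fin 4 → ℤ) → Subgroup ↥(twistedE6 K q)) := by
  obtain ⟨p, hp'⟩ := CharP.exists K
  have : Fact p.Prime := ⟨CharP.char_is_prime K p⟩
  exact StarTw.intComm_sub cs isCartan foldData (foldGrp hφ hqq) p

/-- **The star property of `²E₆(q)`.** -/
theorem star_x [Finite W] (hz : z ∈ RGD.Pos cs isCartan) {a : K} (ha : Ok chevE6 J O φ z a) (ha0 : a ≠ 0)
    {u : ↥(twistedE6 K q)} (hu : u ∈ RGD.Sup (X φ q) (RGD.Pos cs isCartan))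
    (hux : u * x φ q z a = x φ q z a * u) {t : K} (ht : φ t = t) :
    u * x φ q z (t * a) = x φ q z (t * a) * u := by
  obtain ⟨p, hp'⟩ := CharP.exists K
  have : Fact p.Prime := ⟨CharP.char_is_prime K p⟩
  have R := rgd cs hφ hqq p
  have hI : IntComm cs isCartan (X φ q : (Fin 4 → ℤ) → Subgroup ↥(twistedE6 K q)) := intComm hφ hqq
  have hok : ∀ {t : K}, φ t = t → Ok chevE6 J O φ z (t * a) := fun ht => StarTw.ok_mul_fix ha ht
  refine star_of_loc hI (x := x φ q z a) (l := {y | ∃ t, φ t = t ∧ y = x φ q z (t * a)})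
    ⟨1, map_one φ, by rw [one_mul]⟩ ?_ u hu hux _ ⟨t, ht, rfl⟩
  intro s hs y hy v hv hc
  have hlead := lead R hI hs hz (abel hφ hqq hz.1) (x_mem hφ hqq hz.1 ha) hy hv hc
  obtain ⟨b, hb, rfl⟩ := (mem_X hφ hqq hs.1 y).1 hy
  by_cases hsz : IsRoot cs isCartan (s + z)
  swap
  · rintro _ ⟨t, ht', rfl⟩
    by_cases hne : z = -s
    · exact absurd hne (ne_neg hz hs)
    · exact comm_nil hφ hqq hs.1 hz.1 hsz hne b (t * a)
  have hszP : s + z ∈ RGD.Pos cs isCartan := ⟨hsz, fun i => add_nonneg (hs.2 i) (hz.2 i)⟩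
  have hht : LineRgd.ht s + LineRgd.ht z = LineRgd.ht (s + z) := (map_add _ _ _).symm
  rw [hht] at hlead
  -- it is enough that the coordinate is zero
  have hzero : b = 0 → ∀ x' ∈ {y | ∃ t, φ t = t ∧ y = x φ q z (t * a)}, x φ q s b * x' = x' * x φ q s b := by
    rintro rfl x' _
    rw [x_zero hφ hqq hs.1, one_mul, mul_one]
  have hfin : ∀ {c : K}, Ok chevE6 J O φ (s + z) c → ∀ {y' : ↥(twistedE6 K q)},
      y' ∈ RGD.Sup (X φ q) (Gt cs isCartan (LineRgd.ht (s + z))) →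
      x φ q (s + z) c * y' ∈ RGD.Sup (X φ q) (Gt cs isCartan (LineRgd.ht (s + z))) → c = 0 := by
    intro c hc' y' hy' h1
    exact (x_eq_one_iff hφ hqq hsz hc').1 (eq_one_of_gt R hI hszP (x_mem hφ hqq hsz hc') hy' h1)
  rcases long_or_short hs.1 with ls | ss
  · have hN := N_ne_zero hφ hqq hs.1 hz.1 hsz (fun h => not_both ls h.1)
    have hb' : φ b = b := (ok_iff_long hs.1 ls).1 hb
    rcases long_or_short hz.1 with lz | sz
    · -- long, long
      have ha' : φ a = a := (ok_iff_long hz.1 lz).1 ha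
      obtain ⟨h1, h2⟩ := comm_long hφ hqq hs.1 hz.1 hsz ls lz hb' ha'
      rw [h2] at hlead
      have h3 := hfin (c := ((N s z : ℤ) : K) * (b * a)) (y' := 1)
        (ok_long hsz h1 (by rw [map_mul, map_mul, map_intCast, ha', hb'])) (one_mem _) (by rwa [mul_one])
      exact hzero ((mul_eq_zero.1 ((mul_eq_zero.1 h3).resolve_left hN)).resolve_right ha0)
    · -- long, short
      obtain ⟨h1, h2, h3, h4⟩ := comm_quad hφ hqq hs.1 hz.1 hsz ls sz hb' a
      rw [h4] at hlead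
      have h5 : x φ q (s + (2 : ℤ) • z) (((N2 s z : ℤ) : K) * (b * (a * φ a))) ∈
          RGD.Sup (X φ q) (Gt cs isCartan (LineRgd.ht (s + z))) := by
        refine RGD.le_Sup (S := Gt cs isCartan (LineRgd.ht (s + z))) (z := s + (2 : ℤ) • z) ⟨⟨h2, fun i => ?_⟩, ?_⟩
          (x_mem hφ hqq h2 (ok_long h2 h3 ?_))
        · exact add_nonneg (hs.2 i) (mul_nonneg (by norm_num) (hz.2 i))
        · have := ht_pos' hz
          rw [map_add, map_add, map_zsmul, smul_eq_mul]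
          omega
        · rw [map_mul, map_mul, map_mul, map_intCast, phi_phi hφ hqq, hb', mul_comm (φ a) a]
      have h6 := hfin (ok_short hφ hqq hsz h1 _) h5 hlead
      exact hzero ((mul_eq_zero.1 ((mul_eq_zero.1 h6).resolve_left hN)).resolve_right ha0)
  · rcases long_or_short hz.1 with lz | sz
    · -- short, long
      have ha' : φ a = a := (ok_iff_long hz.1 lz).1 ha
      have hzs : IsRoot cs isCartan (z + s) := by rwa [add_comm]
      have hN := N_ne_zero hφ hqq hz.1 hs.1 hzs (fun h => not_both lz h.1)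
      obtain ⟨h1, h2, h3, h4⟩ := comm_quad hφ hqq hz.1 hs.1 hzs lz ss ha' b
      have hlead' : ⁅x φ q z a, x φ q s b⁆ ∈ RGD.Sup (X φ q) (Gt cs isCartan (LineRgd.ht (s + z))) := by
        have := inv_mem hlead
        rwa [commutatorElement_inv] at this
      rw [h4, add_comm z s] at hlead'
      rw [add_comm z s] at h1
      have h5 : x φ q (z + (2 : ℤ) • s) (((N2 z s : ℤ) : K) * (a * (b * φ b))) ∈
          RGD.Sup (X φ q) (Gt cs isCartan (LineRgd.ht (s + z))) := by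
        refine RGD.le_Sup (S := Gt cs isCartan (LineRgd.ht (s + z))) (z := z + (2 : ℤ) • s) ⟨⟨h2, fun i => ?_⟩, ?_⟩
          (x_mem hφ hqq h2 (ok_long h2 h3 ?_))
        · exact add_nonneg (hz.2 i) (mul_nonneg (by norm_num) (hs.2 i))
        · have := ht_pos' hs
          rw [map_add, map_add, map_zsmul, smul_eq_mul]
          omega
        · rw [map_mul, map_mul, map_mul, map_intCast, phi_phi hφ hqq, ha', mul_comm (φ b) b]
      have h6 := hfin (ok_short hφ hqq hsz h1 _) h5 hlead'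
      exact hzero ((mul_eq_zero.1 ((mul_eq_zero.1 h6).resolve_left hN)).resolve_left ha0)
    · have hN := N_ne_zero hφ hqq hs.1 hz.1 hsz (fun h => not_both h.2 sz)
      rcases long_or_short hsz with lsz | ssz
      · -- the trace
        have h1 := comm_trace hφ hqq hs.1 hz.1 hsz ss sz lsz b a
        rw [h1] at hlead
        have h3 := hfin (c := ((N s z : ℤ) : K) * (b * φ a + φ b * a)) (y' := 1) (ok_long hsz lsz (by
          rw [map_mul, map_add, map_mul, map_mul, map_intCast, phi_phi hφ hqq, phi_phi hφ hqq, add_comm]))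
          (one_mem _) (by rwa [mul_one])
        have h4 := (mul_eq_zero.1 h3).resolve_left hN
        rintro _ ⟨t, ht', rfl⟩
        rw [← commutatorElement_eq_one_iff_mul_comm, comm_trace hφ hqq hs.1 hz.1 hsz ss sz lsz b (t * a)]
        have h5 : b * φ (t * a) + φ b * (t * a) = 0 := by
          rw [map_mul, ht']
          linear_combination t * h4
        rw [h5, mul_zero, x_zero hφ hqq hsz]
      · -- short, short, short
        have h1 := comm_short hφ hqq hs.1 hz.1 hsz ss sz ssz b a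
        rw [h1] at hlead
        have h3 := hfin (y' := 1) (ok_short hφ hqq hsz ssz _) (one_mem _) (by rwa [mul_one])
        have h4 := (map_eq_zero φ).1 ((mul_eq_zero.1 h3).resolve_left hN)
        exact hzero ((mul_eq_zero.1 h4).resolve_right ha0)

/-- **The star property of `²E₆(q)`**, for the conjugates of the root elements of the nodes. -/
theorem star [Finite W] (p : ℕ) [Fact p.Prime] [CharP K p] {v : W} {g : ↥(twistedE6 K q)}
    (hg : Rp cs (rgd cs hφ hqq p).nsys v g) (hz : IsRoot cs isCartan z)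
    (hv : rep cs isCartan v z ∈ RGD.Pos cs isCartan) {a : K}
    (ha : Ok chevE6 J O φ z a) (ha0 : a ≠ 0) {u : ↥(twistedE6 K q)}
    (hu : u ∈ RGD.Sup (X φ q) (RGD.Pos cs isCartan))
    (hux : u * (g * x φ q z a * g⁻¹) = g * x φ q z a * g⁻¹ * u) {t : K} (ht : φ t = t) :
    u * (g * x φ q z (t * a) * g⁻¹) = g * x φ q z (t * a) * g⁻¹ * u :=
  StarTw.rp_star cs isCartan (twC hφ hqq) p (rgd cs hφ hqq p).nsys (u := u)
    (fun _ hz' _ ha' ha0' hux' _ ht' => star_x hφ hqq hz' ha' ha0' hu hux' ht') hg hz hv ha ha0 hux ht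

end Cfsg.Agent.OddHalf.D4.StarESix

end
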