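import Mathlib
import Cfsg.Agent.OddHalf.D4.LineRgdInd
import Cfsg.Agent.KFacts.RgdNodes
import Cfsg.Agent.KFacts.RgdGraph
import Cfsg.Agent.KFacts.Mult.OEightInner

-- merged: Cfsg.Agent.OddHalf.D4.TwWt
section

/-!
# ODD, D4, (1B): weights on the positive roots of a root group datum (helper917)

`Wts cs h X wt` : `[X r, X s] ≤ ⟨X z : z between r and s, wt z ≥ wt r + wt s⟩`, the root groups are abelian.
* `VV d = ⟨X r : wt r ≥ d⟩`, `VV_comm` : `[U, VV d] ≤ VV (d + 1)`;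
* `inf_eq` : `X r ∩ ⟨X s : s ∈ Ω⟩ = 1` for `r ∉ Ω`, `Ω` an upper set (`Up`);
* `Up.comm` : `[U, X r ⟨X s : s ∈ Ω⟩] ≤ ⟨X s : s ∈ Ω⟩` for `r` of maximal weight outside `Ω`.
-/

set_option autoImplicit false
set_option linter.unusedSectionVars false

namespace Cfsg.Agent.OddHalf.D4.TwWt

open Subgroup CoxeterSystem Cfsg.Agent.ChevalleyStructure.CoxeterGeom Cfsg.Agent.Tits.Roots Cfsg.Agent.Tits.Core
  Cfsg.Agent.Nodes.Reps Cfsg.Agent.Nodes.BNOf Cfsg.Agent.Nodes.Bruhat Cfsg.Agent.Nodes.OppDec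
  Cfsg.Agent.Nodes.NormalForm Cfsg.Agent.Nodes.Coroot Cfsg.Agent.Nodes
  Cfsg.Agent.KFacts.RgdPar Cfsg.Agent.KFacts.RgdTI Cfsg.Agent.KFacts.RgdFilt Cfsg.Agent.KFacts.RgdBorelTits
  Cfsg.Agent.OddHalf.D4.Line Cfsg.Agent.OddHalf.D4.LineFilt Cfsg.Agent.OddHalf.D4.LineRgd
open scoped commutatorElement

variable {I W Y : Type*} [Fintype I] [DecidableEq I] [Group W] [Group Y] {M : CoxeterMatrix I}
  {cs : CoxeterSystem M W} {A : I → I → ℤ} {h : IsCartan M A} {p : ℕ} {T : Subgroup Y} {n : I → Y}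
  {X : (I → ℤ) → Subgroup Y}

/-- Weights on the positive roots. -/
structure Wts (cs : CoxeterSystem M W) (h : IsCartan M A) (X : (I → ℤ) → Subgroup Y) (wt : (I → ℤ) → ℕ) : Prop where
  ab : ∀ r ∈ RGD.Pos cs h, ∀ a ∈ X r, ∀ b ∈ X r, a * b = b * a
  comm : ∀ r ∈ RGD.Pos cs h, ∀ s ∈ RGD.Pos cs h, r ≠ s → ∀ a ∈ X r, ∀ b ∈ X s,
    ⁅a, b⁆ ∈ RGD.Sup X {z | Btwn cs h r s z ∧ wt r + wt s ≤ wt z}
  pos : ∀ r ∈ RGD.Pos cs h, 0 < wt r

/-- the height is a weight -/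
theorem Wts.of_ht (hI : IntComm cs h X) (hab : ∀ a ∈ RGD.Pos cs h, ∀ u ∈ X a, ∀ v ∈ X a, u * v = v * u) :
    Wts cs h X (fun z => (LineRgd.ht z).toNat) where
  ab := hab
  comm r hr s hs hrs a ha b hb := by
    have h1 := ht_pos hr.2 hr.1.ne_zero
    have h2 := ht_pos hs.2 hs.1.ne_zero
    have hrs' : r ≠ -s := by
      rintro rfl
      rw [map_neg] at h1
      omega
    have h3 := hI r s hr.1 hs.1 hrs hrs' a ha b hb
    refine (FS_le fun z hz => ?_ : FS X {z | IB cs h r s z} ≤ _) h3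
    have hz' : IB cs h r s z := hz
    obtain ⟨hz1, i, j, hi, hj, rfl⟩ := id hz'
    refine RGD.le_Sup ⟨hz'.btwn, ?_⟩
    show (LineRgd.ht r).toNat + (LineRgd.ht s).toNat ≤ (LineRgd.ht (i • r + j • s)).toNat
    rw [map_add, map_zsmul, map_zsmul, smul_eq_mul, smul_eq_mul]
    have h4 : LineRgd.ht r + LineRgd.ht s ≤ i * LineRgd.ht r + j * LineRgd.ht s := by nlinarith
    omega
  pos r hr := by
    have h1 := ht_pos hr.2 hr.1.ne_zero
    show 0 < (LineRgd.ht r).toNat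
    omega

/-- roots between positive roots are positive -/
theorem pos_of_btwn {r s z : I → ℤ} (hr : r ∈ RGD.Pos cs h) (hs : s ∈ RGD.Pos cs h) (hz : Btwn cs h r s z) :
    z ∈ RGD.Pos cs h := by
  obtain ⟨hz, m, a, b, hm, ha, hb, he⟩ := hz
  refine ⟨hz, fun i => ?_⟩
  have h1 := congrFun he i
  simp only [Pi.add_apply, Pi.smul_apply, smul_eq_mul] at h1
  have h2 := mul_nonneg ha.le (hr.2 i)
  have h3 := mul_nonneg hb.le (hs.2 i)
  show 0 ≤ z i
  by_contra h4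
  push Not at h4
  have := mul_neg_of_pos_of_neg hm h4
  linarith

variable {wt : (I → ℤ) → ℕ}

/-- the roots of weight at least `d` -/
def VV (cs : CoxeterSystem M W) (h : IsCartan M A) (X : (I → ℤ) → Subgroup Y) (wt : (I → ℤ) → ℕ) (d : ℕ) :
    Subgroup Y := RGD.Sup X {r | r ∈ RGD.Pos cs h ∧ d ≤ wt r}

theorem X_le_VV {r : I → ℤ} (hr : r ∈ RGD.Pos cs h) {d : ℕ} (hd : d ≤ wt r) : X r ≤ VV cs h X wt d :=
  RGD.le_Sup (S := {r | r ∈ RGD.Pos cs h ∧ d ≤ wt r}) ⟨hr, hd⟩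

theorem VV_zero : VV cs h X wt 0 = RGD.Sup X (RGD.Pos cs h) :=
  le_antisymm (RGD.Sup_mono fun _ hr => hr.1) (RGD.Sup_mono fun _ hr => ⟨hr, Nat.zero_le _⟩)

theorem VV_anti {d e : ℕ} (hde : d ≤ e) : VV cs h X wt e ≤ VV cs h X wt d :=
  RGD.Sup_mono fun _ hr => ⟨hr.1, hde.trans hr.2⟩

theorem VV_eq (d : ℕ) : VV cs h X wt d = V (Yp (cs := cs) (h := h) X) (fun z => wt z.1) d := by
  apply le_antisymm
  · exact RGD.Sup_le fun r hr => le_V (Y := Yp X) (w := fun z => wt z.1) (i := ⟨r, hr.1⟩) hr.2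
  · exact V_le fun i hi => X_le_VV i.2 hi

section

variable (Ws : Wts cs h X wt)

include Ws

theorem comm_le {r s : I → ℤ} (hr : r ∈ RGD.Pos cs h) (hs : s ∈ RGD.Pos cs h) {a b : Y} (ha : a ∈ X r)
    (hb : b ∈ X s) : a * b * a⁻¹ * b⁻¹ ∈ VV cs h X wt (wt r + wt s) := by
  by_cases hrs : r = s
  · subst hrs
    rw [Ws.ab r hr a ha b hb]
    have e : b * a * a⁻¹ * b⁻¹ = 1 := by group
    rw [e]
    exact one_mem _
  · have h1 := Ws.comm r hr s hs hrs a ha b hb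
    rw [commutatorElement_def] at h1
    exact RGD.Sup_mono (fun z hz => (⟨pos_of_btwn hr hs hz.1, hz.2⟩ :
      z ∈ {r' | r' ∈ RGD.Pos cs h ∧ wt r + wt s ≤ wt r'})) h1

theorem VV_comm (d : ℕ) {s : Y} (hs : s ∈ RGD.Sup X (RGD.Pos cs h)) {u : Y} (hu : u ∈ VV cs h X wt d) :
    s * u * s⁻¹ * u⁻¹ ∈ VV cs h X wt (d + 1) := by
  rw [VV_eq] at hu ⊢
  refine V_comm ?_ d ?_ u hu
  · rintro ⟨r, hr⟩ ⟨s, hs⟩ a ha b hb
    rw [← VV_eq]
    have h1 := Ws.pos r hr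
    exact VV_anti (show wt s + 1 ≤ wt r + wt s by omega) (comm_le Ws hr hs ha hb)
  · rw [← VV_eq, VV_zero]
    exact hs

end

/-! ### Upper sets -/

/-- upper sets of positive roots -/
structure Up (cs : CoxeterSystem M W) (h : IsCartan M A) (wt : (I → ℤ) → ℕ) (Ω : Set (I → ℤ)) : Prop where
  pos : Ω ⊆ RGD.Pos cs h
  up : ∀ r ∈ Ω, ∀ s ∈ RGD.Pos cs h, wt r < wt s → s ∈ Ω

/-- **Independence.** -/
theorem inf_eq [Finite W] (R : RGD cs h p T n X) (Ws : Wts cs h X wt) {Ω : Set (I → ℤ)} (hΩ : Up cs h wt Ω)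
    {a : I → ℤ} (ha : a ∈ RGD.Pos cs h) (haΩ : a ∉ Ω) : X a ⊓ RGD.Sup X Ω = ⊥ := by
  have hPS : PS' cs h (1 : W) = RGD.Pos cs h := by
    ext x
    simp [PS', RGD.Pos]
  have h1 := inf_w R (G := cut {a} X) (G' := cut Ω X) (1 : W) ?_ ?_ ?_ ?_
  · rw [hPS] at h1
    rw [eq_bot_iff]
    intro g hg
    have h2 : g ∈ FS (cut {a} X) (RGD.Pos cs h) := by
      have h3 := le_FS (G := cut {a} X) (S := RGD.Pos cs h) ha
      rw [cut_pos (Set.mem_singleton a)] at h3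
      exact h3 hg.1
    have h3 : g ∈ FS (cut Ω X) (RGD.Pos cs h) := by
      have h4 : RGD.Sup X Ω ≤ FS (cut Ω X) (RGD.Pos cs h) := by
        refine RGD.Sup_le fun z hz => ?_
        have h6 := le_FS (G := cut Ω X) (S := RGD.Pos cs h) (hΩ.pos hz)
        rw [cut_pos hz] at h6
        exact h6
      exact h4 hg.2
    have h4 := h1 ⟨h2, h3⟩
    refine (FS_le fun z _ => ?_ : FS (fun x => cut {a} X x ⊓ cut Ω X x) (RGD.Pos cs h) ≤ ⊥) h4
    by_cases hz : z = a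
    · rw [hz, cut_neg haΩ, inf_bot_eq]
    · rw [cut_neg (show z ∉ ({a} : Set (I → ℤ)) from hz), bot_inf_eq]
  · intro x _ y _ hxy u hu v hv
    by_cases hx : x = a
    · have hy : y ∉ ({a} : Set (I → ℤ)) := fun e => hxy (by rw [hx]; exact (Set.mem_singleton_iff.1 e).symm)
      rw [cut_neg hy, Subgroup.mem_bot] at hv
      rw [hv, commutatorElement_one_right]
      exact one_mem _
    · rw [cut_neg (show x ∉ ({a} : Set (I → ℤ)) from hx), Subgroup.mem_bot] at hu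
      rw [hu, commutatorElement_one_left]
      exact one_mem _
  · intro x hx y hy hxy u hu v hv
    rw [hPS] at hx hy
    by_cases hx' : x ∈ Ω
    · by_cases hy' : y ∈ Ω
      · rw [cut_pos hx'] at hu
        rw [cut_pos hy'] at hv
        have h5 := Ws.comm x hx y hy hxy u hu v hv
        refine (RGD.Sup_le fun z hz => ?_ : RGD.Sup X {z | Btwn cs h x y z ∧ wt x + wt y ≤ wt z} ≤ _) h5
        have h6 : z ∈ Ω := hΩ.up x hx' z (pos_of_btwn hx hy hz.1) (by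
          have := Ws.pos y hy
          have := hz.2
          omega)
        have h7 := le_FS (G := cut Ω X) (S := {z | Btwn cs h x y z}) hz.1
        rwa [cut_pos h6] at h7
      · rw [cut_neg hy', Subgroup.mem_bot] at hv
        rw [hv, commutatorElement_one_right]
        exact one_mem _
    · rw [cut_neg hx', Subgroup.mem_bot] at hu
      rw [hu, commutatorElement_one_left]
      exact one_mem _
  · intro x _
    exact cut_le _ _ _
  · intro x _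
    exact cut_le _ _ _

theorem Up.ins {Ω : Set (I → ℤ)} (hΩ : Up cs h wt Ω) {r : I → ℤ} (hr : r ∈ RGD.Pos cs h)
    (hmax : ∀ s ∈ RGD.Pos cs h, s ∉ Ω → wt s ≤ wt r) : Up cs h wt (insert r Ω) where
  pos := Set.insert_subset hr hΩ.pos
  up := by
    rintro s (rfl | hs) t ht hlt
    · by_contra h1
      have h2 := hmax t ht (fun h3 => h1 (Set.mem_insert_of_mem _ h3))
      omega
    · exact Set.mem_insert_of_mem _ (hΩ.up s hs t ht hlt)

/-- the roots of weight `> wt r` are in `Ω`, all roots of `Ω` have weight `≥ wt r` -/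
theorem Up.between {Ω : Set (I → ℤ)} (hΩ : Up cs h wt Ω) {r : I → ℤ} (hr : r ∈ RGD.Pos cs h) (hrΩ : r ∉ Ω)
    (hmax : ∀ s ∈ RGD.Pos cs h, s ∉ Ω → wt s ≤ wt r) :
    VV cs h X wt (wt r + 1) ≤ RGD.Sup X Ω ∧ RGD.Sup X Ω ≤ VV cs h X wt (wt r) := by
  constructor
  · refine RGD.Sup_mono fun s hs => ?_
    by_contra h1
    have h2 := hmax s hs.1 h1
    have h3 := hs.2
    omega
  · refine RGD.Sup_mono fun s hs => ⟨hΩ.pos hs, ?_⟩
    by_contra h1
    push Not at h1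
    exact hrΩ (hΩ.up s hs r hr h1)

/-- a positive root of maximal weight outside `Ω` -/
theorem Up.exists_max [Finite W] {Ω : Set (I → ℤ)} (hne : ¬ RGD.Pos cs h ⊆ Ω) :
    ∃ r ∈ RGD.Pos cs h, r ∉ Ω ∧ ∀ s ∈ RGD.Pos cs h, s ∉ Ω → wt s ≤ wt r := by
  have hfin : (RGD.Pos cs h \ Ω).Finite :=
    (RGD.finite_roots (cs := cs) (h := h)).subset fun x hx => hx.1.1
  obtain ⟨r, hr, hrΩ⟩ := Set.not_subset.1 hne
  obtain ⟨m, hm, hmax⟩ := Set.exists_max_image _ wt hfin ⟨r, hr, hrΩ⟩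
  exact ⟨m, hm.1, hm.2, fun s hs hs' => hmax s ⟨hs, hs'⟩⟩

/-- **Induction over the upper sets.** -/
theorem Up.induction [Finite W] {Q : Set (I → ℤ) → Prop} (h0 : Q ∅)
    (h1 : ∀ Ω, Up cs h wt Ω → Q Ω → ∀ r ∈ RGD.Pos cs h, r ∉ Ω → (∀ s ∈ RGD.Pos cs h, s ∉ Ω → wt s ≤ wt r) →
      Q (Insert.insert r Ω)) : Q (RGD.Pos cs h) := by
  have hfin : (RGD.Pos cs h).Finite := (RGD.finite_roots (cs := cs) (h := h)).subset fun x hx => hx.1
  have key : ∀ m : ℕ, ∃ Ω, Up cs h wt Ω ∧ Q Ω ∧ (RGD.Pos cs h ⊆ Ω ∨ m ≤ Ω.ncard) := by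
    intro m
    induction m with
    | zero => exact ⟨∅, ⟨Set.empty_subset _, fun r hr => absurd hr (Set.notMem_empty r)⟩, h0, Or.inr (Nat.zero_le _)⟩
    | succ m ih =>
      obtain ⟨Ω, hΩ, hQ, h2⟩ := ih
      by_cases hne : RGD.Pos cs h ⊆ Ω
      · exact ⟨Ω, hΩ, hQ, Or.inl hne⟩
      · obtain ⟨r, hr, hrΩ, hmax⟩ := Up.exists_max (wt := wt) hne
        refine ⟨insert r Ω, hΩ.ins hr hmax, h1 Ω hΩ hQ r hr hrΩ hmax, Or.inr ?_⟩
        rw [Set.ncard_insert_of_notMem hrΩ (hfin.subset hΩ.pos)]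
        have := h2.resolve_left hne
        omega
  obtain ⟨Ω, hΩ, hQ, h2⟩ := key ((RGD.Pos cs h).ncard + 1)
  rcases h2 with h2 | h2
  · rwa [Set.Subset.antisymm h2 hΩ.pos]
  · have h3 := Set.ncard_le_ncard hΩ.pos hfin
    omega

end Cfsg.Agent.OddHalf.D4.TwWt

end

-- merged: Cfsg.Agent.OddHalf.D4.TwLin
section

/-!
# ODD, D4, (1B): linear root group data (helper917)

`Lin R k Kf x χ wt ρ` : the simple root group `X_i` is coordinatised by the subfield `Kf i` of `L`, `k ≤ Kf i`; all frame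
automorphisms fix the diagram and act on the coordinates by one field automorphism of `L`; `star` : an element of `U`
centralising one nontrivial element of a line `k a` of a root group centralises the line.

* `Lin.lam : MulAut Y →* (L ≃+* L)` : the field automorphism, trivial on inner automorphisms; 2-elements of the kernel
  are inner.
-/

set_option autoImplicit false
set_option linter.unusedSectionVars false

namespace Cfsg.Agent.OddHalf.D4.TwLin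

open Subgroup CoxeterSystem Cfsg.Agent.ChevalleyStructure.CoxeterGeom Cfsg.Agent.Tits.Roots Cfsg.Agent.Tits.Core
  Cfsg.Agent.Tits.Exchange Cfsg.Agent.Nodes.Reps Cfsg.Agent.Nodes.BNOf Cfsg.Agent.Nodes.StabComb
  Cfsg.Agent.Nodes.Bruhat Cfsg.Agent.Nodes.OppDec Cfsg.Agent.Nodes.LeviDec Cfsg.Agent.Nodes.NormalForm
  Cfsg.Agent.KFacts.RgdOpp Cfsg.Agent.KFacts.RgdAut Cfsg.Agent.KFacts.RgdDiag Cfsg.Agent.KFacts.RgdRigid
  Cfsg.Agent.KFacts.RgdField Cfsg.Agent.KFacts.RgdTau Cfsg.Agent.KFacts.RgdNodes Cfsg.Agent.OddHalf.D4.TwWt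
open scoped commutatorElement

variable {I W Y : Type*} [Fintype I] [DecidableEq I] [Group W] [Group Y] {M : CoxeterMatrix I}
  {cs : CoxeterSystem M W} {A : I → I → ℤ} {h : IsCartan M A} {T : Subgroup Y} {n : I → Y}
  {X : (I → ℤ) → Subgroup Y} {L : Type*} [Field L] {k : Subfield L} {Kf : I → Subfield L}
  {x : ∀ i, Kf i → Y} {χ : ∀ i, Y → Kf i} {wt : (I → ℤ) → ℕ} {ρ : I → ℤ}

/-- Linear root group data. -/
structure Lin (R : RGD cs h 2 T n X) (k : Subfield L) (Kf : I → Subfield L) (x : ∀ i, Kf i → Y)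
    (χ : ∀ i, Y → Kf i) (wt : (I → ℤ) → ℕ) (ρ : I → ℤ) : Prop where
  gen : RGD.Sup X {z | IsRoot cs h z} = ⊤
  coord : ∀ i, Coord T (X (sr i)) (x i) (χ i)
  le : ∀ i, k ≤ Kf i
  top : ∃ i, Kf i = ⊤
  one : ∀ (β : MulAut Y) (σ : Equiv.Perm I), Diag T X β σ → σ = 1
  tau : ∀ β : MulAut Y, Diag T X β 1 → ∃ τ : L ≃+* L, ∀ i, ∀ t ∈ T, (χ i (β t) : L) = τ (χ i t)
  wts : Wts cs h X wt
  star : ∀ w i g, Rp cs R.nsys w g → rep cs h w (sr i) ∈ RGD.Pos cs h → ∀ a : Kf i, a ≠ 0 →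
    ∀ u ∈ RGD.Sup X (RGD.Pos cs h), u * (g * x i a * g⁻¹) = g * x i a * g⁻¹ * u → ∀ t : Kf i, (t : L) ∈ k →
      u * (g * x i (t * a) * g⁻¹) = g * x i (t * a) * g⁻¹ * u
  rho : ∃ w i, rep cs h w (sr i) = ρ ∧ Kf i = k
  rho_pos : ρ ∈ RGD.Pos cs h
  cen : ∀ z ∈ RGD.Sup X (RGD.Pos cs h), (∀ u ∈ RGD.Sup X (RGD.Pos cs h), u * z = z * u) ↔ z ∈ X ρ

/-- The field automorphism of a frame automorphism. -/
structure LTau (T : Subgroup Y) (X : (I → ℤ) → Subgroup Y) (χ : ∀ i, Y → Kf i) (β : MulAut Y) (τ : L ≃+* L) :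
    Prop where
  diag : Diag T X β 1
  char : ∀ i, ∀ t ∈ T, (χ i (β t) : L) = τ (χ i t)

theorem LTau.one : LTau T X χ (1 : MulAut Y) (1 : L ≃+* L) := ⟨Diag.one, fun _ _ _ => rfl⟩

theorem LTau.mul {β β' : MulAut Y} {τ τ' : L ≃+* L} (S : LTau T X χ β τ) (S' : LTau T X χ β' τ') :
    LTau T X χ (β * β') (τ * τ') where
  diag := by
    have := S.diag.mul S'.diag
    rwa [mul_one] at this
  char i t ht := by
    rw [MulAut.mul_apply, S.char _ _ ((S'.diag.tor t).2 ht), S'.char i t ht]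
    rfl

theorem LTau.inv {β : MulAut Y} {τ : L ≃+* L} (S : LTau T X χ β τ) : LTau T X χ β⁻¹ τ⁻¹ where
  diag := by
    have := S.diag.inv
    rwa [inv_one] at this
  char i t ht := by
    have h2 := S.char i (β⁻¹ t) ((S.diag.tor.inv t).2 ht)
    rw [MulAut.apply_inv_self] at h2
    rw [h2]
    exact (τ.symm_apply_apply _).symm

theorem LTau.pow {β : MulAut Y} {τ : L ≃+* L} (S : LTau T X χ β τ) (m : ℕ) : LTau T X χ (β ^ m) (τ ^ m) := by
  induction m with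
  | zero => rw [pow_zero, pow_zero]; exact LTau.one
  | succ m ih => rw [pow_succ, pow_succ]; exact ih.mul S

section

variable {R : RGD cs h 2 T n X} (Λ : Lin R k Kf x χ wt ρ)

include Λ

/-- uniqueness -/
theorem LTau.unique {β : MulAut Y} {τ τ' : L ≃+* L} (S : LTau T X χ β τ) (S' : LTau T X χ β τ') : τ = τ' := by
  obtain ⟨i, hi⟩ := Λ.top
  have C := Λ.coord i
  have h1 : AddSubgroup.closure (χ i '' (T : Set Y)) ≤
      (AddMonoidHom.eqLocus (τ : L →+ L) (τ' : L →+ L)).comap ((Kf i).subtype : Kf i →+ L) := by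
    rw [AddSubgroup.closure_le]
    rintro _ ⟨t, ht, rfl⟩
    show τ (χ i t) = τ' (χ i t)
    rw [← S.char i t ht, ← S'.char i t ht]
  rw [C.span, top_le_iff] at h1
  ext a
  have h2 : (⟨a, by rw [hi]; exact Subfield.mem_top a⟩ : Kf i) ∈
      (AddMonoidHom.eqLocus (τ : L →+ L) (τ' : L →+ L)).comap ((Kf i).subtype : Kf i →+ L) := by
    rw [h1]; exact AddSubgroup.mem_top _
  exact h2

theorem exists_ltau {β : MulAut Y} {σ : Equiv.Perm I} (D : Diag T X β σ) : ∃ τ : L ≃+* L, LTau T X χ β τ := by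
  have h1 := Λ.one β σ D
  subst h1
  obtain ⟨τ, hτ⟩ := Λ.tau β D
  exact ⟨τ, D, hτ⟩

/-- the semilinear action on the simple root groups -/
theorem LTau.semi {β : MulAut Y} {τ : L ≃+* L} (S : LTau T X χ β τ) (i : I) :
    ∃ (τ' : Kf i ≃+* Kf i) (c : Kf i), c ≠ 0 ∧ (∀ a, (τ' a : L) = τ a) ∧ ∀ a, β (x i a) = x i (c * τ' a) := by
  have C := Λ.coord i
  obtain ⟨τ', c, hc, hx, hchar⟩ := C.exists_semi C S.diag.tor (S.diag.pos i)
  refine ⟨τ', c, hc, fun a => ?_, hx⟩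
  have h1 : AddSubgroup.closure (χ i '' (T : Set Y)) ≤
      AddMonoidHom.eqLocus (((Kf i).subtype : Kf i →+ L).comp (τ' : Kf i →+ Kf i))
        ((τ : L →+ L).comp ((Kf i).subtype : Kf i →+ L)) := by
    rw [AddSubgroup.closure_le]
    rintro _ ⟨t, ht, rfl⟩
    show (τ' (χ i t) : L) = τ (χ i t)
    rw [← hchar t ht, S.char i t ht]
  rw [C.span, top_le_iff] at h1
  have h2 : a ∈ AddMonoidHom.eqLocus (((Kf i).subtype : Kf i →+ L).comp (τ' : Kf i →+ Kf i))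
      ((τ : L →+ L).comp ((Kf i).subtype : Kf i →+ L)) := by
    rw [h1]; exact AddSubgroup.mem_top _
  exact h2

omit Λ in
theorem hat_one (hσ : ∀ i j, M ((1 : Equiv.Perm I) i) ((1 : Equiv.Perm I) j) = M i j) (w : W) :
    hat cs (1 : Equiv.Perm I) hσ w = w := by
  obtain ⟨ω, rfl⟩ := cs.wordProd_surjective w
  induction ω with
  | nil => rw [wordProd_nil, map_one]
  | cons i ω ih => rw [wordProd_cons, map_mul, hat_simple, ih, Equiv.Perm.one_apply]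

/-- the action on all root groups -/
theorem LTau.root [Finite W] {β : MulAut Y} {τ : L ≃+* L} (S : LTau T X χ β τ) (i : I) {w : W} {g : Y}
    (hg : Rp cs R.nsys w g) : ∃ (τ' : Kf i ≃+* Kf i) (c : Kf i), c ≠ 0 ∧ (∀ a, (τ' a : L) = τ a) ∧
      ∀ a, β (g * x i a * g⁻¹) = g * x i (c * τ' a) * g⁻¹ := by
  obtain ⟨τ', c, hc, h1, h2⟩ := LTau.semi Λ S i
  have h3 : Rp cs R.nsys w (β g) := by
    have hσ : ∀ i j, M ((1 : Equiv.Perm I) i) ((1 : Equiv.Perm I) j) = M i j := fun _ _ => rfl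
    have h4 := S.diag.rp' (R := R) hσ hg
    exact (congrArg (fun v => Rp cs R.nsys v (β g)) (hat_one hσ w)).mp h4
  obtain ⟨t, ht⟩ : ∃ t, t = g⁻¹ * β g := ⟨_, rfl⟩
  have htT : t ∈ T := by rw [ht]; exact hg.unique h3
  have e1 : β g = g * t := by rw [ht]; group
  have C := Λ.coord i
  refine ⟨τ', χ i t * c, mul_ne_zero (C.chi_ne_zero htT) hc, h1, fun a => ?_⟩
  rw [map_mul, map_mul, map_inv, h2, e1, mul_assoc (χ i t), ← C.act t htT]
  group

end

end Cfsg.Agent.OddHalf.D4.TwLin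

end
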