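import Mathlib
import Cfsg.Agent.OddHalf.D4.Free.AutFacts
import Cfsg.Agent.OddHalf.D4.TwLin
import Cfsg.Agent.OddHalf.D4.Free.KTwo
import Cfsg.Agent.StdRank2.OutField
import Cfsg.Agent.OddHalf.D4.StarESix
import Cfsg.Agent.KFacts.TwESix.OutTwo
import Cfsg.Agent.KFacts.TwESix.Faith
import Cfsg.Agent.OddHalf.DblR.SheetTwE6

-- merged: Cfsg.Agent.OddHalf.D4.TwGood
section

/-!
# ODD, D4, (1B): filtrations by lines, one step at a time (helper917)

`LineA T A D l` : `l` is a line relative to `D`. `Good T A D` : the subgroup `D` has a filtration by lines.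
`Good.exists_flt` : the filtration `FltA`.
-/

set_option autoImplicit false

namespace Cfsg.Agent.OddHalf.D4.TwGood

open Cfsg Subgroup Cfsg.Agent.OddHalf.D4 Cfsg.Agent.OddHalf.D4.Free

variable {X : Type*} [Group X]

/-- a line relative to `D` -/
structure LineA (T : Sylow 2 X) (A : Subgroup (MulAut X)) (D l : Subgroup X) : Prop where
  sq : ∀ x ∈ l, x * x ∈ D
  pair : ∃ a ∈ l, ∃ b ∈ l, a ∉ D ∧ b ∉ D ∧ a⁻¹ * b ∉ D
  star : ∀ y ∈ A, FixZ T y → y * y = 1 → ∀ x ∈ l, x ∉ D → y x = x → ∀ x' ∈ l, y x' = x'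
  fix : ∀ x ∈ l, ∀ e ∈ A, FixZ T e → e x * x⁻¹ ∈ D

/-- `D` has a filtration by lines. -/
inductive Good (T : Sylow 2 X) (A : Subgroup (MulAut X)) : Subgroup X → Prop
  | bot : Good T A ⊥
  | step (D D' l : Subgroup X) (hD : Good T A D) (hle : D ≤ D') (gen : D' ≤ l ⊔ D) (line_le : l ≤ D')
      (line : LineA T A D l) : Good T A D'

variable {T : Sylow 2 X} {A : Subgroup (MulAut X)} {D : Subgroup X}

theorem Good.exists_seq (h : Good T A D) : ∃ (U : ℕ → Subgroup X) (L : ℕ → Set (Subgroup X)), U 0 = D ∧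
    (∃ n, U n = ⊥) ∧ (∀ j, U (j + 1) ≤ U j) ∧
    (∀ j, ∀ u ∈ U j, u ∈ closure ({x | ∃ l ∈ L j, x ∈ l} ∪ (U (j + 1) : Set X))) ∧
    (∀ j, ∀ l ∈ L j, l ≤ U j) ∧ (∀ j, ∀ l ∈ L j, LineA T A (U (j + 1)) l) := by
  induction h with
  | bot =>
    refine ⟨fun _ => ⊥, fun _ => ∅, rfl, ⟨0, rfl⟩, fun _ => le_rfl, ?_, ?_, ?_⟩
    · intro _ u hu
      exact subset_closure (Or.inr hu)
    all_goals intro _ l hl; exact absurd hl (Set.notMem_empty l)
  | step D D' l hD hle gen line_le line ih =>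
    obtain ⟨U, L, h0, ⟨m, hm⟩, h2, h4, h5, h6⟩ := ih
    refine ⟨fun j => Nat.casesOn j D' U, fun j => Nat.casesOn j {l} L, rfl, ⟨m + 1, hm⟩, ?_, ?_, ?_, ?_⟩
    · rintro (_ | j)
      · show U 0 ≤ D'
        rw [h0]; exact hle
      · exact h2 j
    · rintro (_ | j)
      · show ∀ u ∈ D', u ∈ closure ({x | ∃ l' ∈ ({l} : Set (Subgroup X)), x ∈ l'} ∪ (U 0 : Set X))
        intro u hu
        rw [h0]
        have h9 : l ⊔ D ≤ closure ({x | ∃ l' ∈ ({l} : Set (Subgroup X)), x ∈ l'} ∪ (D : Set X)) :=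
          sup_le (fun x hx => subset_closure (Or.inl ⟨l, rfl, hx⟩)) fun x hx => subset_closure (Or.inr hx)
        exact h9 (gen hu)
      · exact h4 j
    · rintro (_ | j)
      · rintro _ rfl
        exact line_le
      · exact h5 j
    · rintro (_ | j)
      · rintro _ rfl
        show LineA T A (U 0) _
        rw [h0]; exact line
      · exact h6 j

/-- **The filtration.** -/
theorem Good.exists_flt (h : Good T A (T : Subgroup X)) : ∃ (U : ℕ → Subgroup X) (L : ℕ → Set (Subgroup X)),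
    FltA T A U L := by
  obtain ⟨U, L, h0, h1, h2, h4, h5, h6⟩ := h.exists_seq
  exact ⟨U, L, h0, h1, h2, h4, h5, fun j l hl => (h6 j l hl).sq, fun j l hl => (h6 j l hl).pair,
    fun j l hl => (h6 j l hl).star, fun j l hl => (h6 j l hl).fix⟩

end Cfsg.Agent.OddHalf.D4.TwGood

end

-- merged: Cfsg.Agent.OddHalf.D4.TwFlt
section

/-!
# ODD, D4, (1B): the filtration of `U` for linear root group data (helper917)

`Ctx` : `A` is a 2-subgroup of `Aut Y` normalising `U`, whose elements centralising `Z(U)` have the form `conj u * β`,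
`β ∈ {1, β₀}`, `β₀` an involutory frame automorphism with trivial action on `k`. `Ctx.flt` : the filtration `FltA`.
-/

set_option autoImplicit false
set_option linter.unusedSectionVars false

namespace Cfsg.Agent.OddHalf.D4.TwFlt

open Subgroup CoxeterSystem Cfsg.Agent.ChevalleyStructure.CoxeterGeom Cfsg.Agent.Tits.Roots Cfsg.Agent.Tits.Core
  Cfsg.Agent.Tits.Exchange Cfsg.Agent.Nodes.Reps Cfsg.Agent.Nodes.BNOf Cfsg.Agent.Nodes.StabComb
  Cfsg.Agent.Nodes.Bruhat Cfsg.Agent.Nodes.OppDec Cfsg.Agent.Nodes.LeviDec Cfsg.Agent.Nodes.NormalForm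
  Cfsg.Agent.KFacts.RgdOpp Cfsg.Agent.KFacts.RgdAut Cfsg.Agent.KFacts.RgdDiag Cfsg.Agent.KFacts.RgdRigid
  Cfsg.Agent.KFacts.RgdField Cfsg.Agent.KFacts.RgdTau Cfsg.Agent.KFacts.RgdNodes Cfsg.Agent.OddHalf.D4.TwWt
  Cfsg.Agent.OddHalf.D4.TwLin Cfsg.Agent.OddHalf.D4.Free
open scoped commutatorElement

variable {I W Y : Type*} [Fintype I] [DecidableEq I] [Group W] [Group Y] {M : CoxeterMatrix I}
  {cs : CoxeterSystem M W} {A : I → I → ℤ} {h : IsCartan M A} {T : Subgroup Y} {n : I → Y}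
  {X : (I → ℤ) → Subgroup Y} {L : Type*} [Field L] {k : Subfield L} {Kf : I → Subfield L}
  {x : ∀ i, Kf i → Y} {χ : ∀ i, Y → Kf i} {wt : (I → ℤ) → ℕ} {ρ : I → ℤ}

/-! ### The subgroups `z(N)` -/

section Z

variable {i : I} (C : Coord T (X (sr i)) (x i) (χ i)) (g : Y)

/-- `g x_i(a) g⁻¹`, a homomorphism -/
def zhom : Multiplicative (Kf i) →* Y :=
  MonoidHom.mk' (fun a => g * x i (Multiplicative.toAdd a) * g⁻¹) (by
    intro a b
    rw [toAdd_mul, C.add]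
    group)

/-- `z(N)` -/
def zS (N : AddSubgroup (Kf i)) : Subgroup Y := (AddSubgroup.toSubgroup N).map (zhom C g)

theorem mem_zS {N : AddSubgroup (Kf i)} {y : Y} : y ∈ zS C g N ↔ ∃ a ∈ N, g * x i a * g⁻¹ = y := by
  constructor
  · rintro ⟨a, ha, rfl⟩
    exact ⟨Multiplicative.toAdd a, ha, rfl⟩
  · rintro ⟨a, ha, rfl⟩
    exact ⟨Multiplicative.ofAdd a, ha, rfl⟩

theorem zS_mono {N N' : AddSubgroup (Kf i)} (h : N ≤ N') : zS C g N ≤ zS C g N' := by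
  intro y hy
  obtain ⟨a, ha, rfl⟩ := (mem_zS C g).1 hy
  exact (mem_zS C g).2 ⟨a, h ha, rfl⟩

theorem zS_sup {N N' : AddSubgroup (Kf i)} : zS C g (N ⊔ N') ≤ zS C g N' ⊔ zS C g N := by
  intro y hy
  obtain ⟨a, ha, rfl⟩ := (mem_zS C g).1 hy
  obtain ⟨b, hb, c, hc, rfl⟩ := AddSubgroup.mem_sup.1 ha
  have e : g * x i (b + c) * g⁻¹ = (g * x i b * g⁻¹) * (g * x i c * g⁻¹) := by rw [C.add]; group
  rw [e]
  exact mul_mem (mem_sup_right ((mem_zS C g).2 ⟨b, hb, rfl⟩)) (mem_sup_left ((mem_zS C g).2 ⟨c, hc, rfl⟩))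

theorem zS_bot : zS C g ⊥ = ⊥ := by
  rw [eq_bot_iff]
  intro y hy
  obtain ⟨a, ha, rfl⟩ := (mem_zS C g).1 hy
  rw [AddSubgroup.mem_bot] at ha
  rw [ha, C.zero, mem_bot]
  group

include C

theorem z_inj {a b : Kf i} (h : g * x i a * g⁻¹ = g * x i b * g⁻¹) : a = b :=
  C.inj (mul_left_cancel (mul_right_cancel h))

theorem z_sub (a b : Kf i) : (g * x i a * g⁻¹) * (g * x i b * g⁻¹)⁻¹ = g * x i (a - b) * g⁻¹ := by
  have h1 : x i (a - b) * x i b = x i a := by rw [← C.add, sub_add_cancel]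
  rw [← h1]
  group

theorem z_sub' (a b : Kf i) : (g * x i a * g⁻¹)⁻¹ * (g * x i b * g⁻¹) = g * x i (b - a) * g⁻¹ := by
  have h1 : x i a * x i (b - a) = x i b := by rw [← C.add, add_sub_cancel]
  rw [← h1]
  group

end Z

/-- the `k`-line of `b` -/
def kl (k : Subfield L) {K : Subfield L} (b : K) : AddSubgroup K where
  carrier := {a | ∃ t : K, (t : L) ∈ k ∧ t * b = a}
  add_mem' := by
    rintro _ _ ⟨t, ht, rfl⟩ ⟨s, hs, rfl⟩
    exact ⟨t + s, k.add_mem ht hs, add_mul _ _ _⟩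
  zero_mem' := ⟨0, k.zero_mem, zero_mul _⟩
  neg_mem' := by
    rintro _ ⟨t, ht, rfl⟩
    exact ⟨-t, k.neg_mem ht, neg_mul _ _⟩

theorem mem_kl {K : Subfield L} {a b : K} : a ∈ kl k b ↔ ∃ t : K, (t : L) ∈ k ∧ t * b = a := Iff.rfl

/-- the root `r` with its coordinates -/
structure Root (R : RGD cs h 2 T n X) (r : I → ℤ) (i : I) (w : W) (g : Y) : Prop where
  rp : Rp cs R.nsys w g
  eq : rep cs h w (sr i) = r
  pos : r ∈ RGD.Pos cs h

section

variable {R : RGD cs h 2 T n X}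

theorem exists_root {r : I → ℤ} (hr : r ∈ RGD.Pos cs h) : ∃ i w g, Root R r i w g := by
  obtain ⟨w, i, e⟩ := id hr.1
  obtain ⟨g, hg⟩ := exists_rp cs R.nsys w
  exact ⟨i, w, g, hg, e.symm, hr⟩

variable (Λ : Lin R k Kf x χ wt ρ)

include Λ

theorem zS_top {r : I → ℤ} {i : I} {w : W} {g : Y} (Q : Root R r i w g) : zS (Λ.coord i) g ⊤ = X r := by
  ext y
  rw [mem_zS]
  have h1 := isRoot_sr cs h i
  constructor
  · rintro ⟨a, -, rfl⟩
    have h2 := R.conj_mem Q.rp h1 (((Λ.coord i).mem _).2 ⟨a, rfl⟩)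
    rwa [Q.eq] at h2
  · intro hy
    rw [← Q.eq, ← R.conj_rp Q.rp h1] at hy
    have e : g * (g⁻¹ * y * g) * g⁻¹ = y := by group
    rw [← e, conj_mem_cj] at hy
    obtain ⟨a, ha⟩ := ((Λ.coord i).mem _).1 hy
    exact ⟨a, AddSubgroup.mem_top _, by rw [ha]; group⟩

theorem z_mem {r : I → ℤ} {i : I} {w : W} {g : Y} (Q : Root R r i w g) (a : Kf i) : g * x i a * g⁻¹ ∈ X r := by
  rw [← zS_top Λ Q]
  exact (mem_zS _ _).2 ⟨a, AddSubgroup.mem_top _, rfl⟩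

/-- the action of a frame automorphism trivial on `k` on the coordinates -/
theorem exists_m [Finite W] {β : MulAut Y} {τ : L ≃+* L} (S : LTau T X χ β τ) (hτ : ∀ a ∈ k, τ a = a)
    {r : I → ℤ} {i : I} {w : W} {g : Y} (Q : Root R r i w g) :
    ∃ m : Kf i → Kf i, (∀ a, β (g * x i a * g⁻¹) = g * x i (m a) * g⁻¹) ∧ (∀ a b, m (a + b) = m a + m b) ∧
      ∀ t a : Kf i, (t : L) ∈ k → m (t * a) = t * m a := by
  obtain ⟨τ', c, hc, h1, h2⟩ := LTau.root Λ S i Q.rp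
  refine ⟨fun a => c * τ' a, h2, fun a b => by
    show c * τ' (a + b) = c * τ' a + c * τ' b
    rw [map_add, mul_add], fun t a ht => ?_⟩
  have h3 : τ' t = t := Subtype.ext (by rw [h1, hτ _ ht])
  show c * τ' (t * a) = t * (c * τ' a)
  rw [map_mul, h3]
  ring

end

section

variable {R : RGD cs h 2 T n X} {Ω : Set (I → ℤ)}

theorem X_norm (Ws : Wts cs h X wt) (hΩ : Up cs h wt Ω) {r : I → ℤ} (hr : r ∈ RGD.Pos cs h) (hrΩ : r ∉ Ω)
    (hmax : ∀ s ∈ RGD.Pos cs h, s ∉ Ω → wt s ≤ wt r) {u y : Y} (hu : u ∈ RGD.Sup X (RGD.Pos cs h))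
    (hy : y ∈ X r ⊔ RGD.Sup X Ω) : u * y * u⁻¹ * y⁻¹ ∈ RGD.Sup X Ω := by
  have h1 := hΩ.between (X := X) hr hrΩ hmax
  exact h1.1 (VV_comm Ws _ hu (sup_le (X_le_VV hr le_rfl) h1.2 hy))

variable (Λ : Lin R k Kf x χ wt ρ)

include Λ

theorem mem_of_z_mem [Finite W] (hΩ : Up cs h wt Ω) {r : I → ℤ} {i : I} {w : W} {g : Y} (Q : Root R r i w g)
    (hrΩ : r ∉ Ω) (hmax : ∀ s ∈ RGD.Pos cs h, s ∉ Ω → wt s ≤ wt r) {N : AddSubgroup (Kf i)} {a : Kf i}
    (ha : g * x i a * g⁻¹ ∈ zS (Λ.coord i) g N ⊔ RGD.Sup X Ω) : a ∈ N := by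
  have C := Λ.coord i
  have hU : ∀ y ∈ X r, y ∈ RGD.Sup X (RGD.Pos cs h) := fun y hy => RGD.le_Sup Q.pos hy
  have hn : zS C g N ≤ normalizer (RGD.Sup X Ω : Set Y) := by
    have hle : ∀ y ∈ zS C g N, ∀ d ∈ RGD.Sup X Ω, y * d * y⁻¹ ∈ RGD.Sup X Ω := by
      intro y hy d hd
      obtain ⟨a, -, rfl⟩ := (mem_zS _ _).1 hy
      have h2 := X_norm Λ.wts hΩ Q.pos hrΩ hmax (hU _ (z_mem Λ Q a)) (mem_sup_right hd : d ∈ X r ⊔ RGD.Sup X Ω)
      have h3 := mul_mem h2 hd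
      rwa [inv_mul_cancel_right] at h3
    intro y hy
    rw [mem_normalizer_iff]
    intro d
    refine ⟨hle y hy d, fun hd => ?_⟩
    have h2 := hle _ (inv_mem hy) _ hd
    have e : y⁻¹ * (y * d * y⁻¹) * y⁻¹⁻¹ = d := by group
    rwa [e] at h2
  have h1 : g * x i a * g⁻¹ ∈ ((zS C g N ⊔ RGD.Sup X Ω : Subgroup Y) : Set Y) := ha
  rw [coe_mul_of_left_le_normalizer_right _ _ hn] at h1
  obtain ⟨y, hy, d, hd, e⟩ := h1
  obtain ⟨a', ha', rfl⟩ := (mem_zS _ _).1 hy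
  have e2 : d = (g * x i a' * g⁻¹)⁻¹ * (g * x i a * g⁻¹) := by
    rw [← e]
    show d = (g * x i a' * g⁻¹)⁻¹ * ((g * x i a' * g⁻¹) * d)
    rw [inv_mul_cancel_left]
  have h2 : d ∈ X r := by
    rw [e2]
    exact mul_mem (inv_mem (z_mem Λ Q _)) (z_mem Λ Q _)
  have h3 : d ∈ X r ⊓ RGD.Sup X Ω := ⟨h2, hd⟩
  rw [inf_eq R Λ.wts hΩ Q.pos hrΩ, mem_bot] at h3
  rw [h3] at e2
  have e3 : g * x i a' * g⁻¹ = g * x i a * g⁻¹ := inv_mul_eq_one.1 e2.symm
  rw [← z_inj C g e3]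
  exact ha'

/-- the group acting -/
structure Ctx (k : Subfield L) (χ : ∀ i, Y → Kf i) (h : IsCartan M A) (T : Subgroup Y) (X : (I → ℤ) → Subgroup Y)
    (cs : CoxeterSystem M W) (T₀ : Sylow 2 Y) (B : Subgroup (MulAut Y)) (β₀ : MulAut Y) : Prop where
  syl : (T₀ : Subgroup Y) = RGD.Sup X (RGD.Pos cs h)
  lt : ∃ τ₀ : L ≃+* L, LTau T X χ β₀ τ₀ ∧ ∀ a ∈ k, τ₀ a = a
  sq : β₀ * β₀ = 1
  dec : ∀ e ∈ B, FixZ T₀ e → ∃ u ∈ RGD.Sup X (RGD.Pos cs h), e = MulAut.conj u ∨ e = MulAut.conj u * β₀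

variable {T₀ : Sylow 2 Y} {B : Subgroup (MulAut Y)} {β₀ : MulAut Y}

/-- **The line of one root.** -/
theorem lineA [Finite W] [CharP L 2] (Cx : Ctx k χ h T X cs T₀ B β₀) (hk : ∃ s ∈ k, s ≠ 0 ∧ s ≠ 1)
    (hΩ : Up cs h wt Ω) {r : I → ℤ} {i : I} {w : W} {g : Y} (Q : Root R r i w g)
    (hrΩ : r ∉ Ω) (hmax : ∀ s ∈ RGD.Pos cs h, s ∉ Ω → wt s ≤ wt r) {N : AddSubgroup (Kf i)}
    (hN : ∀ t : Kf i, (t : L) ∈ k → ∀ a ∈ N, t * a ∈ N) {m : Kf i → Kf i}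
    (hm : ∀ a, β₀ (g * x i a * g⁻¹) = g * x i (m a) * g⁻¹) (hmk : ∀ t a : Kf i, (t : L) ∈ k → m (t * a) = t * m a)
    {b : Kf i} (hb : b ∉ N) (hmb : m b - b ∈ N) :
    TwGood.LineA T₀ B (zS (Λ.coord i) g N ⊔ RGD.Sup X Ω) (zS (Λ.coord i) g (kl k b)) := by
  have C := Λ.coord i
  -- elements of the line outside `N`
  have hout : ∀ t : Kf i, (t : L) ∈ k → t ≠ 0 → t * b ∉ N := by
    intro t ht ht0 h1
    have h2 := hN t⁻¹ (by
      show ((t⁻¹ : Kf i) : L) ∈ k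
      rw [Subfield.coe_inv]
      exact k.inv_mem ht) _ h1
    rw [inv_mul_cancel_left₀ ht0] at h2
    exact hb h2
  have hadd : ∀ a : Kf i, a + a = 0 := fun a => CharTwo.add_self_eq_zero a
  -- the elements of `B` fixing `Z(U)`
  have hB : ∀ e ∈ B, FixZ T₀ e → ∃ u ∈ RGD.Sup X (RGD.Pos cs h), ∃ (β : MulAut Y) (m' : Kf i → Kf i),
      e = MulAut.conj u * β ∧ (∀ a, β (g * x i a * g⁻¹) = g * x i (m' a) * g⁻¹) ∧
      (∀ t a : Kf i, (t : L) ∈ k → m' (t * a) = t * m' a) ∧ m' b - b ∈ N := by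
    intro e he hf
    obtain ⟨u, hu, h1 | h1⟩ := Cx.dec e he hf
    · exact ⟨u, hu, 1, id, by rw [mul_one, h1], fun a => rfl, fun t a _ => rfl, by
        rw [id, sub_self]; exact N.zero_mem⟩
    · exact ⟨u, hu, β₀, m, h1, hm, hmk, hmb⟩
  -- commutators
  have hcom : ∀ u ∈ RGD.Sup X (RGD.Pos cs h), ∀ a : Kf i,
      u * (g * x i a * g⁻¹) * u⁻¹ * (g * x i a * g⁻¹)⁻¹ ∈ RGD.Sup X Ω := fun u hu a =>
    X_norm Λ.wts hΩ Q.pos hrΩ hmax hu (mem_sup_left (z_mem Λ Q a))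
  constructor
  · -- squares
    intro y hy
    obtain ⟨a, -, rfl⟩ := (mem_zS _ _).1 hy
    have e : (g * x i a * g⁻¹) * (g * x i a * g⁻¹) = g * x i (a + a) * g⁻¹ := by rw [C.add]; group
    rw [e, hadd, C.zero]
    have e2 : g * 1 * g⁻¹ = 1 := by group
    rw [e2]
    exact one_mem _
  · -- three cosets
    obtain ⟨s, hs, hs0, hs1⟩ := hk
    have hs' : s ∈ Kf i := Λ.le i hs
    refine ⟨g * x i b * g⁻¹, (mem_zS _ _).2 ⟨b, ⟨1, by rw [OneMemClass.coe_one]; exact k.one_mem, one_mul _⟩, rfl⟩,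
      g * x i (⟨s, hs'⟩ * b) * g⁻¹, (mem_zS _ _).2 ⟨_, ⟨⟨s, hs'⟩, hs, rfl⟩, rfl⟩, ?_, ?_, ?_⟩
    · exact fun h1 => hb (mem_of_z_mem Λ hΩ Q hrΩ hmax h1)
    · exact fun h1 => hout ⟨s, hs'⟩ hs (fun h2 => hs0 (congrArg Subtype.val h2))
        (mem_of_z_mem Λ hΩ Q hrΩ hmax h1)
    · intro h1
      rw [z_sub' C] at h1
      have h2 := mem_of_z_mem Λ hΩ Q hrΩ hmax h1
      have e : (⟨s, hs'⟩ : Kf i) * b - b = (⟨s, hs'⟩ - 1) * b := by ring
      rw [e] at h2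
      refine hout (⟨s, hs'⟩ - 1) ?_ ?_ h2
      · show s - ((1 : Kf i) : L) ∈ k
        rw [OneMemClass.coe_one]
        exact k.sub_mem hs k.one_mem
      · intro h3
        exact hs1 (congrArg Subtype.val (sub_eq_zero.1 h3))
  · -- star
    intro e he hf _ y hy hyD hey y' hy'
    obtain ⟨u, hu, β, m', rfl, h1, h2, h3⟩ := hB e he hf
    obtain ⟨_, ⟨t, ht, rfl⟩, rfl⟩ := (mem_zS _ _).1 hy
    obtain ⟨_, ⟨t', ht', rfl⟩, rfl⟩ := (mem_zS _ _).1 hy'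
    have h4 : u * (g * x i (m' (t * b)) * g⁻¹) * u⁻¹ = g * x i (t * b) * g⁻¹ := by
      have := hey
      rw [MulAut.mul_apply, h1, MulAut.conj_apply] at this
      exact this
    have h5 := hcom u hu (m' (t * b))
    rw [h4, z_sub C] at h5
    have h6 : g * x i (t * b - m' (t * b)) * g⁻¹ ∈ zS C g ⊥ ⊔ RGD.Sup X Ω := mem_sup_right h5
    have h7 := mem_of_z_mem Λ hΩ Q hrΩ hmax h6
    rw [AddSubgroup.mem_bot, sub_eq_zero] at h7
    have ht0 : t ≠ 0 := by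
      rintro rfl
      apply hyD
      rw [zero_mul]
      exact mem_sup_left ((mem_zS _ _).2 ⟨0, N.zero_mem, rfl⟩)
    have h8 : m' b = b := by
      rw [h2 _ _ ht] at h7
      exact (mul_left_cancel₀ ht0 h7).symm
    have hb0 : b ≠ 0 := by
      rintro rfl
      exact hb N.zero_mem
    have h9 : u * (g * x i (t * b) * g⁻¹) = g * x i (t * b) * g⁻¹ * u := by
      rw [← h7] at h4
      exact mul_inv_eq_iff_eq_mul.1 h4
    have hpos : rep cs h w (sr i) ∈ RGD.Pos cs h := by rw [Q.eq]; exact Q.pos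
    have h10 := Λ.star w i g Q.rp hpos (t * b) (mul_ne_zero ht0 hb0) u hu h9 (t' * t⁻¹) (by
      show ((t' * t⁻¹ : Kf i) : L) ∈ k
      rw [MulMemClass.coe_mul, Subfield.coe_inv]
      exact k.mul_mem ht' (k.inv_mem ht))
    have e3 : t' * t⁻¹ * (t * b) = t' * b := by field_simp
    rw [e3] at h10
    rw [MulAut.mul_apply, h1, MulAut.conj_apply, h2 _ _ ht', h8, h10, mul_inv_cancel_right]
  · -- fixed modulo `D`
    intro y hy e he hf
    obtain ⟨u, hu, β, m', rfl, h1, h2, h3⟩ := hB e he hf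
    obtain ⟨_, ⟨t, ht, rfl⟩, rfl⟩ := (mem_zS _ _).1 hy
    rw [MulAut.mul_apply, h1, MulAut.conj_apply]
    have h5 := hcom u hu (m' (t * b))
    have h6 : g * x i (m' (t * b) - t * b) * g⁻¹ ∈ zS C g N := by
      rw [h2 _ _ ht, ← mul_sub]
      exact (mem_zS _ _).2 ⟨_, hN t ht _ h3, rfl⟩
    rw [← z_sub C] at h6
    have h7 := mul_mem (mem_sup_right h5 : _ ∈ zS C g N ⊔ RGD.Sup X Ω) (mem_sup_left h6)
    have e4 : u * (g * x i (m' (t * b)) * g⁻¹) * u⁻¹ * (g * x i (m' (t * b)) * g⁻¹)⁻¹ *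
        ((g * x i (m' (t * b)) * g⁻¹) * (g * x i (t * b) * g⁻¹)⁻¹) =
        u * (g * x i (m' (t * b)) * g⁻¹) * u⁻¹ * (g * x i (t * b) * g⁻¹)⁻¹ := by
      rw [mul_assoc (u * (g * x i (m' (t * b)) * g⁻¹) * u⁻¹), inv_mul_cancel_left]
    rwa [e4] at h7

/-- **One root.** -/
theorem good_root [Finite W] [CharP L 2] [Finite L] (Cx : Ctx k χ h T X cs T₀ B β₀) (hk : ∃ s ∈ k, s ≠ 0 ∧ s ≠ 1)
    (hΩ : Up cs h wt Ω) {r : I → ℤ} (hr : r ∈ RGD.Pos cs h)
    (hrΩ : r ∉ Ω) (hmax : ∀ s ∈ RGD.Pos cs h, s ∉ Ω → wt s ≤ wt r)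
    (h0 : TwGood.Good T₀ B (RGD.Sup X Ω)) : TwGood.Good T₀ B (RGD.Sup X (Insert.insert r Ω)) := by
  obtain ⟨i, w, g, Q⟩ := exists_root (R := R) hr
  have C := Λ.coord i
  obtain ⟨τ₀, hτ, hτk⟩ := Cx.lt
  obtain ⟨m, hm, hma, hmk⟩ := exists_m Λ hτ hτk Q
  have hmm : ∀ a, m (m a) = a := by
    intro a
    apply z_inj C g
    rw [← hm, ← hm, ← MulAut.mul_apply, Cx.sq, MulAut.one_apply]
  have hadd : ∀ a : Kf i, a + a = 0 := fun a => CharTwo.add_self_eq_zero a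
  have key : ∀ j : ℕ, ∃ N : AddSubgroup (Kf i), (∀ t : Kf i, (t : L) ∈ k → ∀ a ∈ N, t * a ∈ N) ∧
      (∀ a ∈ N, m a ∈ N) ∧ TwGood.Good T₀ B (zS (Λ.coord i) g N ⊔ RGD.Sup X Ω) ∧ (N = ⊤ ∨ j ≤ Nat.card N) := by
    intro j
    induction j with
    | zero =>
      have hm0 : m 0 = 0 := by
        have := hma 0 0
        rw [add_zero, hadd] at this
        exact this
      refine ⟨⊥, fun t _ a ha => ?_, fun a ha => ?_, ?_, Or.inr (Nat.zero_le _)⟩
      · rw [AddSubgroup.mem_bot] at ha ⊢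
        rw [ha, mul_zero]
      · rw [AddSubgroup.mem_bot] at ha ⊢
        rw [ha, hm0]
      · rw [zS_bot, bot_sup_eq]
        exact h0
    | succ j ih =>
      obtain ⟨N, hN, hNm, hG, h1⟩ := ih
      by_cases hT : N = ⊤
      · exact ⟨N, hN, hNm, hG, Or.inl hT⟩
      obtain ⟨b, hb, hmb⟩ : ∃ b, b ∉ N ∧ m b - b ∈ N := by
        by_cases hall : ∀ v, m v - v ∈ N
        · obtain ⟨b, hb⟩ : ∃ b, b ∉ N := by
            by_contra hcon
            push Not at hcon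
            exact hT (top_le_iff.1 fun b _ => hcon b)
          exact ⟨b, hb, hall b⟩
        · push Not at hall
          obtain ⟨v, hv⟩ := hall
          refine ⟨m v - v, hv, ?_⟩
          have e : m (m v - v) - (m v - v) = 0 := by
            rw [CharTwo.sub_eq_add, CharTwo.sub_eq_add, hma, hmm, add_comm v (m v), hadd]
          rw [e]
          exact N.zero_mem
      have hbN : b ∈ N ⊔ kl k b := AddSubgroup.mem_sup_right
        (⟨1, by rw [OneMemClass.coe_one]; exact k.one_mem, one_mul _⟩ : b ∈ kl k b)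
      refine ⟨N ⊔ kl k b, fun t ht a ha => ?_, fun a ha => ?_, ?_, Or.inr ?_⟩
      · obtain ⟨y, hy, _, ⟨s, hs, rfl⟩, rfl⟩ := AddSubgroup.mem_sup.1 ha
        rw [mul_add]
        refine add_mem (AddSubgroup.mem_sup_left (hN t ht y hy)) (AddSubgroup.mem_sup_right ⟨t * s, ?_, ?_⟩)
        · rw [MulMemClass.coe_mul]; exact k.mul_mem ht hs
        · rw [mul_assoc]
      · obtain ⟨y, hy, _, ⟨s, hs, rfl⟩, rfl⟩ := AddSubgroup.mem_sup.1 ha
        rw [hma, hmk _ _ hs]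
        refine add_mem (AddSubgroup.mem_sup_left (hNm y hy)) ?_
        have e : s * m b = s * (m b - b) + s * b := by ring
        rw [e]
        exact add_mem (AddSubgroup.mem_sup_left (hN s hs _ hmb)) (AddSubgroup.mem_sup_right ⟨s, hs, rfl⟩)
      · refine TwGood.Good.step _ _ _ hG ?_ ?_ ?_ (lineA Λ Cx hk hΩ Q hrΩ hmax hN hm hmk hb hmb)
        · exact sup_le (le_sup_of_le_left (zS_mono _ _ le_sup_left)) le_sup_right
        · refine sup_le ((zS_sup _ _).trans (sup_le le_sup_left ?_)) ?_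
          · exact le_sup_of_le_right le_sup_left
          · exact le_sup_of_le_right le_sup_right
        · exact le_sup_of_le_left (zS_mono _ _ le_sup_right)
      · have h2 := h1.resolve_left hT
        have h3 : N < N ⊔ kl k b := lt_of_le_of_ne le_sup_left fun h4 => hb (by rw [h4]; exact hbN)
        have h4 : Nat.card N < Nat.card ↥(N ⊔ kl k b) := by
          by_contra h5
          push Not at h5
          exact h3.ne (AddSubgroup.eq_of_le_of_card_ge h3.le h5)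
        omega
  obtain ⟨N, -, -, hG, h1⟩ := key (Nat.card (Kf i) + 1)
  have hN : N = ⊤ := by
    rcases h1 with h1 | h1
    · exact h1
    · exfalso
      have := AddSubgroup.card_le_card_addGroup N
      omega
  rw [hN, zS_top Λ Q] at hG
  have e : RGD.Sup X (Insert.insert r Ω) = X r ⊔ RGD.Sup X Ω := by
    apply le_antisymm
    · refine RGD.Sup_le ?_
      rintro s (rfl | hs)
      · exact le_sup_left
      · exact le_sup_of_le_right (RGD.le_Sup hs)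
    · exact sup_le (RGD.le_Sup (Set.mem_insert _ _)) (RGD.Sup_mono (Set.subset_insert _ _))
  rw [e]
  exact hG

/-- **The filtration.** -/
theorem Ctx.flt [Finite W] [CharP L 2] [Finite L] (Cx : Ctx k χ h T X cs T₀ B β₀) (hk : ∃ s ∈ k, s ≠ 0 ∧ s ≠ 1) :
    ∃ U Ls, FltA T₀ B U Ls := by
  apply TwGood.Good.exists_flt
  rw [Cx.syl]
  refine Up.induction (wt := wt) (Q := fun Ω => TwGood.Good T₀ B (RGD.Sup X Ω)) ?_ ?_
  · have e : RGD.Sup X ∅ = ⊥ := by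
      rw [eq_bot_iff]
      exact RGD.Sup_le fun z hz => absurd hz (Set.notMem_empty z)
    rw [e]
    exact TwGood.Good.bot
  · intro Ω hΩ hQ r hr hrΩ hmax
    exact good_root Λ Cx hk hΩ hr hrΩ hmax hQ

end

end Cfsg.Agent.OddHalf.D4.TwFlt

end

-- merged: Cfsg.Agent.OddHalf.D4.TwAFacts
section

/-!
# ODD, D4, (1B): `AFacts` for linear root group data (helper917)

* `field_aut` : (k2) of `AFacts` for every finite group with trivial centre;
* `Lin.afacts` : `Lin`, `4 ≤ |k|`, `Gal(L/k)` has no element of order 4, (k5) ⟹ `AFacts U`;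
* `Lin.outA` : (k5)(c2) if all involutions of `Aut L` are trivial on `k`;
* `Lin.bfacts` : `BFacts K` for `K ≅ Y`.
-/

set_option autoImplicit false
set_option linter.unusedSectionVars false

namespace Cfsg.Agent.OddHalf.D4.TwAFacts

open Subgroup CoxeterSystem Cfsg.Agent.ChevalleyStructure.CoxeterGeom Cfsg.Agent.Tits.Roots Cfsg.Agent.Tits.Core
  Cfsg.Agent.Tits.Exchange Cfsg.Agent.Nodes.Reps Cfsg.Agent.Nodes.BNOf Cfsg.Agent.Nodes.StabComb
  Cfsg.Agent.Nodes.Bruhat Cfsg.Agent.Nodes.OppDec Cfsg.Agent.Nodes.LeviDec Cfsg.Agent.Nodes.NormalForm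
  Cfsg.Agent.KFacts.RgdOpp Cfsg.Agent.KFacts.RgdAut Cfsg.Agent.KFacts.RgdDiag Cfsg.Agent.KFacts.RgdRigid
  Cfsg.Agent.KFacts.RgdField Cfsg.Agent.KFacts.RgdTau Cfsg.Agent.KFacts.RgdNodes Cfsg.Agent.OddHalf.D4.TwWt
  Cfsg.Agent.OddHalf.D4.TwLin Cfsg.Agent.OddHalf.D4.TwFlt Cfsg.Agent.OddHalf.D4.Free
  Cfsg.Agent.OddHalf.D4.Basic
open scoped commutatorElement

/-! ### (k2) -/

section Field

variable {X : Type*} [Group X]

theorem conj_inj (hc : center X = ⊥) : Function.Injective (MulAut.conj : X →* MulAut X) := by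
  rw [injective_iff_map_eq_one]
  intro x hx
  have h1 : x ∈ center X := by
    rw [mem_center_iff]
    intro y
    have h2 : x * y * x⁻¹ = y := congrArg (fun f : MulAut X => f y) hx
    exact (mul_inv_eq_iff_eq_mul.1 h2).symm
  rwa [hc, mem_bot] at h1

theorem aut_conj (a : MulAut X) (x : X) : a * MulAut.conj x * a⁻¹ = MulAut.conj (a x) := by
  ext y
  simp only [MulAut.mul_apply, MulAut.conj_apply, map_mul, map_inv, MulAut.apply_inv_self]

theorem comm_iff (hc : center X = ⊥) (a : MulAut X) (x : X) :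
    MulAut.conj x * a = a * MulAut.conj x ↔ a x = x := by
  rw [← (conj_inj hc).eq_iff, ← aut_conj, mul_inv_eq_iff_eq_mul]
  exact eq_comm

variable [Finite X]

theorem good_conj (hc : center X = ⊥) (T : Sylow 2 X) {A : Subgroup (MulAut X)} (hA : GoodA T A) :
    Good (MulAut.conj : X →* MulAut X).range A ∧
      A ⊓ (MulAut.conj : X →* MulAut X).range = (T : Subgroup X).map MulAut.conj := by
  have hinf : A ⊓ (MulAut.conj : X →* MulAut X).range = (T : Subgroup X).map MulAut.conj := by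
    ext a
    constructor
    · rintro ⟨h1, ⟨x, rfl⟩⟩
      have h2 : x ∈ normalizer ((T : Subgroup X) : Set X) := by
        rw [mem_normalizer_iff]
        intro y
        constructor
        · exact fun hy => hA.norm _ h1 y hy
        · intro hy
          have h3 := hA.norm _ (inv_mem h1) _ hy
          rw [← map_inv, MulAut.conj_apply] at h3
          have e : x⁻¹ * (x * y * x⁻¹) * x⁻¹⁻¹ = y := by group
          rwa [e] at h3
      obtain ⟨m, hm⟩ := hA.two ⟨_, h1⟩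
      have h3 : x ^ 2 ^ m = 1 := by
        apply conj_inj hc
        rw [map_pow, map_one]
        exact congrArg Subtype.val hm
      exact ⟨x, mem_of_norm (M := ⊤) ⟨T.2, le_top, fun Q hQ hle _ => (T.3 hQ hle).le⟩ (mem_top x) h2 h3, rfl⟩
    · rintro ⟨t, ht, rfl⟩
      exact ⟨hA.inn t ht, ⟨t, rfl⟩⟩
  refine ⟨⟨hA.two, ?_, ?_⟩, hinf⟩
  · intro a _
    rw [mem_normalizer_iff]
    intro b
    constructor
    · rintro ⟨x, rfl⟩
      exact ⟨a x, (aut_conj a x).symm⟩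
    · rintro ⟨x, hx⟩
      refine ⟨a⁻¹ x, ?_⟩
      rw [← aut_conj, hx]
      group
  · rw [hinf]
    refine ⟨T.2.map _, ?_, ?_⟩
    · rintro _ ⟨t, _, rfl⟩
      exact ⟨t, rfl⟩
    · intro Q hQ hle hQK
      have h1 : Q.comap MulAut.conj = (T : Subgroup X) := by
        refine T.3 (hQ.comap_of_injective _ (conj_inj hc)) ?_
        intro t ht
        exact hle ⟨t, ht, rfl⟩
      intro q hq
      obtain ⟨x, rfl⟩ := hQK hq
      exact ⟨x, by rw [← h1]; exact hq, rfl⟩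

/-- **(k2) of `AFacts`** -/
theorem field_aut (hc : center X = ⊥) (T : Sylow 2 X) {A : Subgroup (MulAut X)} (hA : GoodA T A) {e : MulAut X}
    (he : e ∈ A) (g : X) (hg : ∀ z, InZ T z → e (g * z * g⁻¹) = g * z * g⁻¹) : FixZ T e := by
  obtain ⟨h1, hinf⟩ := good_conj hc T hA
  have : Finite (MulAut X) := inferInstance
  -- `Z(T)`
  have hz : ∀ z, z ∈ zc (MulAut.conj : X →* MulAut X).range A ↔ ∃ x, InZ T x ∧ MulAut.conj x = z := by
    intro z
    rw [mem_zc, ← mem_inf, hinf]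
    constructor
    · rintro ⟨⟨x, hx, rfl⟩, h2⟩
      refine ⟨x, ⟨hx, fun t ht => ?_⟩, rfl⟩
      apply conj_inj hc
      rw [map_mul, map_mul]
      exact h2 _ ⟨t, ht, rfl⟩
    · rintro ⟨x, ⟨hx, h2⟩, rfl⟩
      refine ⟨⟨x, hx, rfl⟩, ?_⟩
      rintro _ ⟨t, ht, rfl⟩
      rw [← map_mul, ← map_mul, h2 t ht]
  have hcjK : CommConj.cj (MulAut.conj g) (MulAut.conj : X →* MulAut X).range =
      (MulAut.conj : X →* MulAut X).range :=
    CommConj.cj_eq_of_mem_normalizer (le_normalizer ⟨g, rfl⟩)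
  have h2 := h1.cj (MulAut.conj g)
  rw [hcjK] at h2
  have h3 : e ∈ cz (MulAut.conj : X →* MulAut X).range (CommConj.cj (MulAut.conj g) A) := by
    rw [mem_cz]
    intro z hz'
    rw [← hcjK, zc_cj, CommConj.mem_cj] at hz'
    obtain ⟨x, hx, ex⟩ := (hz _).1 hz'
    have e1 : z = MulAut.conj (g * x * g⁻¹) := by
      rw [map_mul, map_mul, map_inv, ex]
      group
    rw [e1]
    exact (comm_iff hc e _).2 (hg x hx)
  have h4 := field_free h2 h1 he h3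
  intro z hz'
  rw [mem_cz] at h4
  exact (comm_iff hc e z).1 (h4 _ ((hz _).2 ⟨z, hz', rfl⟩))

end Field

/-! ### Frame automorphisms -/

variable {I W Y : Type*} [Fintype I] [DecidableEq I] [Group W] [Group Y] {M : CoxeterMatrix I}
  {cs : CoxeterSystem M W} {A : I → I → ℤ} {h : IsCartan M A} {T : Subgroup Y} {n : I → Y}
  {X : (I → ℤ) → Subgroup Y} {L : Type*} [Field L] {k : Subfield L} {Kf : I → Subfield L}
  {x : ∀ i, Kf i → Y} {χ : ∀ i, Y → Kf i} {wt : (I → ℤ) → ℕ} {ρ : I → ℤ}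
  {R : RGD cs h 2 T n X}

theorem eq_one_of_pow [CharP L 2] {K : Subfield L} {c : K} {m : ℕ} (h : c ^ 2 ^ m = 1) : c = 1 := by
  have : Fact (Nat.Prime 2) := ⟨Nat.prime_two⟩
  have : ExpChar K 2 := ExpChar.prime Nat.prime_two
  have h5 : (c - 1) ^ 2 ^ m = 0 := by rw [sub_pow_expChar_pow, h, one_pow, sub_self]
  exact sub_eq_zero.1 ((pow_eq_zero_iff (pow_ne_zero _ two_ne_zero)).1 h5)

section

variable (Λ : Lin R k Kf x χ wt ρ)

include Λ

/-- a 2-element acting with a trivial field automorphism of `K_i` fixes the root group pointwise -/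
theorem root_fix [Finite W] [CharP L 2] {β : MulAut Y} {τ : L ≃+* L} (S : LTau T X χ β τ) {m : ℕ}
    (hm : β ^ 2 ^ m = 1) {i : I} {w : W} {g : Y} (hg : Rp cs R.nsys w g) (hτ : ∀ a ∈ Kf i, τ a = a) (a : Kf i) :
    β (g * x i a * g⁻¹) = g * x i a * g⁻¹ := by
  obtain ⟨τ', c, hc, h1, h2⟩ := LTau.root Λ S i hg
  have h3 : ∀ a, τ' a = a := fun a => Subtype.ext (by rw [h1, hτ _ a.2])
  have h4 : ∀ j a, (β ^ j) (g * x i a * g⁻¹) = g * x i (c ^ j * a) * g⁻¹ := by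
    intro j
    induction j with
    | zero => intro a; rw [pow_zero, pow_zero, one_mul]; rfl
    | succ j ih =>
      intro a
      rw [pow_succ, MulAut.mul_apply, h2, ih, h3, pow_succ, mul_assoc (c ^ j)]
  have h5 := h4 (2 ^ m) 1
  rw [hm, MulAut.one_apply, mul_one] at h5
  have h6 : c = 1 := eq_one_of_pow (m := m) (z_inj (Λ.coord i) g h5).symm
  rw [h2, h6, h3, one_mul]

theorem LTau.eq_one [Finite W] [CharP L 2] {β : MulAut Y} (S : LTau T X χ β (1 : L ≃+* L)) {m : ℕ}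
    (hm : β ^ 2 ^ m = 1) : β = 1 := by
  apply Diag.eq_one R Λ.gen S.diag
  intro i y hy
  obtain ⟨a, rfl⟩ := ((Λ.coord i).mem y).1 hy
  have h1 := root_fix Λ S hm (rp_of_mem (cs := cs) (hN := R.nsys) (one_mem T)) (fun _ _ => rfl) a
  rw [one_mul, inv_one, mul_one] at h1
  exact h1

theorem fix_rho_iff [Finite W] [CharP L 2] {β : MulAut Y} {τ : L ≃+* L} (S : LTau T X χ β τ) {m : ℕ}
    (hm : β ^ 2 ^ m = 1) : (∀ z ∈ X ρ, β z = z) ↔ ∀ a ∈ k, τ a = a := by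
  obtain ⟨w, i, e, hk⟩ := Λ.rho
  obtain ⟨g, hg⟩ := exists_rp cs R.nsys w
  have Q : Root R ρ i w g := ⟨hg, e, Λ.rho_pos⟩
  constructor
  · intro h1 a ha
    obtain ⟨τ', c, hc, h2, h3⟩ := LTau.root Λ S i hg
    have h4 : ∀ a, c * τ' a = a := fun a => z_inj (Λ.coord i) g (by rw [← h3, h1 _ (z_mem Λ Q a)])
    have h5 := h4 1
    rw [map_one, mul_one] at h5
    have h6 := h4 ⟨a, by rw [hk]; exact ha⟩
    rw [h5, one_mul] at h6
    rw [← h2 ⟨a, by rw [hk]; exact ha⟩, h6]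
  · intro h1 z hz
    rw [← zS_top Λ Q] at hz
    obtain ⟨a, -, rfl⟩ := (mem_zS _ _).1 hz
    exact root_fix Λ S hm hg (fun a ha => h1 a (by rwa [hk] at ha)) a

end

/-! ### The group `A` -/

/-- the frame projection of `B` with its field automorphism -/
structure Proj (k : Subfield L) (χ : ∀ i, Y → Kf i) (h : IsCartan M A) (T : Subgroup Y) (X : (I → ℤ) → Subgroup Y)
    (cs : CoxeterSystem M W) (T₀ : Sylow 2 Y) (B : Subgroup (MulAut Y)) (q : ↥B →* MulAut Y)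
    (φ : ↥B →* (L ≃+* L)) : Prop where
  lt : ∀ a, LTau T X χ (q a) (φ a)
  two : ∀ a, ∃ m : ℕ, (q a) ^ 2 ^ m = 1 ∧ (φ a) ^ 2 ^ m = 1
  eq : ∀ a : ↥B, ∃ u ∈ RGD.Sup X (RGD.Pos cs h), q a = MulAut.conj u * a.1
  one : ∀ a : ↥B, q a = 1 → ∃ u ∈ RGD.Sup X (RGD.Pos cs h), a.1 = MulAut.conj u
  fix : ∀ a : ↥B, FixZ T₀ a.1 ↔ ∀ c ∈ k, φ a c = c
  inj : ∀ a : ↥B, φ a = 1 → q a = 1

section

variable (Λ : Lin R k Kf x χ wt ρ)

include Λ

theorem inZ_iff {T₀ : Sylow 2 Y} (hT : (T₀ : Subgroup Y) = RGD.Sup X (RGD.Pos cs h)) (z : Y) :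
    InZ T₀ z ↔ z ∈ X ρ := by
  have hmem : ∀ y, y ∈ T₀ ↔ y ∈ RGD.Sup X (RGD.Pos cs h) := fun y => by rw [← hT]; rfl
  constructor
  · rintro ⟨h1, h2⟩
    exact (Λ.cen z ((hmem z).1 h1)).1 fun u hu => h2 u ((hmem u).2 hu)
  · intro h1
    have h2 : z ∈ RGD.Sup X (RGD.Pos cs h) := RGD.le_Sup Λ.rho_pos h1
    exact ⟨(hmem z).2 h2, fun u hu => (Λ.cen z h2).2 h1 u ((hmem u).1 hu)⟩

theorem exists_proj [Finite W] [CharP L 2] {T₀ : Sylow 2 Y}
    (hT : (T₀ : Subgroup Y) = RGD.Sup X (RGD.Pos cs h)) {B : Subgroup (MulAut Y)} (hB : GoodA T₀ B) :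
    ∃ q φ, Proj k χ h T X cs T₀ B q φ := by
  have hG := GG_eq_top (T := T) Λ.gen
  have hmem : ∀ y, y ∈ T₀ ↔ y ∈ RGD.Sup X (RGD.Pos cs h) := fun y => by rw [← hT]; rfl
  have hfix : ∀ α ∈ B, Fix α (RGD.Sup X (RGD.Pos cs h)) := by
    intro α hα y
    constructor
    · intro h1
      have h2 := hB.norm _ (inv_mem hα) _ ((hmem _).2 h1)
      rw [MulAut.inv_apply_self] at h2
      exact (hmem _).1 h2
    · intro h1
      exact (hmem _).1 (hB.norm _ hα _ ((hmem _).2 h1))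
  obtain ⟨q, hq⟩ := exists_toFrame R hG B hfix
  have h1 : ∀ a : ↥B, ∃ τ : L ≃+* L, LTau T X χ (q a) τ := fun a => by
    obtain ⟨σ, D⟩ := exists_diag R hG (hq a).1.1 (hq a).1.2
    exact exists_ltau Λ D
  choose φ hφ using h1
  have huniq : ∀ a τ, LTau T X χ (q a) τ → φ a = τ := fun a τ h2 => LTau.unique Λ (hφ a) h2
  let φ' : ↥B →* (L ≃+* L) := MonoidHom.mk' φ fun a b => huniq _ _ (by
    rw [map_mul]
    exact (hφ a).mul (hφ b))
  have hφ' : ∀ a, LTau T X χ (q a) (φ' a) := hφ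
  have htwo : ∀ a, ∃ m : ℕ, (q a) ^ 2 ^ m = 1 ∧ (φ' a) ^ 2 ^ m = 1 := by
    intro a
    obtain ⟨m, hm⟩ := hB.two a
    exact ⟨m, by rw [← map_pow, hm, map_one], by rw [← map_pow, hm, map_one]⟩
  refine ⟨q, φ', hφ', htwo, fun a => (hq a).2.1, fun a ha => ((hq a).2.2.2.1).1 ha, fun a => ?_, fun a ha => ?_⟩
  · obtain ⟨m, hm, -⟩ := htwo a
    rw [← fix_rho_iff Λ (hφ' a) hm]
    obtain ⟨u, hu, e⟩ := (hq a).2.1
    have h3 : ∀ z ∈ X ρ, (a.1 z = z ↔ q a z = z) := by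
      intro z hz
      have h4 := (inZ_iff Λ hT z).2 hz
      have h5 : u * z * u⁻¹ = z := by rw [h4.2 u ((hmem u).2 hu), mul_inv_cancel_right]
      rw [e, MulAut.mul_apply, MulAut.conj_apply]
      constructor
      · intro h6; rw [h6, h5]
      · intro h6
        have h7 : a.1 z = u⁻¹ * (u * a.1 z * u⁻¹) * u := by group
        rw [h7, h6]
        have h8 : u⁻¹ * z * u = u⁻¹ * (u * z * u⁻¹) * u := by rw [h5]
        rw [h8]; group
    constructor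
    · exact fun h4 z hz => (h3 z hz).1 (h4 z ((inZ_iff Λ hT z).2 hz))
    · exact fun h4 z hz => (h3 z ((inZ_iff Λ hT z).1 hz)).2 (h4 z ((inZ_iff Λ hT z).1 hz))
  · obtain ⟨m, hm, -⟩ := htwo a
    have := hφ' a
    rw [ha] at this
    exact LTau.eq_one Λ this hm

omit Λ in
/-- involutions of `Aut L` -/
theorem cyc_aux [Finite L] [CharP L 2] {σ τ : L ≃+* L} (hσ : σ * σ = 1) (hτ : τ * τ = 1) :
    σ = 1 ∨ τ = 1 ∨ σ = τ := by
  by_cases h1 : σ = 1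
  · exact Or.inl h1
  by_cases h2 : τ = 1
  · exact Or.inr (Or.inl h2)
  exact Or.inr (Or.inr (StdRank2.OutField.unique_invol hσ hτ h1 h2))

theorem exists_ctx [Finite W] [Finite L] [CharP L 2] {T₀ : Sylow 2 Y}
    (hT : (T₀ : Subgroup Y) = RGD.Sup X (RGD.Pos cs h)) {B : Subgroup (MulAut Y)} {q : ↥B →* MulAut Y}
    {φ : ↥B →* (L ≃+* L)} (P : Proj k χ h T X cs T₀ B q φ)
    (hgal : ∀ τ : L ≃+* L, (∀ a ∈ k, τ a = a) → (∃ m : ℕ, τ ^ 2 ^ m = 1) → τ * τ = 1) :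
    ∃ β₀, Ctx k χ h T X cs T₀ B β₀ := by
  have hsq : ∀ a : ↥B, FixZ T₀ a.1 → φ a * φ a = 1 := fun a ha => by
    obtain ⟨m, -, hm⟩ := P.two a
    exact hgal _ ((P.fix a).1 ha) ⟨m, hm⟩
  by_cases hex : ∃ a : ↥B, FixZ T₀ a.1 ∧ q a ≠ 1
  · obtain ⟨a, ha, ha1⟩ := hex
    refine ⟨q a, hT, ⟨φ a, P.lt a, (P.fix a).1 ha⟩, ?_, fun e he hf => ?_⟩
    · rw [← map_mul]
      apply P.inj
      rw [map_mul]
      exact hsq a ha
    · obtain ⟨u, hu, eu⟩ := P.eq ⟨e, he⟩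
      have e1 : e = MulAut.conj u⁻¹ * q ⟨e, he⟩ := by
        rw [eu, map_inv, inv_mul_cancel_left]
      refine ⟨u⁻¹, inv_mem hu, ?_⟩
      rcases cyc_aux (hsq ⟨e, he⟩ hf) (hsq a ha) with h1 | h1 | h1
      · left
        rw [e1, P.inj _ h1, mul_one]
      · exact absurd (P.inj _ h1) ha1
      · right
        have h2 : q (⟨e, he⟩ * a⁻¹) = 1 := P.inj _ (by rw [map_mul, map_inv, h1, mul_inv_cancel])
        rw [map_mul, map_inv, mul_inv_eq_one] at h2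
        rw [e1, h2]
  · push Not at hex
    refine ⟨1, hT, ⟨1, LTau.one, fun _ _ => rfl⟩, one_mul 1, fun e he hf => ?_⟩
    obtain ⟨u, hu, eu⟩ := P.one ⟨e, he⟩ (hex ⟨e, he⟩ hf)
    exact ⟨u, hu, Or.inl eu⟩

/-- **`AFacts`.** -/
theorem afacts [Finite W] [Finite L] [CharP L 2] [Finite Y] (hc : center Y = ⊥)
    (hk : ∃ s ∈ k, s ≠ 0 ∧ s ≠ 1) {T₀ : Sylow 2 Y} (hT : (T₀ : Subgroup Y) = RGD.Sup X (RGD.Pos cs h))
    (hgal : ∀ τ : L ≃+* L, (∀ a ∈ k, τ a = a) → (∃ m : ℕ, τ ^ 2 ^ m = 1) → τ * τ = 1)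
    (hout : OutA T₀) : AFacts T₀ := by
  refine ⟨fun z hz => ?_, fun B hB a ha b hb haa hbb => ?_, fun B hB e he g hg => field_aut hc T₀ hB he g hg,
    fun B hB => ?_, fun B hB a ha b hb haz hbz => ?_, hout⟩
  · -- (k0)
    rw [inZ_iff Λ hT] at hz
    obtain ⟨i, w, g, Q⟩ := exists_root (R := R) Λ.rho_pos
    rw [← zS_top Λ Q] at hz
    obtain ⟨a, -, rfl⟩ := (mem_zS _ _).1 hz
    have e : (g * x i a * g⁻¹) * (g * x i a * g⁻¹) = g * x i (a + a) * g⁻¹ := by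
      rw [(Λ.coord i).add]; group
    rw [e, CharTwo.add_self_eq_zero, (Λ.coord i).zero]
    group
  · -- (k1)
    obtain ⟨q, φ, P⟩ := exists_proj Λ hT hB
    obtain ⟨w, i, -, hki⟩ := Λ.rho
    have hres : ∀ c : ↥B, ∃ τ' : Kf i ≃+* Kf i, ∀ a, (τ' a : L) = φ c a := fun c => by
      obtain ⟨τ', _, _, h1, _⟩ := LTau.semi Λ (P.lt c) i
      exact ⟨τ', h1⟩
    obtain ⟨σ, hσ⟩ := hres ⟨a, ha⟩
    obtain ⟨τ, hτ⟩ := hres ⟨b, hb⟩
    have hsq : ∀ (c : ↥B) (τ' : Kf i ≃+* Kf i), (∀ a, (τ' a : L) = φ c a) → FixZ T₀ (c.1 * c.1) → τ' * τ' = 1 := by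
      intro c τ' h1 h2
      have h3 := (P.fix (c * c)).1 h2
      ext v
      have h4 := h3 v (by rw [← hki]; exact v.2)
      rw [map_mul] at h4
      show ((τ' (τ' v) : Kf i) : L) = v
      rw [h1, h1]
      exact h4
    have hfixk : ∀ (c : ↥B) (τ' : Kf i ≃+* Kf i), (∀ a, (τ' a : L) = φ c a) → τ' = 1 → FixZ T₀ c.1 := by
      intro c τ' h1 h2
      rw [P.fix]
      intro v hv
      have h3 := h1 ⟨v, by rw [hki]; exact hv⟩
      rw [h2] at h3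
      exact h3.symm
    have h1 := hsq _ σ hσ haa
    have h2 := hsq _ τ hτ hbb
    by_cases h3 : σ = 1
    · exact Or.inl (hfixk _ σ hσ h3)
    by_cases h4 : τ = 1
    · exact Or.inr (Or.inl (hfixk _ τ hτ h4))
    refine Or.inr (Or.inr ?_)
    have h5 := StdRank2.OutField.unique_invol h1 h2 h3 h4
    have h6 : FixZ T₀ ((⟨a, ha⟩⁻¹ * ⟨b, hb⟩ : ↥B) : MulAut Y) := by
      rw [P.fix]
      intro v hv
      have h7 : φ ⟨a, ha⟩ v = φ ⟨b, hb⟩ v := by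
        rw [← hσ ⟨v, by rw [hki]; exact hv⟩, ← hτ ⟨v, by rw [hki]; exact hv⟩, h5]
      rw [map_mul, map_inv, RingAut.mul_apply, ← h7]
      exact (φ ⟨a, ha⟩).symm_apply_apply v
    exact h6
  · -- (k3)
    obtain ⟨q, φ, P⟩ := exists_proj Λ hT hB
    obtain ⟨β₀, Cx⟩ := exists_ctx Λ hT P hgal
    exact Ctx.flt Λ Cx hk
  · -- (k4)
    obtain ⟨q, φ, P⟩ := exists_proj Λ hT hB
    have hsq : ∀ c : ↥B, FixZ T₀ c.1 → φ c * φ c = 1 := fun c hc => by
      obtain ⟨m, -, hm⟩ := P.two c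
      exact hgal _ ((P.fix c).1 hc) ⟨m, hm⟩
    have hinn : ∀ c : ↥B, φ c = 1 → c.1 ∈ (MulAut.conj : Y →* MulAut Y).range := by
      intro c hc
      obtain ⟨u, -, e⟩ := P.one c (P.inj c hc)
      exact ⟨u, e.symm⟩
    rcases cyc_aux (hsq ⟨a, ha⟩ haz) (hsq ⟨b, hb⟩ hbz) with h1 | h1 | h1
    · exact Or.inl (hinn _ h1)
    · exact Or.inr (Or.inl (hinn _ h1))
    · exact Or.inr (Or.inr (hinn (⟨a, ha⟩⁻¹ * ⟨b, hb⟩) (by rw [map_mul, map_inv, h1, inv_mul_cancel])))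

/-- **(k5)(c2)** -/
theorem outA [Finite W] [Finite L] [CharP L 2] {T₀ : Sylow 2 Y}
    (hT : (T₀ : Subgroup Y) = RGD.Sup X (RGD.Pos cs h))
    (hinv : ∀ τ : L ≃+* L, τ * τ = 1 → ∀ a ∈ k, τ a = a) : OutA T₀ := by
  refine Or.inr (Or.inl fun B hB e he hee => ?_)
  obtain ⟨q, φ, P⟩ := exists_proj Λ hT hB
  refine (P.fix ⟨e, he⟩).2 (hinv _ ?_)
  rw [← map_mul]
  have h1 : (⟨e, he⟩ * ⟨e, he⟩ : ↥B) = 1 := Subtype.ext hee
  rw [h1, map_one]

/-- **`BFacts K` for `K ≅ Y`.** -/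
theorem bfacts [Finite W] [Finite L] [CharP L 2] [Finite Y] (hc : center Y = ⊥)
    (hk : ∃ s ∈ k, s ≠ 0 ∧ s ≠ 1)
    (hgal : ∀ τ : L ≃+* L, (∀ a ∈ k, τ a = a) → (∃ m : ℕ, τ ^ 2 ^ m = 1) → τ * τ = 1)
    (hinv : ∀ τ : L ≃+* L, τ * τ = 1 → ∀ a ∈ k, τ a = a) {G : Type*} [Group G] [Finite G] {K : Subgroup G}
    (e : Y ≃* ↥K) : BFacts K := by
  have hG := GG_eq_top (T := T) Λ.gen
  have : Fact (Nat.Prime 2) := ⟨Nat.prime_two⟩
  obtain ⟨P, hP⟩ := R.isPGroup_Upos.exists_le_sylow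
  have hT := Nodes.NormalForm.eq_U_of_isPGroup R P.isPGroup' hP (by rw [hG]; exact le_top)
  exact (afacts Λ hc hk hT hgal (outA Λ hT hinv)).bfacts e

end

end Cfsg.Agent.OddHalf.D4.TwAFacts

end

-- merged: Cfsg.Agent.OddHalf.D4.TwQuad
section

/-!
# ODD, D4, (1B): the field facts for `L/k` quadratic (helper917)

`hgal`, `hinv` : the two field hypotheses of `TwAFacts.bfacts` for `|L| = |k|²`, characteristic two.
-/

set_option autoImplicit false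

namespace Cfsg.Agent.OddHalf.D4.TwQuad

variable {L : Type*} [Field L] [Finite L] {k : Subfield L}

theorem finrank_eq (hc : Nat.card L = Nat.card k ^ 2) : Module.finrank k L = 2 := by
  have h1 : Nat.card L = Nat.card k ^ Module.finrank k L := Module.natCard_eq_pow_finrank
  rw [hc] at h1
  have h2 : 1 < Nat.card k := Finite.one_lt_card
  exact (Nat.pow_right_injective h2 h1).symm

theorem hgal (hc : Nat.card L = Nat.card k ^ 2) (τ : L ≃+* L) (hτ : ∀ a ∈ k, τ a = a) : τ * τ = 1 := by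
  let σ : L ≃ₐ[k] L := AlgEquiv.ofRingEquiv (f := τ) (fun a => hτ _ a.2)
  have h1 : Nat.card (L ≃ₐ[k] L) = 2 := by
    rw [IsGalois.card_aut_eq_finrank, finrank_eq hc]
  have h2 : σ ^ 2 = 1 := by
    rw [← h1]
    exact pow_card_eq_one'
  ext a
  exact congrArg (fun f : L ≃ₐ[k] L => f a) (pow_two σ ▸ h2)

theorem hinv [CharP L 2] (hc : Nat.card L = Nat.card k ^ 2) (τ : L ≃+* L) (hτ : τ * τ = 1) :
    ∀ a ∈ k, τ a = a := by
  by_cases h0 : τ = 1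
  · rw [h0]
    exact fun a _ => rfl
  have h1 : Nat.card (L ≃ₐ[k] L) = 2 := by
    rw [IsGalois.card_aut_eq_finrank, finrank_eq hc]
  obtain ⟨σ, hσ⟩ : ∃ σ : L ≃ₐ[k] L, σ ≠ 1 := by
    by_contra hcon
    push Not at hcon
    have h2 : Nat.card (L ≃ₐ[k] L) ≤ 1 := by
      have : Subsingleton (L ≃ₐ[k] L) := ⟨fun a b => by rw [hcon a, hcon b]⟩
      exact Finite.card_le_one_iff_subsingleton.2 this
    omega
  have h2 : σ.toRingEquiv * σ.toRingEquiv = 1 := hgal hc _ fun a ha => σ.commutes ⟨a, ha⟩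
  have h3 : σ.toRingEquiv ≠ 1 := by
    intro h4
    apply hσ
    ext a
    exact congrArg (fun f : L ≃+* L => f a) h4
  rw [StdRank2.OutField.unique_invol hτ h2 h0 h3]
  exact fun a ha => σ.commutes ⟨a, ha⟩

end Cfsg.Agent.OddHalf.D4.TwQuad

end

-- merged: Cfsg.Agent.OddHalf.D4.LinESix
section

/-!
# ODD, D4, (1B): `BFacts` for `²E₆(q)`, `q = 2^a ≥ 4` (helper917)

* `lin` : the root group datum of `²E₆(q)`, `q` even, is linear (`TwLin.Lin`), `k = F_q`, `ρ` the highest root;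
* **`bfacts`** : `BFacts K` for `K ≅ ²E₆(2^a)`, `a ≥ 2`.
-/

set_option autoImplicit false
set_option linter.unusedSectionVars false

namespace Cfsg.Agent.OddHalf.D4.LinESix

open Subgroup CoxeterSystem Cfsg.Agent.ChevalleyStructure.CoxeterGeom Cfsg.Agent.Tits.Core
  Cfsg.Agent.Tits.Exchange Cfsg.Agent.Nodes.Reps Cfsg.Agent.Nodes.BNOf Cfsg.Agent.Nodes.StabComb
  Cfsg.Agent.Nodes.Bruhat Cfsg.Agent.Nodes.OppDec Cfsg.Agent.Nodes.RGDTwGen Cfsg.Agent.Nodes.RGDChev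
  Cfsg.Agent.Nodes.RGDFold Cfsg.Agent.Nodes.RGDFoldSL
open Cfsg.Agent.KFacts.RgdOpp Cfsg.Agent.KFacts.RgdAut Cfsg.Agent.KFacts.RgdDiag Cfsg.Agent.KFacts.RgdRigid
  Cfsg.Agent.KFacts.RgdField Cfsg.Agent.KFacts.RgdTau Cfsg.Agent.KFacts.RgdNodes
open Cfsg.Agent.Tits.Roots hiding ht
open Cfsg.Lie Cfsg.Agent.ChevalleyStructure
open Cfsg.Agent.ChevalleyStructure.SL2Hom (up lo)
open Cfsg.Agent.KFacts.TwESix.NodeCoord Cfsg.Agent.KFacts.TwESix.Out Cfsg.Agent.KFacts.TwESix.OutTwo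
  Cfsg.Agent.KFacts.TwESix.Comb
open Cfsg.Agent.Nodes.RGDTwE6 Cfsg.Agent.Nodes.RGDTwNode.E6
open Cfsg.Agent.Nodes.RGDTwCoordE6 (O dl)
open Cfsg.Agent.OddHalf.D4.TwLin Cfsg.Agent.OddHalf.D4.TwWt

universe u

variable {K : Type u} [Field K] {q : ℕ} {φ : K →+* K}

/-! ### Coordinates -/

theorem cl_sr : ∀ i : Fin 4, Cfsg.Agent.Nodes.RGDTwCoord.cl chevE6 J O (sr i) = rep i :: rest i := by
  decide +kernel

theorem dl_one : ∀ i : Fin 4, ∀ s ∈ rep i :: rest i, dl s = 1 := by decide +kernel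

theorem yv_congr {xx yy : ℕ → K → GL chevE6.Idx K} : ∀ {o : List ℕ}, (∀ s ∈ o, ∀ t, xx s t = yy s t) → ∀ t,
    yv xx φ o t = yv yy φ o t
  | [], _, _ => rfl
  | s :: o, h, t => by
    show xx s t * yv xx φ o (φ t) = yy s t * yv yy φ o (φ t)
    rw [h s List.mem_cons_self, yv_congr (fun s' hs' => h s' (List.mem_cons_of_mem _ hs'))]

variable [Fintype K] (hφ : ∀ x, φ x = x ^ q) (hqq : ∀ t : K, (t ^ q) ^ q = t)

theorem ok_sr (i : Fin 4) (a : KF φ i) : Cfsg.Agent.Nodes.RGDTwCoord.Ok chevE6 J O φ (sr i) (a : K) := by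
  unfold Cfsg.Agent.Nodes.RGDTwCoord.Ok
  rw [cl_sr]
  exact mem_Fx.1 a.2

theorem PhiE_eq {W : Type*} [Group W] (cs : CoxeterSystem CoxeterMatrix.F₄ W) (i : Fin 4) (a : KF φ i) :
    PhiE hφ hqq i (up a) = Cfsg.Agent.Nodes.RGDTwComE6.x φ q (sr i) (a : K) := by
  apply Subtype.ext
  rw [Cfsg.Agent.Nodes.RGDTwComE6.coe_x hφ hqq (isRoot_sr cs isCartan i) (ok_sr i a)]
  refine (coe_Phi_up (foldGrp hφ hqq) (nodeOK i) (hf i) a).trans ?_
  show _ = yv (Cfsg.Agent.Nodes.RGDTwCoord.xs hp dl) φ (Cfsg.Agent.Nodes.RGDTwCoord.cl chevE6 J O (sr i)) (a : K)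
  rw [cl_sr]
  apply yv_congr
  intro s hs t
  unfold Cfsg.Agent.Nodes.RGDTwCoord.xs
  rw [dl_one i s hs, Int.cast_one, one_mul]

theorem F1_le (i : Fin 4) : Fx φ 1 ≤ KF φ i := by
  have hi : i = 0 ∨ i = 1 ∨ i = 2 ∨ i = 3 := by fin_cases i <;> simp
  rcases hi with rfl | rfl | rfl | rfl
  · exact le_rfl
  · exact le_rfl
  · exact F1_le_F2
  · exact F1_le_F2

/-- **`²E₆(q)` is linear.** -/
theorem lin {W : Type*} [Group W] (cs : CoxeterSystem CoxeterMatrix.F₄ W) [Finite W] [CharP K 2]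
    (hq : IsPrimePow q) (hK : Fintype.card K = q ^ 2) :
    Lin (rgd cs hφ hqq 2) (Fx φ 1) (KF φ) (fun i a => PhiE hφ hqq i (up a)) (chE hφ hqq)
      (fun z => (LineRgd.ht z).toNat) rho := by
  have : Fact (Nat.Prime 2) := ⟨Nat.prime_two⟩
  have hq1 := hq.one_lt
  have R := rgd cs hφ hqq 2
  have D := Cfsg.Agent.KFacts.TwESix.Dat.dat cs hφ hqq hK hq1
  have hN := Cfsg.Agent.OddHalf.DblR.SheetTwE6.noCent cs hφ hqq hq hK
  have hG1 := G1_top cs hφ hqq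
  have hpos : rho ∈ RGD.Pos cs isCartan := ⟨rho_root cs, fun i => by fin_cases i <;> simp [rho]⟩
  refine ⟨hG1, coordE hφ hqq, F1_le, ⟨2, F2_eq_top hφ hqq⟩, ?_, ?_, ?_, ?_, ?_, hpos, ?_⟩
  · -- one
    intro β σ D
    apply perm_F4 σ (D.matrix R)
    intro h3
    have h4 := Diag.card_eq D 0
    rw [h3] at h4
    exact card_ne hφ hqq hK hq1 h4
  · -- tau
    intro β D
    obtain ⟨τ, S⟩ := exists_ftau hφ hqq cs 2 D
    exact ⟨τ, S.char⟩
  · -- wts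
    exact Wts.of_ht (StarESix.intComm hφ hqq) fun a ha u hu v hv => StarESix.abel hφ hqq ha.1 u hu v hv
  · -- star
    intro w i g hg hpos a ha u hu hux t ht
    have ha' : (a : K) ≠ 0 := fun h => ha (Subtype.ext h)
    rw [PhiE_eq hφ hqq cs] at hux
    rw [PhiE_eq hφ hqq cs]
    have ht' : φ (t : K) = t := by
      rw [mem_Fx, Function.iterate_one] at ht
      exact ht
    exact StarESix.star hφ hqq 2 hg (isRoot_sr cs isCartan i) hpos (ok_sr i a) ha' hu hux ht'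
  · -- rho
    obtain ⟨w, hw⟩ := exists_rep_long cs (rho_root cs) rho_long
    exact ⟨w, 0, hw, rfl⟩
  · -- cen
    intro z hz
    constructor
    · intro h1
      refine Cfsg.Agent.KFacts.TwESix.Faith.cent_Q D hN (by rw [GG_eq_top hG1]; exact mem_top z) fun v hv => ?_
      have hle : Cfsg.Agent.KFacts.TwESix.QRho.QQ cs (X φ q) ≤ RGD.Sup (X φ q) (RGD.Pos cs isCartan) :=
        Cfsg.Agent.KFacts.TwESix.QRho.QQ_le fun b hb h2 => RGD.le_Sup ⟨hb, by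
          rcases hb.pos_or_neg with h3 | h3
          · exact h3
          · have h4 : b 0 ≤ 0 := h3 0
            omega⟩
      exact (h1 v (hle hv)).symm
    · intro h1 u hu
      have hle : RGD.Sup (X φ q) (RGD.Pos cs isCartan) ≤ Cfsg.Agent.KFacts.TwESix.QRho.PP cs (X φ q) :=
        RGD.Sup_le fun b hb => Cfsg.Agent.KFacts.TwESix.QRho.le_PP hb.1 (hb.2 0)
      exact (Cfsg.Agent.KFacts.TwESix.QRho.cen_PP D h1 (hle hu)).symm

/-- **`BFacts` for `²E₆(2^a)`, `a ≥ 2`.** -/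
theorem bfacts {G : Type*} [Group G] [Finite G] {H : Subgroup G} {F : Type u} [Field F] [Fintype F] {a : ℕ}
    (ha : 2 ≤ a) (hF : Fintype.card F = 4 ^ a) (e : ↥(twistedE6 F (2 ^ a)) ≃* ↥H) : Free.BFacts H := by
  have hF' : Fintype.card F = (2 ^ a) ^ 2 := by rw [hF, ← pow_mul, mul_comm, pow_mul]; norm_num
  have hq : IsPrimePow (2 ^ a) := (Nat.prime_two.isPrimePow).pow (by omega)
  have : Fact (Nat.Prime 2) := ⟨Nat.prime_two⟩
  have hc : CharP F 2 := charP_of_card_eq_prime_pow (f := 2 * a) (by rw [hF, pow_mul]; norm_num)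
  obtain ⟨φ, hφ, hqq⟩ := Cfsg.Agent.ChevalleyStructure.TwE6Basic.exists_frob hq hF'
  have hW : Finite CoxeterMatrix.F₄.Group := finiteW CoxeterMatrix.F₄.toCoxeterSystem
  have hcard : Nat.card (Fx φ 1) = 2 ^ a := by
    have h1 := card_of_coord (coordE hφ hqq 0)
    rw [Cfsg.Agent.KFacts.TwESix.Tor.card_long CoxeterMatrix.F₄.toCoxeterSystem hφ hqq hF' hq.one_lt
      (isRoot_sr _ isCartan 0) (by decide +kernel)] at h1
    exact h1.symm
  have hcard' : Nat.card F = Nat.card (Fx φ 1) ^ 2 := by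
    rw [hcard, Nat.card_eq_fintype_card, hF']
  have hk : ∃ s ∈ Fx φ 1, s ≠ 0 ∧ s ≠ 1 := by
    by_contra hcon
    push Not at hcon
    have h1 : Nat.card (Fx φ 1) ≤ 2 := by
      have h2 : Set.univ ⊆ ({0, 1} : Set (Fx φ 1)) := by
        rintro ⟨s, hs⟩ -
        by_cases h0 : s = 0
        · exact Or.inl (Subtype.ext h0)
        · exact Or.inr (Subtype.ext (hcon s hs h0))
      have h3 := Set.ncard_le_ncard h2
      rw [Set.ncard_univ] at h3
      have h4 := Set.ncard_insert_le (0 : Fx φ 1) {1}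
      rw [Set.ncard_singleton] at h4
      exact h3.trans h4
    have h4 : 2 ^ 2 ≤ 2 ^ a := Nat.pow_le_pow_right (by norm_num) ha
    omega
  exact TwAFacts.bfacts (lin hφ hqq CoxeterMatrix.F₄.toCoxeterSystem hq hF')
    (Cfsg.Agent.OddHalf.DblR.SheetTwE6.center_eq_bot hq hF') hk
    (fun τ h1 _ => TwQuad.hgal hcard' τ h1) (TwQuad.hinv hcard') e

end Cfsg.Agent.OddHalf.D4.LinESix

end
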