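import Cfsg.Agent.OddHalf.D4.SpFourDefs
import Mathlib

-- merged: Cfsg.Agent.OddHalf.D4.SpFourCent
section

/-!
# ODD D4, `K = Sp₄(q)`: centralisers in `K`

`KCent B K`: `KBase B K` and the centralisers in `K` of the elements of `Z = Z_s Z_l`. `KCent.swap`: the graph symmetry.
`RootS B Q g`: `Q^g ≤ Q Z_s`.
-/

set_option autoImplicit false

namespace Cfsg.Agent.OddHalf.D4.SpFourCent

open Cfsg.Agent.StdSpFour Subgroup
open Cfsg.Agent.StdSpFour.Swap Cfsg.Agent.OddHalf.D4.SpFourDefs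

variable {F G : Type*} [Field F] [Group G]

/-- Elements of `U`. -/
def IsU (B : Base F G) (g : G) : Prop := ∃ u s m r, g = B.xa u * B.xb s * B.zs m * B.zl r

/-- Centralisers in `K` of the elements of `Z`. -/
structure KCent (B : Base F G) (K : Subgroup G) : Prop extends KBase B K where
  cent_s : ∀ g ∈ K, ∀ m, m ≠ 0 → Commute g (B.zs m) →
    (∃ v, IsU B v ∧ ∃ α : Fˣ, g = v * B.h α α⁻¹) ∨
      ∃ v, IsU B v ∧ ∃ α : Fˣ, ∃ c, g = v * B.h α α⁻¹ * B.na * B.xa c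
  cent_l : ∀ g ∈ K, ∀ m, m ≠ 0 → Commute g (B.zl m) →
    (∃ v, IsU B v ∧ ∃ α : Fˣ, g = v * B.h α (α ^ 2)⁻¹) ∨
      ∃ v, IsU B v ∧ ∃ α : Fˣ, ∃ c, g = v * B.h α (α ^ 2)⁻¹ * B.nb * B.xb c
  cent_m : ∀ g ∈ K, ∀ m n, m ≠ 0 → n ≠ 0 → Commute g (B.zs m * B.zl n) → IsU B g
  na_xa : ∀ c, IsU B (B.na * B.xa c * B.na⁻¹) → c = 0
  nb_xb : ∀ c, IsU B (B.nb * B.xb c * B.nb⁻¹) → c = 0

/-- `g Q g⁻¹ ≤ Q Z_s`, `g Q g⁻¹ ∩ Z_s = 1`, `g Q g⁻¹ ≠ Q`. -/
structure RootS (B : Base F G) (Q : Subgroup G) (g : G) : Prop where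
  le : ∀ t ∈ Q, ∃ t' ∈ Q, ∃ w, g * t * g⁻¹ = t' * B.zs w
  inj : ∀ t ∈ Q, ∀ w, g * t * g⁻¹ = B.zs w → t = 1
  ne : ∃ t ∈ Q, g * t * g⁻¹ ∉ Q

section swap

variable [CharP F 2] [Finite F] {B : Base F G}

theorem isU_swap {g : G} : IsU (swap B) g ↔ IsU B g := by
  constructor
  · rintro ⟨u, s, m, r, h⟩
    exact ⟨rt s, u, rt s * u + rt r, rt s ^ 2 * u + m, h.trans (norm_eq B u (rt s) m (rt r))⟩
  · rintro ⟨u, s, m, r, h⟩
    refine ⟨s, u ^ 2, u ^ 2 * s + r, (u * s + m) ^ 2, ?_⟩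
    show g = B.xb s * B.xa (rt (u ^ 2)) * B.zl (u ^ 2 * s + r) * B.zs (rt ((u * s + m) ^ 2))
    rw [rt_sq, rt_sq, norm_eq]
    have e1 : u * s + (u * s + m) = m := by
      rw [← add_assoc, CharTwo.add_self_eq_zero, zero_add]
    have e2 : u ^ 2 * s + (u ^ 2 * s + r) = r := by
      rw [← add_assoc, CharTwo.add_self_eq_zero, zero_add]
    rw [e1, e2]
    exact h

theorem QC.swap {Q : Subgroup G} (h : QC B Q) : QC (swap B) Q where
  t_mem := h.t_mem
  sq := h.sq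
  xa := h.xb
  xb := fun t ht u => h.xa t ht _
  zs := h.zl
  zl := fun t ht u => h.zs t ht _
  h := fun t ht α β => h.h t ht _ _
  na := h.nb
  nb := h.na
  disj := by
    intro t ht u s m r e
    obtain ⟨u', s', m', r', e'⟩ := isU_swap.1 (⟨u, s, m, r, rfl⟩ :
      IsU (Swap.swap B) ((Swap.swap B).xa u * (Swap.swap B).xb s * (Swap.swap B).zs m * (Swap.swap B).zl r))
    exact h.disj t ht u' s' m' r' (e'.symm.trans e)

theorem QB.swap {Q : Subgroup G} (h : QB B Q) : QB (swap B) Q where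
  toQC := QC.swap h.toQC
  cent1 := by
    intro g h1 h2 h3 h4
    obtain ⟨t, ht, s, m, r, e⟩ := h.cent2 g h1 (fun u => by
      have := h2 (u ^ 2)
      simp only [Swap.swap, rt_sq] at this
      exact this) (fun u => by
      have := h4 (u ^ 2)
      simp only [Swap.swap, rt_sq] at this
      exact this) h3
    refine ⟨t, ht, s ^ 2, r, m ^ 2, ?_⟩
    show g = t * (B.xa (rt (s ^ 2)) * B.zl r * B.zs (rt (m ^ 2)))
    rw [rt_sq, rt_sq, e, mul_assoc (B.xa s), (B.zs_zl m r).eq, ← mul_assoc (B.xa s)]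
  cent2 := by
    intro g h1 h2 h3 h4
    obtain ⟨t, ht, s, m, r, e⟩ := h.cent1 g h1 h2 (fun u => by
      have := h4 (u ^ 2)
      simp only [Swap.swap, rt_sq] at this
      exact this) h3
    refine ⟨t, ht, s, r, m ^ 2, ?_⟩
    show g = t * (B.xb s * B.zl r * B.zs (rt (m ^ 2)))
    rw [rt_sq, e, mul_assoc (B.xb s), (B.zs_zl m r).eq, ← mul_assoc (B.xb s)]
  centZ := by
    intro g h1 h2 h3
    obtain ⟨t, ht, u, s, m, r, e⟩ := h.centZ g h1 (fun u => by
      have := h3 (u ^ 2)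
      simp only [Swap.swap, rt_sq] at this
      exact this) h2
    obtain ⟨u', s', m', r', e'⟩ := isU_swap.2 (⟨u, s, m, r, rfl⟩ : IsU B _)
    exact ⟨t, ht, u', s', m', r', by rw [← e']; exact e⟩
  ti := h.ti

theorem range_xb : Set.range (swap B).xb = Set.range B.xa := by
  ext x
  constructor
  · rintro ⟨u, rfl⟩; exact ⟨rt u, rfl⟩
  · rintro ⟨u, rfl⟩
    refine ⟨u ^ 2, ?_⟩
    show B.xa (rt (u ^ 2)) = _
    rw [rt_sq]

theorem KBase.swap {K : Subgroup G} (h : KBase B K) : KBase (swap B) K where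
  xa_mem := h.xb_mem
  xb_mem := fun u => h.xa_mem _
  zs_mem := h.zl_mem
  zl_mem := fun u => h.zs_mem _
  h_mem := fun α β => h.h_mem _ _
  na_mem := h.nb_mem
  nb_mem := h.na_mem
  na_sq := h.nb_sq
  nb_sq := h.na_sq
  na_eq := h.nb_eq
  nb_eq := by
    show B.na = B.xa (rt 1) * (B.na * B.xa (rt 1) * B.na⁻¹) * B.xa (rt 1)
    rw [rt_one]
    exact h.na_eq
  tor_a := by
    intro α
    have h1 := h.tor_b (rtU α⁻¹)
    rw [sq_rtU, inv_inv] at h1
    exact h1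
  tor_b := by
    intro α
    have h1 := h.tor_a α⁻¹
    rw [inv_inv] at h1
    show B.h (rtU (α ^ 2)⁻¹) α ∈ _
    rw [map_inv, rtU_sq, range_xb]
    exact h1
  gen := by
    refine h.gen.trans (closure_mono ?_)
    rw [range_xb]
    rintro x (hx | hx)
    · left
      rcases hx with rfl | hx
      · right; rfl
      · left; exact hx
    · right
      rcases hx with hx | hx
      · right; exact hx
      · left; exact hx
  bruhat_a := by
    intro D hD hxa hxb hh hn g hg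
    have hh' : ∀ α β, B.h α β ∈ D := by
      intro α β
      have h1 := hh β (α ^ 2)
      change B.h (rtU (α ^ 2)) β ∈ D at h1
      rwa [rtU_sq] at h1
    have hx' : ∀ u, B.xa u ∈ D := by
      intro u
      have h1 := hxb (u ^ 2)
      change B.xa (rt (u ^ 2)) ∈ D at h1
      rwa [rt_sq] at h1
    rcases h.bruhat_b D hD hx' hxa hh' hn g hg with ⟨u, s, m, r, α, β, e⟩ | ⟨u, s, m, r, α, β, k, e⟩
    · left
      obtain ⟨u', s', m', r', e'⟩ := isU_swap.2 (⟨u, s, m, r, rfl⟩ : IsU B _)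
      refine ⟨u', s', m', r', β, α ^ 2, ?_⟩
      rw [← e']
      show g = _ * B.h (rtU (α ^ 2)) β
      rw [rtU_sq]; exact e
    · right
      obtain ⟨u', s', m', r', e'⟩ := isU_swap.2 (⟨u, s, m, r, rfl⟩ : IsU B _)
      refine ⟨u', s', m', r', β, α ^ 2, k, ?_⟩
      rw [← e']
      show g = _ * B.h (rtU (α ^ 2)) β * B.nb * B.xb k
      rw [rtU_sq]; exact e
  bruhat_b := by
    intro D hD hxa hxb hh hn g hg
    have hh' : ∀ α β, B.h α β ∈ D := by
      intro α β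
      have h1 := hh β (α ^ 2)
      change B.h (rtU (α ^ 2)) β ∈ D at h1
      rwa [rtU_sq] at h1
    have hx' : ∀ u, B.xa u ∈ D := by
      intro u
      have h1 := hxb (u ^ 2)
      change B.xa (rt (u ^ 2)) ∈ D at h1
      rwa [rt_sq] at h1
    rcases h.bruhat_a D hD hx' hxa hh' hn g hg with ⟨u, s, m, r, α, β, e⟩ | ⟨u, s, m, r, α, β, k, e⟩
    · left
      obtain ⟨u', s', m', r', e'⟩ := isU_swap.2 (⟨u, s, m, r, rfl⟩ : IsU B _)
      refine ⟨u', s', m', r', β, α ^ 2, ?_⟩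
      rw [← e']
      show g = _ * B.h (rtU (α ^ 2)) β
      rw [rtU_sq]; exact e
    · right
      obtain ⟨u', s', m', r', e'⟩ := isU_swap.2 (⟨u, s, m, r, rfl⟩ : IsU B _)
      refine ⟨u', s', m', r', β, α ^ 2, k ^ 2, ?_⟩
      rw [← e']
      show g = _ * B.h (rtU (α ^ 2)) β * B.na * B.xa (rt (k ^ 2))
      rw [rtU_sq, rt_sq]; exact e
  syl := by
    intro P hP h2
    obtain ⟨k, hk, hkP⟩ := h.syl P hP h2
    refine ⟨k, hk, fun x hx => ?_⟩
    obtain ⟨u, s, m, r, e⟩ := hkP x hx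
    exact isU_swap.2 (⟨u, s, m, r, e⟩ : IsU B _)
  center := h.center

theorem KCent.swap {K : Subgroup G} (h : KCent B K) : KCent (swap B) K where
  toKBase := KBase.swap h.toKBase
  cent_s := by
    intro g hg m hm hc
    rcases h.cent_l g hg m hm hc with ⟨v, hv, α, e⟩ | ⟨v, hv, α, c, e⟩
    · refine Or.inl ⟨v, isU_swap.2 hv, (α ^ 2)⁻¹, ?_⟩
      show g = v * B.h (rtU ((α ^ 2)⁻¹)⁻¹) (α ^ 2)⁻¹
      rw [inv_inv, rtU_sq]; exact e
    · refine Or.inr ⟨v, isU_swap.2 hv, (α ^ 2)⁻¹, c, ?_⟩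
      show g = v * B.h (rtU ((α ^ 2)⁻¹)⁻¹) (α ^ 2)⁻¹ * B.nb * B.xb c
      rw [inv_inv, rtU_sq]; exact e
  cent_l := by
    intro g hg m hm hc
    rcases h.cent_s g hg (rt m) (fun h0 => hm (rt_eq_zero h0)) hc with ⟨v, hv, α, e⟩ | ⟨v, hv, α, c, e⟩
    · refine Or.inl ⟨v, isU_swap.2 hv, α⁻¹, ?_⟩
      show g = v * B.h (rtU (α⁻¹ ^ 2)⁻¹) α⁻¹
      rw [inv_pow, inv_inv, rtU_sq]; exact e
    · refine Or.inr ⟨v, isU_swap.2 hv, α⁻¹, c ^ 2, ?_⟩
      show g = v * B.h (rtU (α⁻¹ ^ 2)⁻¹) α⁻¹ * B.na * B.xa (rt (c ^ 2))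
      rw [inv_pow, inv_inv, rtU_sq, rt_sq]; exact e
  cent_m := by
    intro g hg m n hm hn hc
    apply isU_swap.2
    apply h.cent_m g hg (rt n) m (fun h0 => hn (rt_eq_zero h0)) hm
    rw [(B.zs_zl _ _).eq]
    exact hc
  na_xa := fun c hc => h.nb_xb c (isU_swap.1 hc)
  nb_xb := fun c hc => rt_eq_zero (h.na_xa (rt c) (isU_swap.1 hc))

theorem KAut.swap {K : Subgroup G} (h : KAut B K) : KAut (swap B) K := by
  intro g hg h1 h2
  obtain ⟨u, s, m, r, e⟩ := h g hg (fun u => by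
    have := h2 (u ^ 2)
    simp only [Swap.swap, rt_sq] at this
    exact this) h1
  obtain ⟨u', s', m', r', e'⟩ := isU_swap.2 (⟨u, s, m, r, rfl⟩ : IsU B _)
  exact ⟨u', s', m', r', by rw [← e']; exact e⟩

end swap

end Cfsg.Agent.OddHalf.D4.SpFourCent

end

-- merged: Cfsg.Agent.OddHalf.D4.SpFourU
section

/-!
# ODD D4, `K = Sp₄(q)`: calculations in `U` and in the parabolic subgroups
-/

set_option autoImplicit false
set_option linter.unusedSectionVars false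

namespace Cfsg.Agent.OddHalf.D4.SpFourU

open Cfsg.Agent.StdSpFour Subgroup
open Cfsg.Agent.StdSpFour.Swap Cfsg.Agent.OddHalf.D4.SpFourDefs Cfsg.Agent.OddHalf.D4.SpFourCent

variable {F G : Type*} [Field F] [CharP F 2] [Group G]

/-- normal form -/
def nf (B : Base F G) (u s m r : F) : G := B.xa u * B.xb s * B.zs m * B.zl r

variable {B : Base F G}

theorem xb_xa (u s : F) : B.xb u * B.xa s = B.xa s * B.xb u * (B.zs (s * u) * B.zl (s ^ 2 * u)) :=
  Swap.xb_xa B u s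

theorem nf_mul (u s m r u' s' m' r' : F) :
    nf B u s m r * nf B u' s' m' r' = nf B (u + u') (s + s') (m + m' + u' * s) (r + r' + u' ^ 2 * s) := by
  unfold nf
  rw [B.xa_add, B.xb_add, B.zs_add, B.zs_add, B.zl_add, B.zl_add]
  have h1 := xb_xa (B := B) s u'
  have c1 := (B.zs_zl m' r).eq
  have c2 := (B.zs_zl m' (u' ^ 2 * s)).eq
  have c3 := (B.zs_zl m' r').eq
  have d1 := (B.xb_zs s' (u' * s)).eq
  have d2 := (B.xb_zl s' (u' ^ 2 * s)).eq
  have d3 := (B.xa_zs u' m).eq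
  have d4 := (B.xa_zl u' r).eq
  have d5 := (B.xb_zs s' m).eq
  have d6 := (B.xb_zl s' r).eq
  have e1 := (B.zs_zl (u' * s) r).eq
  have e2 := (Comm.comm_of_add B.zl_add r (u' ^ 2 * s)).eq
  have e3 := (Comm.comm_of_add B.zl_add (u' ^ 2 * s) r').eq
  have e4 := (Comm.comm_of_add B.zs_add (u' * s) m).eq
  have e5 := (Comm.comm_of_add B.zs_add (u' * s) m').eq
  have e6 := (B.zs_zl m (u' ^ 2 * s)).eq
  calc B.xa u * B.xb s * B.zs m * B.zl r * (B.xa u' * B.xb s' * B.zs m' * B.zl r')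
      = B.xa u * B.xb s * B.zs m * (B.zl r * B.xa u') * B.xb s' * B.zs m' * B.zl r' := by group
    _ = B.xa u * B.xb s * (B.zs m * B.xa u') * (B.zl r * B.xb s') * B.zs m' * B.zl r' := by rw [← d4]; group
    _ = B.xa u * (B.xb s * B.xa u') * (B.zs m * B.xb s') * (B.zl r * B.zs m') * B.zl r' := by
        rw [← d3, ← d6]; group
    _ = B.xa u * B.xa u' * B.xb s * B.zs (u' * s) * (B.zl (u' ^ 2 * s) * B.xb s') * B.zs m * B.zs m' *
          (B.zl r * B.zl r') := by rw [h1, ← d5, ← c1]; group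
    _ = B.xa u * B.xa u' * B.xb s * (B.zs (u' * s) * B.xb s') * (B.zl (u' ^ 2 * s) * B.zs m) * B.zs m' *
          (B.zl r * B.zl r') := by rw [← d2]; group
    _ = B.xa u * B.xa u' * (B.xb s * B.xb s') * (B.zs (u' * s) * B.zs m) * (B.zl (u' ^ 2 * s) * B.zs m') *
          (B.zl r * B.zl r') := by rw [← d1, ← e6]; group
    _ = B.xa u * B.xa u' * (B.xb s * B.xb s') * (B.zs m * (B.zs (u' * s) * B.zs m')) *
          (B.zl (u' ^ 2 * s) * (B.zl r * B.zl r')) := by rw [e4, ← c2]; group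
    _ = _ := by
        rw [e5, ← mul_assoc (B.zl (u' ^ 2 * s)), ← e2]
        rw [mul_assoc (B.zl r), e3]
        group

theorem nf_zero : nf B 0 0 0 0 = 1 := by
  unfold nf
  rw [B.xa_zero, B.xb_zero, B.zs_zero, B.zl_zero]; group

theorem xa_eq (u : F) : B.xa u = nf B u 0 0 0 := by
  unfold nf; rw [B.xb_zero, B.zs_zero, B.zl_zero]; group
theorem xb_eq (s : F) : B.xb s = nf B 0 s 0 0 := by
  unfold nf; rw [B.xa_zero, B.zs_zero, B.zl_zero]; group
theorem zs_eq (m : F) : B.zs m = nf B 0 0 m 0 := by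
  unfold nf; rw [B.xa_zero, B.xb_zero, B.zl_zero]; group
theorem zl_eq (r : F) : B.zl r = nf B 0 0 0 r := by
  unfold nf; rw [B.xa_zero, B.xb_zero, B.zs_zero]; group
theorem z_eq (m r : F) : B.zs m * B.zl r = nf B 0 0 m r := by
  rw [zs_eq, zl_eq, nf_mul]; congr 1 <;> ring

theorem nf_inv (u s m r : F) : (nf B u s m r)⁻¹ = nf B u s (m + u * s) (r + u ^ 2 * s) := by
  apply inv_eq_of_mul_eq_one_right
  rw [nf_mul, ← nf_zero (B := B)]
  have h2 : (2 : F) = 0 := CharTwo.two_eq_zero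
  congr 1
  · exact CharTwo.add_self_eq_zero u
  · exact CharTwo.add_self_eq_zero s
  · linear_combination (m + u * s) * h2
  · linear_combination (r + u ^ 2 * s) * h2

theorem nf_one {u s m r : F} (h : nf B u s m r = 1) : u = 0 ∧ s = 0 ∧ m = 0 ∧ r = 0 := B.inj u s m r h

theorem nf_inj {u s m r u' s' m' r' : F} (h : nf B u s m r = nf B u' s' m' r') :
    u = u' ∧ s = s' ∧ m = m' ∧ r = r' := by
  have h1 : nf B u s m r * (nf B u' s' m' r')⁻¹ = 1 := by rw [h]; group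
  rw [nf_inv, nf_mul] at h1
  obtain ⟨h2, h3, h4, h5⟩ := nf_one h1
  have e1 : u = u' := FieldAux.eq_of_add_eq_zero h2
  have e2 : s = s' := FieldAux.eq_of_add_eq_zero h3
  subst e1 e2
  have h2 : (2 : F) = 0 := CharTwo.two_eq_zero
  refine ⟨rfl, rfl, ?_, ?_⟩
  · apply FieldAux.eq_of_add_eq_zero
    linear_combination h4 - (u * s) * h2
  · apply FieldAux.eq_of_add_eq_zero
    linear_combination h5 - (u ^ 2 * s) * h2

/-- conjugation in `U` -/
theorem nf_conj (u s m r u' s' m' r' : F) : nf B u s m r * nf B u' s' m' r' * (nf B u s m r)⁻¹ =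
    nf B u' s' (m' + (u' * s + u * s')) (r' + (u' ^ 2 * s + u ^ 2 * s')) := by
  have h2 : (2 : F) = 0 := CharTwo.two_eq_zero
  rw [nf_inv, nf_mul, nf_mul]
  congr 1
  · linear_combination u * h2
  · linear_combination s * h2
  · linear_combination (m + u * s) * h2
  · linear_combination (r + u ^ 2 * s) * h2

/-- commutators in `U` -/
theorem nf_comm (u s m r u' s' m' r' : F) :
    nf B u s m r * nf B u' s' m' r' * (nf B u s m r)⁻¹ * (nf B u' s' m' r')⁻¹ =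
    nf B 0 0 (u' * s + u * s') (u' ^ 2 * s + u ^ 2 * s') := by
  have h2 : (2 : F) = 0 := CharTwo.two_eq_zero
  rw [nf_conj, nf_inv, nf_mul]
  congr 1
  · linear_combination u' * h2
  · linear_combination s' * h2
  · linear_combination (m' + u' * s') * h2
  · linear_combination (r' + u' ^ 2 * s') * h2

theorem nf_sq (u s m r : F) : nf B u s m r * nf B u s m r = nf B 0 0 (u * s) (u ^ 2 * s) := by
  rw [nf_mul]
  congr 1
  · exact CharTwo.add_self_eq_zero u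
  · exact CharTwo.add_self_eq_zero s
  · rw [CharTwo.add_self_eq_zero, zero_add]
  · rw [CharTwo.add_self_eq_zero, zero_add]

theorem isU_nf (u s m r : F) : IsU B (nf B u s m r) := ⟨u, s, m, r, rfl⟩

theorem IsU.mul {g g' : G} (h : IsU B g) (h' : IsU B g') : IsU B (g * g') := by
  obtain ⟨u, s, m, r, rfl⟩ := h
  obtain ⟨u', s', m', r', rfl⟩ := h'
  exact ⟨_, _, _, _, nf_mul u s m r u' s' m' r'⟩

theorem IsU.inv {g : G} (h : IsU B g) : IsU B g⁻¹ := by
  obtain ⟨u, s, m, r, rfl⟩ := h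
  exact ⟨_, _, _, _, nf_inv u s m r⟩

theorem isU_one : IsU B 1 := ⟨0, 0, 0, 0, nf_zero.symm⟩

/-- `U` -/
def UU (B : Base F G) : Subgroup G where
  carrier := {g | IsU B g}
  mul_mem' := IsU.mul
  one_mem' := isU_one
  inv_mem' := IsU.inv

theorem mem_UU {g : G} : g ∈ UU B ↔ IsU B g := Iff.rfl

theorem IsU.pow_four {g : G} (h : IsU B g) : g ^ 2 ^ 2 = 1 := by
  obtain ⟨u, s, m, r, rfl⟩ := h
  change (nf B u s m r) ^ 2 ^ 2 = 1
  rw [show (2 : ℕ) ^ 2 = 2 * 2 from rfl, pow_mul, pow_two, pow_two, nf_sq, nf_sq, ← nf_zero (B := B)]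
  congr 1 <;> ring

theorem isPGroup_UU : IsPGroup 2 ↥(UU B) := by
  rintro ⟨g, hg⟩
  exact ⟨2, Subtype.ext (IsU.pow_four hg)⟩

theorem isU_xa (u : F) : IsU B (B.xa u) := xa_eq (B := B) u ▸ isU_nf _ _ _ _
theorem isU_xb (u : F) : IsU B (B.xb u) := xb_eq (B := B) u ▸ isU_nf _ _ _ _
theorem isU_zs (u : F) : IsU B (B.zs u) := zs_eq (B := B) u ▸ isU_nf _ _ _ _
theorem isU_zl (u : F) : IsU B (B.zl u) := zl_eq (B := B) u ▸ isU_nf _ _ _ _
theorem isU_z (m r : F) : IsU B (B.zs m * B.zl r) := z_eq (B := B) m r ▸ isU_nf _ _ _ _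

/-- `Z` is central in `U` -/
theorem z_comm {g : G} (hg : IsU B g) (m r : F) : Commute g (B.zs m * B.zl r) := by
  obtain ⟨u, s, m', r', rfl⟩ := hg
  change nf B u s m' r' * _ = _ * nf B u s m' r'
  rw [z_eq, nf_mul, nf_mul]
  congr 1 <;> ring

theorem zs_comm {g : G} (hg : IsU B g) (m : F) : Commute g (B.zs m) := by
  have := z_comm hg m 0
  rwa [B.zl_zero, mul_one] at this

theorem zl_comm {g : G} (hg : IsU B g) (r : F) : Commute g (B.zl r) := by
  have := z_comm hg 0 r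
  rwa [B.zs_zero, one_mul] at this

/-- the centre of `U` -/
theorem center_U {g : G} (hg : IsU B g) (h1 : Commute g (B.xa 1)) (h2 : Commute g (B.xb 1)) :
    ∃ m r, g = B.zs m * B.zl r := by
  obtain ⟨u, s, m, r, rfl⟩ := hg
  change Commute (nf B u s m r) _ at h1 h2
  have e1 := nf_comm (B := B) u s m r 1 0 0 0
  have e2 := nf_comm (B := B) u s m r 0 1 0 0
  rw [← xa_eq, h1.eq] at e1
  rw [← xb_eq, h2.eq] at e2
  have e1' : nf B 0 0 (1 * s + u * 0) (1 ^ 2 * s + u ^ 2 * 0) = 1 := by rw [← e1]; group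
  have e2' : nf B 0 0 (0 * s + u * 1) (0 ^ 2 * s + u ^ 2 * 1) = 1 := by rw [← e2]; group
  have h3 := (nf_one e1').2.2.1
  have h4 := (nf_one e2').2.2.1
  have hs : s = 0 := by linear_combination h3
  have hu : u = 0 := by linear_combination h4
  subst hs hu
  exact ⟨m, r, by rw [z_eq]; rfl⟩

/-- elements of `U` of order two -/
theorem inv_U {u s m r : F} (h : nf B u s m r * nf B u s m r = 1) : u = 0 ∨ s = 0 := by
  rw [nf_sq] at h
  exact mul_eq_zero.1 (nf_one h).2.2.1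

/-- an element of `U` with non-trivial commutators in `Z_l` -/
theorem exists_comm_zl (hF : ∀ s : F, ∃ d : F, d ≠ 0 ∧ d ≠ s) {u s : F} (m r : F) (hu : u ≠ 0) (hs : s ≠ 0) :
    ∃ y e, IsU B y ∧ e ≠ 0 ∧ nf B u s m r * y * (nf B u s m r)⁻¹ * y⁻¹ = B.zl e := by
  obtain ⟨d, hd0, hds⟩ := hF s
  refine ⟨nf B (u * d * s⁻¹) d 0 0, u ^ 2 * d * (1 + d * s⁻¹), isU_nf _ _ _ _, ?_, ?_⟩
  · apply mul_ne_zero (mul_ne_zero (pow_ne_zero 2 hu) hd0)
    intro h1
    apply hds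
    have h2 : (1 : F) = d * s⁻¹ := FieldAux.eq_of_add_eq_zero h1
    calc d = d * s⁻¹ * s := by field_simp
      _ = s := by rw [← h2, one_mul]
  · rw [nf_comm, zl_eq]
    have h2 : (2 : F) = 0 := CharTwo.two_eq_zero
    congr 1
    · rw [mul_assoc (u * d), inv_mul_cancel₀ hs]
      linear_combination (u * d) * h2
    · field_simp
      ring

/-! ### Conjugation by `na`, `nb`, `h` -/

theorem na_zs' (m : F) : B.na * B.zs m * B.na⁻¹ = B.zs m := by rw [B.na_zs]; group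
theorem na_zl' (m : F) : B.na * B.zl m * B.na⁻¹ = B.xb m := by rw [B.na_zl]; group
theorem na_xb' (m : F) : B.na * B.xb m * B.na⁻¹ = B.zl m := by rw [B.na_xb]; group
theorem nb_zs' (m : F) : B.nb * B.zs m * B.nb⁻¹ = B.xa m := by rw [B.nb_zs]; group
theorem nb_zl' (m : F) : B.nb * B.zl m * B.nb⁻¹ = B.zl m := by rw [B.nb_zl]; group
theorem nb_xa' (m : F) : B.nb * B.xa m * B.nb⁻¹ = B.zs m := by rw [B.nb_xa]; group
theorem h_xa' (α β : Fˣ) (u : F) : B.h α β * B.xa u * (B.h α β)⁻¹ = B.xa (α * u) := by rw [B.h_xa]; group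
theorem h_xb' (α β : Fˣ) (u : F) : B.h α β * B.xb u * (B.h α β)⁻¹ = B.xb (β * u) := by rw [B.h_xb]; group
theorem h_zs' (α β : Fˣ) (u : F) : B.h α β * B.zs u * (B.h α β)⁻¹ = B.zs (α * β * u) := by rw [B.h_zs]; group
theorem h_zl' (α β : Fˣ) (u : F) : B.h α β * B.zl u * (B.h α β)⁻¹ = B.zl (α ^ 2 * β * u) := by rw [B.h_zl]; group

theorem mul_conj {g a b : G} : g * (a * b) * g⁻¹ = g * a * g⁻¹ * (g * b * g⁻¹) := by group

theorem h_nf (α β : Fˣ) (u s m r : F) : B.h α β * nf B u s m r * (B.h α β)⁻¹ =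
    nf B (α * u) (β * s) (α * β * m) (α ^ 2 * β * r) := by
  unfold nf
  rw [mul_conj, mul_conj, mul_conj, h_xa', h_xb', h_zs', h_zl']

/-- `p = na x_a(c)` maps `x_b(s) z_s(m) z_l(r)` into `Z` if `c² s = r` -/
theorem exists_conj_V1 [Finite F] {s : F} (m r : F) (hs : s ≠ 0) : ∃ c m', B.na * B.xa c * nf B 0 s m r * (B.na * B.xa c)⁻¹ =
    B.zs m' * B.zl s := by
  obtain ⟨c, hc⟩ : ∃ c : F, c ^ 2 * s = r := ⟨rt (r * s⁻¹), by rw [sq_rt]; field_simp⟩
  refine ⟨c, m + c * s, ?_⟩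
  have h1 : B.xa c * nf B 0 s m r * (B.xa c)⁻¹ = nf B 0 s (m + c * s) 0 := by
    have h2 : (2 : F) = 0 := CharTwo.two_eq_zero
    rw [xa_eq, nf_conj]
    congr 1
    · ring
    · rw [← hc]; linear_combination (c ^ 2 * s) * h2
  calc B.na * B.xa c * nf B 0 s m r * (B.na * B.xa c)⁻¹ = B.na * (B.xa c * nf B 0 s m r * (B.xa c)⁻¹) * B.na⁻¹ := by
        group
    _ = B.na * (B.xb s * B.zs (m + c * s)) * B.na⁻¹ := by
        rw [h1]; unfold nf; rw [B.xa_zero, B.zl_zero, one_mul, mul_one]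
    _ = B.zl s * B.zs (m + c * s) := by rw [mul_conj, na_xb', na_zs']
    _ = _ := ((B.zs_zl _ _).eq).symm

end Cfsg.Agent.OddHalf.D4.SpFourU

end
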