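import Cfsg.Agent.OddHalf.D4.SpFourDefs
import Cfsg.Agent.StdSpFour.ShortMake
import Cfsg.Agent.OddHalf.D4.SpFourU
import Cfsg.Agent.StdSpFour.EnvFacts
import Cfsg.Agent.OddHalf.D4.SpFourFr

-- merged: Cfsg.Agent.OddHalf.D4.SpFourShort
section

/-!
# ODD D4, `K = Sp₄(q)`, `m₂(C(K)) ≥ 2`: the layers over the root groups

[S1] of bb ODD #10764. `exists_shortQ`: one element of `IsN4Q B Q` moving an element of `Q` gives a short
layer; `exists_longQ` by the graph symmetry; `ShortQ.ratio`, `ShortQ.a_mul`, `LongQ.ratio`, `LongQ.b_mul`.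
-/

set_option autoImplicit false
set_option linter.unusedSectionVars false

namespace Cfsg.Agent.OddHalf.D4.SpFourShort

open Cfsg.Agent.StdSpFour Cfsg.Agent.StdSpFour.Base Subgroup
open Cfsg.Agent.OddHalf.D4.SpFourDefs

variable {F G : Type*} [Field F] [Group G] {B : Base F G} {Q : Subgroup G}

/-! ### generalities on `Q` -/

theorem QC.one_of_zs (hQ : QC B Q) {w : F} (h : B.zs w ∈ Q) [CharP F 2] : w = 0 := by
  have h1 := hQ.disj _ h 0 0 w 0 (by rw [B.xa_zero, B.xb_zero, B.zl_zero, one_mul, one_mul, mul_one])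
  have h2 := B.inj 0 0 w 0 (by rw [B.xa_zero, B.xb_zero, B.zl_zero, one_mul, one_mul, mul_one, h1])
  exact h2.2.2.1

theorem QC.one_of_zl (hQ : QC B Q) {w : F} (h : B.zl w ∈ Q) [CharP F 2] : w = 0 := by
  have h1 := hQ.disj _ h 0 0 0 w (by rw [B.xa_zero, B.xb_zero, B.zs_zero, one_mul, one_mul, one_mul])
  have h2 := B.inj 0 0 0 w (by rw [B.xa_zero, B.xb_zero, B.zs_zero, one_mul, one_mul, one_mul, h1])
  exact h2.2.2.2

theorem QC.one_of_v1 (hQ : QC B Q) {s m r : F} (h : B.v1 s m r ∈ Q) [CharP F 2] : B.v1 s m r = 1 :=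
  hQ.disj _ h 0 s m r (by rw [B.xa_zero, one_mul]; rfl)

theorem QC.t_ne_one (_hQ : QC B Q) [CharP F 2] : B.t ≠ 1 := by
  intro h
  apply B.t_ne 0 0 0 0
  rw [B.xa_zero, B.xb_zero, B.zs_zero, B.zl_zero, one_mul, one_mul, one_mul, h]

theorem QC.inv (hQ : QC B Q) {t : G} (ht : t ∈ Q) : t⁻¹ = t :=
  inv_eq_of_mul_eq_one_left (hQ.sq t ht)

theorem QC.comm (hQ : QC B Q) {x y : G} (hx : x ∈ Q) (hy : y ∈ Q) : Commute x y := by
  show x * y = y * x
  calc x * y = (x * y)⁻¹ := (QC.inv hQ (Q.mul_mem hx hy)).symm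
    _ = y⁻¹ * x⁻¹ := mul_inv_rev _ _
    _ = y * x := by rw [QC.inv hQ hx, QC.inv hQ hy]

theorem QC.v1 (hQ : QC B Q) {t : G} (ht : t ∈ Q) (s m r : F) : Commute t (B.v1 s m r) :=
  ((hQ.xb t ht s).mul_right (hQ.zs t ht m)).mul_right (hQ.zl t ht r)

variable [CharP F 2]

/-- the TI-property for elements translating `Q` by `Z_s` -/
theorem ti_zs (hB : QB B Q) {g : G} (hg : ∀ t ∈ Q, ∃ w, g⁻¹ * t * g = t * B.zs w) {t₁ : G}
    (h1 : t₁ ∈ Q) (hne : t₁ ≠ 1) (hc : g⁻¹ * t₁ * g = t₁) : ∀ t ∈ Q, Commute g t := by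
  have h2 := hB.ti g ⟨t₁, h1, hne, by rw [hc]; exact h1⟩ (by
    intro x hx y hy
    obtain ⟨w, hw⟩ := hg y hy
    rw [hw]
    exact (QC.comm hB.toQC hx hy).mul_right (hB.zs x hx w))
  intro t ht
  obtain ⟨w, hw⟩ := hg t ht
  have h3 := h2 t ht
  rw [hw] at h3
  have h4 : B.zs w ∈ Q := (Subgroup.mul_mem_cancel_left Q ht).1 h3
  have h5 := QC.one_of_zs hB.toQC h4
  rw [h5, B.zs_zero, mul_one] at hw
  have h6 : t * g = g * t := by
    calc t * g = g * (g⁻¹ * t * g) := by group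
      _ = g * t := by rw [hw]
  exact h6.symm

namespace N4

theorem conj_inv {m l : G} (hm : IsN4Q B Q m) {s k r : F} (h : m⁻¹ * l * m = l * B.v1 s k r) :
    m * l * m⁻¹ = l * B.v1 s k r := by
  have h1 : l * m = m * (l * B.v1 s k r) := by rw [← h]; group
  have h2 : m * l = l * m * B.v1 s k r := by
    rw [h1, mul_assoc m, mul_assoc l, B.v1_v1, mul_one]
  rw [h2, mul_assoc l, (hm.cent s k r).eq]
  group

/-- translation part of a product -/
theorem tr_mul {m n t : G} (hn : IsN4Q B Q n) {w w' : F} (h1 : m⁻¹ * t * m = t * B.zs w)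
    (h2 : n⁻¹ * t * n = t * B.zs w') : (m * n)⁻¹ * t * (m * n) = t * B.zs (w + w') := by
  rw [add_comm, B.zs_add, ← mul_assoc t, ← h2]
  calc (m * n)⁻¹ * t * (m * n) = n⁻¹ * (m⁻¹ * t * m) * n := by group
      _ = n⁻¹ * t * (B.zs w * n) := by rw [h1]; group
      _ = n⁻¹ * t * n * B.zs w := by rw [← v1_zs, ← (hn.cent 0 w 0).eq]; group

theorem tr_inv {m t : G} (hm : IsN4Q B Q m) {w : F} (h : m⁻¹ * t * m = t * B.zs w) :
    m * t * m⁻¹ = t * B.zs w := by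
  rw [← v1_zs] at h ⊢
  exact conj_inv hm h

theorem mul {m n : G} (hm : IsN4Q B Q m) (hn : IsN4Q B Q n) : IsN4Q B Q (m * n) := by
  have aux : ∀ l : G, (∃ s k r, m⁻¹ * l * m = l * B.v1 s k r) → (∃ s k r, n⁻¹ * l * n = l * B.v1 s k r) →
      ∃ s k r, (m * n)⁻¹ * l * (m * n) = l * B.v1 s k r := by
    rintro l ⟨s, k, r, h1⟩ ⟨s', k', r', h2⟩
    refine ⟨s' + s, k' + k, r' + r, ?_⟩
    rw [← B.v1_mul, ← mul_assoc l, ← h2]
    calc (m * n)⁻¹ * l * (m * n) = n⁻¹ * (m⁻¹ * l * m) * n := by group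
      _ = n⁻¹ * l * (B.v1 s k r * n) := by rw [h1]; group
      _ = n⁻¹ * l * n * B.v1 s k r := by rw [← (hn.cent s k r).eq]; group
  refine ⟨fun s k r => (hm.cent s k r).mul_left (hn.cent s k r), fun u => aux _ (hm.xa u) (hn.xa u),
    fun α => aux _ (hm.tor α) (hn.tor α), fun t ht => ?_⟩
  obtain ⟨w, h1⟩ := hm.tr t ht
  obtain ⟨w', h2⟩ := hn.tr t ht
  exact ⟨w + w', tr_mul hn h1 h2⟩

theorem inv {m : G} (hm : IsN4Q B Q m) : IsN4Q B Q m⁻¹ := by
  refine ⟨fun s k r => (hm.cent s k r).inv_left, ?_, ?_, ?_⟩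
  · intro u
    obtain ⟨s, k, r, h⟩ := hm.xa u
    exact ⟨s, k, r, by rw [inv_inv]; exact conj_inv hm h⟩
  · intro u
    obtain ⟨s, k, r, h⟩ := hm.tor u
    exact ⟨s, k, r, by rw [inv_inv]; exact conj_inv hm h⟩
  · intro t ht
    obtain ⟨w, h⟩ := hm.tr t ht
    exact ⟨w, by rw [inv_inv]; exact tr_inv hm h⟩

theorem commute_of_tr {m t : G} (h : m⁻¹ * t * m = t * B.zs 0) : Commute m t := by
  rw [B.zs_zero, mul_one] at h
  have : t * m = m * t := by
    calc t * m = m * (m⁻¹ * t * m) := by group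
      _ = m * t := by rw [h]
  exact this.symm

/-- an element of `N₄` commuting with one involution of `Q` commutes with `Q` -/
theorem commQ (hB : QB B Q) {m t : G} (hm : IsN4Q B Q m) (ht : t ∈ Q) (ht1 : t ≠ 1)
    (hc : Commute m t) : ∀ x ∈ Q, Commute m x := by
  refine ti_zs hB hm.tr ht ht1 ?_
  rw [mul_assoc, ← hc.eq, inv_mul_cancel_left]

theorem cent_t (hB : QB B Q) {m t : G} (hm : IsN4Q B Q m) (ht : t ∈ Q) (ht1 : t ≠ 1)
    (hc : Commute m t) : ∃ t' ∈ Q, ∃ s k r, m = t' * B.v1 s k r := by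
  refine hB.cent1 m (commQ hB hm ht ht1 hc) (fun u => ?_) (fun u => ?_) (fun u => ?_)
  · rw [← v1_xb]; exact hm.cent _ _ _
  · rw [← v1_zs]; exact hm.cent _ _ _
  · rw [← v1_zl]; exact hm.cent _ _ _

theorem sq (hB : QB B Q) {m : G} (hm : IsN4Q B Q m) : ∃ s k r, m * m = B.v1 s k r := by
  obtain ⟨w, hw⟩ := hm.tr B.t hB.t_mem
  have h1 := tr_mul hm hw hw
  rw [CharTwo.add_self_eq_zero] at h1
  obtain ⟨t', ht', s, k, r, h⟩ := cent_t hB (mul hm hm) hB.t_mem (QC.t_ne_one hB.toQC)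
    (commute_of_tr h1)
  by_cases ht1 : t' = 1
  · exact ⟨s, k, r, by rw [h, ht1, one_mul]⟩
  · exfalso
    have h2 : Commute m t' := by
      have h3 : Commute m (m * m) := (Commute.refl m).mul_right (Commute.refl m)
      have h4 : t' = m * m * B.v1 s k r := by rw [h, mul_assoc, B.v1_v1, mul_one]
      rw [h4]
      exact h3.mul_right (hm.cent s k r)
    obtain ⟨t'', ht'', s', k', r', h3⟩ := cent_t hB hm ht' ht1 h2
    have h6 : m * m = 1 := by
      rw [h3]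
      have hc := (QC.v1 hB.toQC ht'' s' k' r').eq
      calc t'' * B.v1 s' k' r' * (t'' * B.v1 s' k' r')
          = (B.v1 s' k' r' * t'') * (t'' * B.v1 s' k' r') := by rw [hc]
        _ = B.v1 s' k' r' * (t'' * t'') * B.v1 s' k' r' := by group
        _ = 1 := by rw [hB.sq t'' ht'', mul_one, B.v1_v1]
    rw [h6] at h
    have h7 : B.v1 s k r = t' := by
      calc B.v1 s k r = t'⁻¹ * (t' * B.v1 s k r) := by group
        _ = t' := by rw [← h, mul_one, QC.inv hB.toQC ht']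
    have h8 := QC.one_of_v1 hB.toQC (by rw [h7]; exact ht')
    exact ht1 (by rw [← h7, h8])

theorem comm (hB : QB B Q) {m n : G} (hm : IsN4Q B Q m) (hn : IsN4Q B Q n) :
    ∃ s k r, m * n = n * m * B.v1 s k r := by
  obtain ⟨s1, k1, r1, h1⟩ := sq hB hm
  obtain ⟨s2, k2, r2, h2⟩ := sq hB hn
  obtain ⟨s3, k3, r3, h3⟩ := sq hB (mul hm hn)
  have e1 : m⁻¹ = m * B.v1 s1 k1 r1 := by
    apply inv_eq_of_mul_eq_one_right
    rw [← mul_assoc, h1, B.v1_v1]
  have e2 : n⁻¹ = B.v1 s2 k2 r2 * n := by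
    rw [← (hn.cent _ _ _).eq]
    apply inv_eq_of_mul_eq_one_right
    rw [← mul_assoc, h2, B.v1_v1]
  have e3 : n * m = m⁻¹ * B.v1 s3 k3 r3 * n⁻¹ := by rw [← h3]; group
  have e4 : n * m = m * n * B.v1 (s1 + s3 + s2) (k1 + k3 + k2) (r1 + r3 + r2) := by
    rw [e3, e1, e2, ← B.v1_mul, ← B.v1_mul]
    have c1 := (hn.cent s1 k1 r1).eq
    have c2 := (hn.cent s2 k2 r2).eq
    have c3 := (hn.cent s3 k3 r3).eq
    calc m * B.v1 s1 k1 r1 * B.v1 s3 k3 r3 * (B.v1 s2 k2 r2 * n)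
        = m * B.v1 s1 k1 r1 * B.v1 s3 k3 r3 * (n * B.v1 s2 k2 r2) := by rw [c2]
      _ = m * B.v1 s1 k1 r1 * (B.v1 s3 k3 r3 * n) * B.v1 s2 k2 r2 := by group
      _ = m * (B.v1 s1 k1 r1 * n) * B.v1 s3 k3 r3 * B.v1 s2 k2 r2 := by rw [← c3]; group
      _ = _ := by rw [← c1]; group
  refine ⟨s1 + s3 + s2, k1 + k3 + k2, r1 + r3 + r2, ?_⟩
  rw [e4, mul_assoc, B.v1_v1, mul_one]

/-- the elements of `V₁` are in `N₄` -/
theorem of_v1 (hQ : QC B Q) (s k r : F) : IsN4Q B Q (B.v1 s k r) := by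
  have h0 := IsN4.of_v1 (B := B) s k r
  refine ⟨h0.cent, h0.xa, h0.tor, fun t ht => ⟨0, ?_⟩⟩
  rw [B.v1_inv, ← (QC.v1 hQ ht s k r).eq, mul_assoc, B.v1_v1, mul_one, B.zs_zero, mul_one]

theorem tr_conj (hQ : QC B Q) {m t : G} (ht : t ∈ Q) {w : F} (hw : m⁻¹ * t * m = t * B.zs w)
    (β : Fˣ) :
    (B.h 1 β * m * (B.h 1 β)⁻¹)⁻¹ * t * (B.h 1 β * m * (B.h 1 β)⁻¹) = t * B.zs (β * w) := by
  have h3 := (hQ.h t ht 1 β).eq
  rw [← h1_zs]
  calc (B.h 1 β * m * (B.h 1 β)⁻¹)⁻¹ * t * (B.h 1 β * m * (B.h 1 β)⁻¹)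
      = B.h 1 β * m⁻¹ * ((B.h 1 β)⁻¹ * (t * B.h 1 β)) * m * (B.h 1 β)⁻¹ := by group
    _ = B.h 1 β * (m⁻¹ * t * m) * (B.h 1 β)⁻¹ := by rw [h3]; group
    _ = (B.h 1 β * t) * B.zs w * (B.h 1 β)⁻¹ := by rw [hw]; group
    _ = _ := by rw [← h3]; group

/-- conjugation by the torus element `h 1 β` -/
theorem conj_h (hQ : QC B Q) {m : G} (hm : IsN4Q B Q m) (β : Fˣ) :
    IsN4Q B Q (B.h 1 β * m * (B.h 1 β)⁻¹) := by
  set h := B.h 1 β with hh
  have hv : ∀ s k r, h * B.v1 s k r * h⁻¹ = B.v1 (β * s) (β * k) (β * r) := by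
    intro s k r
    rw [hh, B.h_v1]
    simp
  have hv' : ∀ s k r, h⁻¹ * B.v1 s k r * h = B.v1 ((β⁻¹ : Fˣ) * s) ((β⁻¹ : Fˣ) * k) ((β⁻¹ : Fˣ) * r) := by
    intro s k r
    rw [hh, B.h_inv, B.h_v1, mul_assoc, ← B.h_mul]
    simp [B.h_one]
  have aux : ∀ l : G, Commute h l → (∃ s k r, m⁻¹ * l * m = l * B.v1 s k r) →
      ∃ s k r, (h * m * h⁻¹)⁻¹ * l * (h * m * h⁻¹) = l * B.v1 s k r := by
    rintro l hl ⟨s, k, r, h1⟩
    refine ⟨β * s, β * k, β * r, ?_⟩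
    rw [← hv]
    calc (h * m * h⁻¹)⁻¹ * l * (h * m * h⁻¹) = h * m⁻¹ * (h⁻¹ * (l * h)) * m * h⁻¹ := by group
      _ = h * (m⁻¹ * l * m) * h⁻¹ := by rw [← hl.eq]; group
      _ = (h * l) * B.v1 s k r * h⁻¹ := by rw [h1]; group
      _ = _ := by rw [hl.eq]; group
  refine ⟨?_, ?_, ?_, ?_⟩
  · intro s k r
    have h1 := (hm.cent ((β⁻¹ : Fˣ) * s) ((β⁻¹ : Fˣ) * k) ((β⁻¹ : Fˣ) * r)).eq
    rw [← hv'] at h1
    show h * m * h⁻¹ * B.v1 s k r = B.v1 s k r * (h * m * h⁻¹)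
    calc h * m * h⁻¹ * B.v1 s k r = h * (m * (h⁻¹ * B.v1 s k r * h)) * h⁻¹ := by group
      _ = _ := by rw [h1]; group
  · intro u
    refine aux _ ?_ (hm.xa u)
    show h * B.xa u = B.xa u * h
    rw [hh, B.h_xa]; simp
  · intro α
    exact aux _ (B.h_comm _ _ _ _) (hm.tor α)
  · intro t ht
    obtain ⟨w, hw⟩ := hm.tr t ht
    exact ⟨β * w, tr_conj hQ ht hw β⟩

/-- an element of `N₄` with the same translations commuting with `T_a` -/
theorem exists_comm [Fintype F] (hF : 4 ≤ Fintype.card F) (hQ : QC B Q) {m : G}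
    (hm : IsN4Q B Q m) :
    ∃ y, IsN4Q B Q y ∧ (∀ t ∈ Q, y⁻¹ * t * y = m⁻¹ * t * m) ∧ ∀ α : Fˣ, Commute y (B.h α α⁻¹) := by
  classical
  obtain ⟨ζ, hζ⟩ := IsCyclic.exists_generator (α := Fˣ)
  have hζ1 : (ζ : F) ≠ 1 := by
    intro h1
    obtain ⟨β, hβ⟩ := exists_unit_ne hF
    obtain ⟨k, hk⟩ := Subgroup.mem_zpowers_iff.1 (hζ β)
    have h2 : ζ = 1 := Units.ext h1
    rw [h2, one_zpow] at hk
    exact hβ hk.symm
  set h := B.h ζ ζ⁻¹ with hh
  obtain ⟨s, k, r, h1⟩ := hm.tor ζ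
  rw [← hh] at h1
  -- powers
  have hpow : ∀ n : ℕ, ∃ a b, (h * B.v1 s k r) ^ n = h ^ n * B.v1 a (n * k) b := by
    intro n
    induction n with
    | zero => exact ⟨0, 0, by simp [B.v1_zero]⟩
    | succ n ih =>
      obtain ⟨a, b, hab⟩ := ih
      refine ⟨ζ * a + s, ((ζ⁻¹ : Fˣ) : F) * b + r, ?_⟩
      rw [pow_succ, hab, pow_succ]
      calc h ^ n * B.v1 a (n * k) b * (h * B.v1 s k r) = h ^ n * (B.v1 a (n * k) b * h) * B.v1 s k r := by group
        _ = h ^ n * (h * B.v1 (ζ * a) (n * k) (((ζ⁻¹ : Fˣ) : F) * b)) * B.v1 s k r := by rw [hh, ha_v1]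
        _ = h ^ n * h * (B.v1 (ζ * a) (n * k) (((ζ⁻¹ : Fˣ) : F) * b) * B.v1 s k r) := by group
        _ = _ := by rw [B.v1_mul]; congr 2; push_cast; ring
  have hhn : ∀ n : ℕ, h ^ n = B.h (ζ ^ n) (ζ⁻¹ ^ n) := by
    intro n
    induction n with
    | zero => simp [B.h_one]
    | succ n ih => rw [pow_succ, ih, hh, ← B.h_mul, pow_succ, pow_succ]
  have hk0 : k = 0 := by
    obtain ⟨a, b, hab⟩ := hpow (Fintype.card Fˣ)
    have e1 : h ^ Fintype.card Fˣ = 1 := by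
      rw [hhn, inv_pow, pow_card_eq_one, inv_one, B.h_one]
    have e2 : (h * B.v1 s k r) ^ Fintype.card Fˣ = 1 := by
      rw [← h1]
      have : (m⁻¹ * h * m) ^ Fintype.card Fˣ = m⁻¹ * h ^ Fintype.card Fˣ * m := by
        have := conj_pow (i := Fintype.card Fˣ) (a := m⁻¹) (b := h)
        rw [inv_inv] at this
        exact this
      rw [this, e1]; group
    rw [e2, e1, one_mul, ← B.v1_zero] at hab
    have h3 := (B.v1_inj hab).2.1
    have hcard : ((Fintype.card Fˣ : ℕ) : F) = 1 := by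
      have h4 : Fintype.card Fˣ = Fintype.card F - 1 := Fintype.card_units F
      have h5 : (Fintype.card F : F) = 0 := FiniteField.cast_card_eq_zero F
      have h6 : Fintype.card Fˣ + 1 = Fintype.card F := by omega
      have h7 : ((Fintype.card Fˣ : ℕ) : F) + 1 = 0 := by
        rw [← h5, ← h6]; push_cast; rfl
      exact FieldAux.eq_of_add_eq_zero h7
    rw [hcard, one_mul] at h3
    exact h3.symm
  subst hk0
  have hz1 : (1 : F) + ζ ≠ 0 := fun h3 => hζ1 (FieldAux.eq_of_add_eq_zero h3).symm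
  have hz2 : (1 : F) + ((ζ⁻¹ : Fˣ) : F) ≠ 0 := by
    intro h3
    have h4 := FieldAux.eq_of_add_eq_zero h3
    apply hζ1
    rw [Units.val_inv_eq_inv_val] at h4
    rw [← inv_inv (ζ : F), ← h4, inv_one]
  set s' := (1 + (ζ : F))⁻¹ * s with hs'
  set r' := (1 + ((ζ⁻¹ : Fˣ) : F))⁻¹ * r with hr'
  have es : s = s' + ζ * s' := by
    rw [hs']
    field_simp
  have er : r = r' + ((ζ⁻¹ : Fˣ) : F) * r' := by
    rw [hr', show (1 + ((ζ⁻¹ : Fˣ) : F))⁻¹ * r + ((ζ⁻¹ : Fˣ) : F) * ((1 + ((ζ⁻¹ : Fˣ) : F))⁻¹ * r) =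
      ((1 + ((ζ⁻¹ : Fˣ) : F)) * (1 + ((ζ⁻¹ : Fˣ) : F))⁻¹) * r by ring, mul_inv_cancel₀ hz2, one_mul]
  have hy : Commute (m * B.v1 s' 0 r') h := by
    have h5 : h * m = m * (h * B.v1 s 0 r) := by rw [← h1]; group
    show m * B.v1 s' 0 r' * h = h * (m * B.v1 s' 0 r')
    calc m * B.v1 s' 0 r' * h = m * (B.v1 s' 0 r' * h) := by group
      _ = m * (h * B.v1 (ζ * s') 0 (((ζ⁻¹ : Fˣ) : F) * r')) := by rw [hh, ha_v1]
      _ = m * (h * (B.v1 s 0 r * B.v1 s' 0 r')) := by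
          rw [B.v1_mul]
          congr 3
          · rw [es, add_comm s', add_assoc, CharTwo.add_self_eq_zero, add_zero]
          · rw [add_zero]
          · rw [er, add_comm r', add_assoc, CharTwo.add_self_eq_zero, add_zero]
      _ = h * m * B.v1 s' 0 r' := by rw [h5]; group
      _ = _ := by group
  refine ⟨m * B.v1 s' 0 r', mul hm (of_v1 hQ _ _ _), ?_, ?_⟩
  · intro t ht
    obtain ⟨w, hw⟩ := hm.tr t ht
    calc (m * B.v1 s' 0 r')⁻¹ * t * (m * B.v1 s' 0 r')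
        = (B.v1 s' 0 r')⁻¹ * (m⁻¹ * t * m) * B.v1 s' 0 r' := by group
      _ = t * B.zs w := by
        rw [hw, ← v1_zs]
        have h6 : Commute (B.v1 s' 0 r') (t * B.v1 0 w 0) :=
          (QC.v1 hQ ht _ _ _).symm.mul_right (B.v1_comm _ _ _ _ _ _)
        calc (B.v1 s' 0 r')⁻¹ * (t * B.v1 0 w 0) * B.v1 s' 0 r'
            = (B.v1 s' 0 r')⁻¹ * ((t * B.v1 0 w 0) * B.v1 s' 0 r') := by group
          _ = _ := by rw [← h6.eq]; group
      _ = _ := hw.symm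
  · intro α
    obtain ⟨k, hk⟩ := Subgroup.mem_zpowers_iff.1 (hζ α)
    have h7 : B.h α α⁻¹ = h ^ k := by
      let φ : Fˣ →* G := MonoidHom.mk' (fun x => B.h x x⁻¹) (fun x y => by
        rw [mul_inv, B.h_mul])
      have h8 : φ α = φ ζ ^ k := by rw [← map_zpow, hk]
      exact h8
    rw [h7]
    exact hy.zpow_right k

end N4

/-! ### elements of `N₄` commuting with `T_a` -/

variable (B Q) in
/-- elements of `N₄` commuting with `T_a` -/
structure IsX (m : G) : Prop extends IsN4Q B Q m where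
  comm_h : ∀ α : Fˣ, Commute m (B.h α α⁻¹)

namespace IsX

theorem mul {m n : G} (hm : IsX B Q m) (hn : IsX B Q n) : IsX B Q (m * n) :=
  ⟨N4.mul hm.toIsN4Q hn.toIsN4Q, fun α => (hm.comm_h α).mul_left (hn.comm_h α)⟩

theorem inv {m : G} (hm : IsX B Q m) : IsX B Q m⁻¹ :=
  ⟨N4.inv hm.toIsN4Q, fun α => (hm.comm_h α).inv_left⟩

theorem conj_h (hQ : QC B Q) {m : G} (hm : IsX B Q m) (β : Fˣ) :
    IsX B Q (B.h 1 β * m * (B.h 1 β)⁻¹) :=
  ⟨N4.conj_h hQ hm.toIsN4Q β, fun α =>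
    ((B.h_comm 1 β α α⁻¹).mul_left (hm.comm_h α)).mul_left (B.h_comm 1 β α α⁻¹).inv_left⟩

theorem zs_comm {m : G} (hm : IsX B Q m) (k : F) : Commute m (B.zs k) := by
  rw [← v1_zs]; exact hm.cent _ _ _

variable [Fintype F] (hF : 4 ≤ Fintype.card F)
include hF

theorem cent_t (hB : QB B Q) {m : G} (hm : IsX B Q m) (ht : Commute m B.t) :
    ∃ t' ∈ Q, ∃ k, m = t' * B.zs k := by
  obtain ⟨t', ht', s, k, r, h⟩ := N4.cent_t hB hm.toIsN4Q hB.t_mem (QC.t_ne_one hB.toQC) ht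
  have h3 : ∀ α : Fˣ, Commute (B.v1 s k r) (B.h α α⁻¹) := by
    intro α
    have h4 : B.v1 s k r = t'⁻¹ * m := by rw [h]; group
    rw [h4]
    exact (hB.h t' ht' α α⁻¹).inv_left.mul_left (hm.comm_h α)
  obtain ⟨h1, h2⟩ := IsX.v1_zero_of_comm (B := B) hF h3
  exact ⟨t', ht', k, by rw [h, h1, h2, v1_zs]⟩

theorem sq (hB : QB B Q) {m : G} (hm : IsX B Q m) : ∃ k, m * m = B.zs k := by
  obtain ⟨s, k, r, h⟩ := N4.sq hB hm.toIsN4Q
  obtain ⟨h1, h2⟩ := IsX.v1_zero_of_comm (B := B) hF (s := s) (k := k) (r := r) (by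
    rw [← h]; exact fun α => (hm.comm_h α).mul_left (hm.comm_h α))
  exact ⟨k, by rw [h, h1, h2, v1_zs]⟩

theorem comm (hB : QB B Q) {m n : G} (hm : IsX B Q m) (hn : IsX B Q n) :
    ∃ k, m * n = n * m * B.zs k := by
  obtain ⟨s, k, r, h⟩ := N4.comm hB hm.toIsN4Q hn.toIsN4Q
  obtain ⟨h1, h2⟩ := IsX.v1_zero_of_comm (B := B) hF (s := s) (k := k) (r := r) (by
    have h3 : B.v1 s k r = (n * m)⁻¹ * (m * n) := by rw [h]; group
    rw [h3]
    exact fun α => ((hn.comm_h α).mul_left (hm.comm_h α)).inv_left.mul_left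
      ((hm.comm_h α).mul_left (hn.comm_h α)))
  exact ⟨k, by rw [h, h1, h2, v1_zs]⟩

end IsX

/-! ### ratios -/

theorem mul_tr {t m : G} {w : F} : t * m = m * t * B.zs w ↔ m⁻¹ * t * m = t * B.zs w := by
  constructor
  · intro h
    calc m⁻¹ * t * m = m⁻¹ * (t * m) := by group
      _ = t * B.zs w := by rw [h]; group
  · intro h
    calc t * m = m * (m⁻¹ * t * m) := by group
      _ = m * t * B.zs w := by rw [h]; group

/-- Comparison of the translations of two elements, one of them centralising `Z_s`. -/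
theorem ratio_aux (hB : QB B Q) {g m : G} (hg : ∀ t ∈ Q, ∃ w, g⁻¹ * t * g = t * B.zs w)
    {a : G → F} (hm : ∀ t ∈ Q, m⁻¹ * t * m = t * B.zs (a t)) (hmz : ∀ w, Commute m (B.zs w))
    (h1 : g⁻¹ * B.t * g = m⁻¹ * B.t * m) : ∀ t ∈ Q, g⁻¹ * t * g = t * B.zs (a t) := by
  have hmi : ∀ t ∈ Q, m * t * m⁻¹ = t * B.zs (a t) := by
    intro t ht
    have h2 := hm t ht
    have h3 : t = (m * t * m⁻¹) * B.zs (a t) := by
      calc t = m * (m⁻¹ * t * m) * m⁻¹ := by group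
        _ = m * t * (B.zs (a t) * m⁻¹) := by rw [h2]; group
        _ = m * t * (m⁻¹ * B.zs (a t)) := by rw [((hmz (a t)).inv_left).eq]
        _ = _ := by group
    calc m * t * m⁻¹ = (m * t * m⁻¹) * (B.zs (a t) * B.zs (a t)) := by rw [B.zs_zs, mul_one]
      _ = t * B.zs (a t) := by rw [← mul_assoc, ← h3]
  have hgm : ∀ t ∈ Q, ∀ w, g⁻¹ * t * g = t * B.zs w →
      (g * m⁻¹)⁻¹ * t * (g * m⁻¹) = t * B.zs (a t + w) := by
    intro t ht w hw
    calc (g * m⁻¹)⁻¹ * t * (g * m⁻¹) = m * (g⁻¹ * t * g) * m⁻¹ := by group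
      _ = m * t * (B.zs w * m⁻¹) := by rw [hw]; group
      _ = (m * t * m⁻¹) * B.zs w := by rw [← ((hmz w).inv_left).eq]; group
      _ = t * B.zs (a t + w) := by rw [hmi t ht, B.zs_add, mul_assoc]
  have h4 : ∀ t ∈ Q, Commute (g * m⁻¹) t := by
    refine ti_zs hB (fun t ht => ?_) hB.t_mem (QC.t_ne_one hB.toQC) ?_
    · obtain ⟨w, hw⟩ := hg t ht
      exact ⟨_, hgm t ht w hw⟩
    · have h5 : g⁻¹ * B.t * g = B.t * B.zs (a B.t) := by rw [h1, hm _ hB.t_mem]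
      rw [hgm _ hB.t_mem _ h5, CharTwo.add_self_eq_zero, B.zs_zero, mul_one]
  intro t ht
  obtain ⟨w, hw⟩ := hg t ht
  have h5 := hgm t ht w hw
  have h6 : (g * m⁻¹)⁻¹ * t * (g * m⁻¹) = t := by
    rw [mul_assoc, ← (h4 t ht).eq, inv_mul_cancel_left]
  rw [h6] at h5
  have h7 : B.zs (a t + w) = 1 := (left_eq_mul.1 h5)
  have h8 : a t + w = 0 := QC.one_of_zs hB.toQC (by rw [h7]; exact Q.one_mem)
  rw [hw, FieldAux.eq_of_add_eq_zero h8]

theorem ShortQ.ratio (hB : QB B Q) (S : ShortQ B Q) {g : G}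
    (hg : ∀ t ∈ Q, ∃ w, g⁻¹ * t * g = t * B.zs w) :
    ∃ φ, ∀ t ∈ Q, g⁻¹ * t * g = t * B.zs (S.a t * φ) := by
  obtain ⟨w, hw⟩ := hg B.t hB.t_mem
  have ha := S.a_ne B.t hB.t_mem (QC.t_ne_one hB.toQC)
  refine ⟨(S.a B.t)⁻¹ * w, ratio_aux hB hg (m := S.p ((S.a B.t)⁻¹ * w))
    (a := fun t => S.a t * ((S.a B.t)⁻¹ * w)) (fun t ht => mul_tr.1 (S.t_p t ht _))
    (fun w => S.p_zs _ w) ?_⟩
  rw [mul_tr.1 (S.t_p B.t hB.t_mem _), hw, mul_inv_cancel_left₀ ha]

theorem ShortQ.a_mul (hB : QB B Q) (S : ShortQ B Q) {t t' : G} (ht : t ∈ Q) (ht' : t' ∈ Q) :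
    S.a (t * t') = S.a t + S.a t' := by
  have h1 := mul_tr.1 (S.t_p t ht 1)
  have h2 := mul_tr.1 (S.t_p t' ht' 1)
  have h3 := mul_tr.1 (S.t_p (t * t') (Q.mul_mem ht ht') 1)
  rw [mul_one] at h1 h2 h3
  have h4 : (S.p 1)⁻¹ * (t * t') * S.p 1 = t * t' * B.zs (S.a t + S.a t') := by
    calc (S.p 1)⁻¹ * (t * t') * S.p 1 = ((S.p 1)⁻¹ * t * S.p 1) * ((S.p 1)⁻¹ * t' * S.p 1) := by group
      _ = t * (B.zs (S.a t) * t') * B.zs (S.a t') := by rw [h1, h2]; group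
      _ = t * (t' * B.zs (S.a t)) * B.zs (S.a t') := by rw [(hB.zs t' ht' _).eq]
      _ = _ := by rw [B.zs_add]; group
  rw [h3] at h4
  have h5 := mul_left_cancel h4
  rw [← v1_zs, ← v1_zs] at h5
  exact (B.v1_inj h5).2.1

theorem ShortQ.a_inj (hB : QB B Q) (S : ShortQ B Q) {t t' : G} (ht : t ∈ Q) (ht' : t' ∈ Q)
    (h : S.a t = S.a t') : t = t' := by
  by_contra hne
  apply S.a_ne (t * t') (Q.mul_mem ht ht')
  · intro h1
    apply hne
    rw [← QC.inv hB.toQC ht']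
    exact eq_inv_of_mul_eq_one_left h1
  · rw [ShortQ.a_mul hB S ht ht', h, CharTwo.add_self_eq_zero]

/-! ### construction of the short layer -/

theorem exists_shortQ [Fintype F] (hF : 4 ≤ Fintype.card F) (hB : QB B Q) {m0 : G}
    (h0 : IsN4Q B Q m0) (hne : ∃ t ∈ Q, m0⁻¹ * t * m0 ≠ t) : Nonempty (ShortQ B Q) := by
  classical
  have hQ := hB.toQC
  obtain ⟨y0, hy0N, hy0t, hy0h⟩ := N4.exists_comm hF hQ h0
  have hy0 : IsX B Q y0 := ⟨hy0N, hy0h⟩
  obtain ⟨w0, hyw⟩ := hy0N.tr B.t hB.t_mem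
  have hw0 : w0 ≠ 0 := by
    rintro rfl
    obtain ⟨t, ht, hne⟩ := hne
    apply hne
    have h1 := N4.commQ hB hy0N hB.t_mem (QC.t_ne_one hQ) (N4.commute_of_tr hyw) t ht
    rw [← hy0t t ht, mul_assoc, ← h1.eq, inv_mul_cancel_left]
  -- the translations
  have hyα : ∀ t : G, ∃ w, t ∈ Q → y0⁻¹ * t * y0 = t * B.zs w := by
    intro t
    by_cases ht : t ∈ Q
    · obtain ⟨w, hw⟩ := hy0N.tr t ht
      exact ⟨w, fun _ => hw⟩
    · exact ⟨0, fun h => absurd h ht⟩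
  choose α0 hα0 using hyα
  set a : G → F := fun t => w0⁻¹ * α0 t with ha
  have hαa : ∀ t, α0 t = w0 * a t := fun t => by
    rw [ha]; field_simp
  have haBt : a B.t = 1 := by
    have h1 := hα0 B.t hB.t_mem
    rw [hyw] at h1
    have h2 := mul_left_cancel h1
    rw [← v1_zs, ← v1_zs] at h2
    have h3 := (B.v1_inj h2).2.1
    rw [ha]
    simp only [← h3]
    exact inv_mul_cancel₀ hw0
  obtain ⟨l, hl⟩ := exists_unit_ne hF
  have hl1 : (1 : F) + l ≠ 0 := fun h => hl (Units.ext (FieldAux.eq_of_add_eq_zero h).symm)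
  -- normalise: translation `(1 + l)⁻¹`
  set c : Fˣ := Units.mk0 ((1 + (l : F))⁻¹ * w0⁻¹) (mul_ne_zero (inv_ne_zero hl1) (inv_ne_zero hw0)) with hc
  set y := B.h 1 c * y0 * (B.h 1 c)⁻¹ with hy
  have hyX : IsX B Q y := hy0.conj_h hQ c
  have hyt : ∀ t ∈ Q, y⁻¹ * t * y = t * B.zs ((1 + (l : F))⁻¹ * a t) := by
    intro t ht
    rw [hy, N4.tr_conj hQ ht (hα0 t ht)]
    congr 2
    rw [hc, Units.val_mk0, hαa]
    field_simp
  -- the family `Y`
  set Y : F → G := fun m => if h : m = 0 then 1 else B.h 1 (Units.mk0 m h) * y * (B.h 1 (Units.mk0 m h))⁻¹ with hY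
  have hY0 : Y 0 = 1 := by simp [hY]
  have hYne : ∀ (m : F) (h : m ≠ 0), Y m = B.h 1 (Units.mk0 m h) * y * (B.h 1 (Units.mk0 m h))⁻¹ := by
    intro m h; simp [hY, h]
  have one_X : IsX B Q 1 := by
    refine ⟨?_, fun α => Commute.one_left _⟩
    have := N4.of_v1 hQ (0 : F) 0 0
    rwa [B.v1_zero] at this
  have hYX : ∀ m, IsX B Q (Y m) := by
    intro m
    by_cases h : m = 0
    · rw [h, hY0]; exact one_X
    · rw [hYne m h]; exact hyX.conj_h hQ _
  have hYt : ∀ t ∈ Q, ∀ m, (Y m)⁻¹ * t * Y m = t * B.zs ((1 + (l : F))⁻¹ * m * a t) := by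
    intro t ht m
    by_cases h : m = 0
    · rw [h, hY0, mul_zero, zero_mul, B.zs_zero]; group
    · rw [hYne m h, N4.tr_conj hQ ht (hyt t ht), Units.val_mk0]
      congr 2
      ring
  have hYh : ∀ (β : Fˣ) m, B.h 1 β * Y m * (B.h 1 β)⁻¹ = Y (β * m) := by
    intro β m
    by_cases h : m = 0
    · rw [h, mul_zero, hY0]; group
    · have h' : (β : F) * m ≠ 0 := mul_ne_zero β.ne_zero h
      rw [hYne m h, hYne _ h']
      have e : B.h 1 (Units.mk0 ((β : F) * m) h') = B.h 1 β * B.h 1 (Units.mk0 m h) := by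
        rw [← B.h_mul, mul_one]
        congr 1
        ext; simp
      rw [e]; group
  -- the family `p`
  set p : F → G := fun m => (Y m)⁻¹ * (B.h 1 l * Y m * (B.h 1 l)⁻¹) with hp
  have hpX : ∀ m, IsX B Q (p m) := fun m => (hYX m).inv.mul ((hYX m).conj_h hQ l)
  have hpt : ∀ t ∈ Q, ∀ m, (p m)⁻¹ * t * p m = t * B.zs (a t * m) := by
    intro t ht m
    have h1 : ((Y m)⁻¹)⁻¹ * t * (Y m)⁻¹ = t * B.zs ((1 + (l : F))⁻¹ * m * a t) := by
      rw [inv_inv]; exact N4.tr_inv (hYX m).toIsN4Q (hYt t ht m)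
    have h2 := N4.tr_mul ((hYX m).conj_h hQ l).toIsN4Q h1 (N4.tr_conj hQ ht (hYt t ht m) l)
    rw [h2]
    congr 2
    field_simp
  have hp0 : p 0 = 1 := by simp only [hp, hY0]; group
  have hph : ∀ (β : Fˣ) m, B.h 1 β * p m * (B.h 1 β)⁻¹ = p (β * m) := by
    intro β m
    simp only [hp]
    rw [← hYh β m]
    have e := (B.h_comm 1 β 1 l).eq
    calc B.h 1 β * ((Y m)⁻¹ * (B.h 1 l * Y m * (B.h 1 l)⁻¹)) * (B.h 1 β)⁻¹
        = (B.h 1 β * (Y m)⁻¹ * (B.h 1 β)⁻¹) * ((B.h 1 β * B.h 1 l) * Y m * (B.h 1 β * B.h 1 l)⁻¹) := by group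
      _ = _ := by rw [e]; group
  have htp : ∀ t ∈ Q, ∀ m, t * p m = p m * t * B.zs (a t * m) := fun t ht m => mul_tr.2 (hpt t ht m)
  -- additivity modulo `Z_s`
  have hpadd : ∀ m m', ∃ k, p m * p m' = p (m + m') * B.zs k := by
    intro m m'
    obtain ⟨x, hx⟩ : ∃ x, x = Y m := ⟨_, rfl⟩
    obtain ⟨b, hb⟩ : ∃ b, b = Y m' := ⟨_, rfl⟩
    obtain ⟨cc, hcc⟩ : ∃ cc, cc = Y (m + m') := ⟨_, rfl⟩
    obtain ⟨H, hH⟩ : ∃ H, H = B.h 1 l := ⟨_, rfl⟩
    have haX : IsX B Q x := hx ▸ hYX m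
    have hbX : IsX B Q b := hb ▸ hYX m'
    have hcX : IsX B Q cc := hcc ▸ hYX (m + m')
    have hta : x⁻¹ * B.t * x = B.t * B.zs ((1 + (l : F))⁻¹ * m) := by
      have := hYt B.t hB.t_mem m
      rw [haBt, mul_one] at this
      rw [hx]; exact this
    have htb : b⁻¹ * B.t * b = B.t * B.zs ((1 + (l : F))⁻¹ * m') := by
      have := hYt B.t hB.t_mem m'
      rw [haBt, mul_one] at this
      rw [hb]; exact this
    have htc : cc⁻¹ * B.t * cc = B.t * B.zs ((1 + (l : F))⁻¹ * (m + m')) := by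
      have := hYt B.t hB.t_mem (m + m')
      rw [haBt, mul_one] at this
      rw [hcc]; exact this
    have hpa : p m = x⁻¹ * (H * x * H⁻¹) := by simp only [hp, hx, hH]
    have hpb : p m' = b⁻¹ * (H * b * H⁻¹) := by simp only [hp, hb, hH]
    have hpc : p (m + m') = cc⁻¹ * (H * cc * H⁻¹) := by simp only [hp, hcc, hH]
    have hHz : ∀ k, H * B.zs k * H⁻¹ = B.zs (l * k) := fun k => by rw [hH, h1_zs]
    -- `x b = cc * d`, `d` centralises `t`
    have hd : ∃ t' ∈ Q, ∃ k, cc⁻¹ * (x * b) = t' * B.zs k := by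
      refine IsX.cent_t hF hB (hcX.inv.mul (haX.mul hbX)) ?_
      refine N4.commute_of_tr (B := B) ?_
      have h1 := N4.tr_mul hbX.toIsN4Q hta htb
      have h2 : (cc⁻¹)⁻¹ * B.t * cc⁻¹ = B.t * B.zs ((1 + (l : F))⁻¹ * (m + m')) := by
        rw [inv_inv]; exact N4.tr_inv hcX.toIsN4Q htc
      have h3 := N4.tr_mul (haX.mul hbX).toIsN4Q h2 h1
      rw [h3]
      congr 2
      rw [mul_add, CharTwo.add_self_eq_zero]
    have hσ : ∀ g : G, IsX B Q g → IsX B Q (H * g * H⁻¹) := fun g hg => by rw [hH]; exact hg.conj_h hQ l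
    obtain ⟨k1, hk1⟩ := IsX.comm hF hB (hσ x haX) hbX.inv
    obtain ⟨k2, hk2⟩ := IsX.comm hF hB hbX haX
    have e1 : p m * p m' = (b * x)⁻¹ * (H * (x * b) * H⁻¹) * B.zs k1 := by
      rw [hpa, hpb]
      have z1 := ((hσ b hbX).zs_comm k1).eq
      calc x⁻¹ * (H * x * H⁻¹) * (b⁻¹ * (H * b * H⁻¹))
          = x⁻¹ * ((H * x * H⁻¹) * b⁻¹) * (H * b * H⁻¹) := by group
        _ = x⁻¹ * b⁻¹ * (H * x * H⁻¹) * (B.zs k1 * (H * b * H⁻¹)) := by rw [hk1]; group
        _ = _ := by rw [← z1]; group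
    have e2 : (b * x)⁻¹ = B.zs k2 * (x * b)⁻¹ := by
      rw [hk2, mul_inv_rev, B.zs_inv]
    have z2 : B.zs k2 * (x * b)⁻¹ * (H * (x * b) * H⁻¹) = (x * b)⁻¹ * (H * (x * b) * H⁻¹) * B.zs k2 := by
      have := ((haX.mul hbX).inv.mul (hσ _ (haX.mul hbX))).zs_comm k2
      rw [this.eq]
      simp only [mul_assoc]
    obtain ⟨t', ht', k, hk⟩ := hd
    have hab : x * b = cc * (t' * B.zs k) := by rw [← hk]; group
    refine ⟨a t' * (m + m') + k + l * k + k2 + k1, ?_⟩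
    rw [e1, e2, z2, hab]
    have e3 : (cc * (t' * B.zs k))⁻¹ * (H * (cc * (t' * B.zs k)) * H⁻¹) =
        p (m + m') * B.zs (a t' * (m + m') + k + l * k) := by
      have ht : H * t' = t' * H := by rw [hH]; exact (hQ.h t' ht' 1 l).symm.eq
      have e4 : H * (cc * (t' * B.zs k)) * H⁻¹ = H * cc * H⁻¹ * (t' * B.zs (l * k)) := by
        rw [← hHz]
        calc H * (cc * (t' * B.zs k)) * H⁻¹ = H * cc * H⁻¹ * (H * t') * B.zs k * H⁻¹ := by group
          _ = _ := by rw [ht]; group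
      rw [e4, mul_inv_rev, mul_inv_rev, B.zs_inv, QC.inv hQ ht', B.zs_add, B.zs_add]
      have z3 := ((hpX (m + m')).zs_comm k).eq
      have t1 := htp t' ht' (m + m')
      have e5 : t' * p (m + m') * t' = p (m + m') * B.zs (a t' * (m + m')) := by
        rw [t1, mul_assoc (p (m + m') * t'), ← (hQ.zs t' ht' (a t' * (m + m'))).eq]
        calc p (m + m') * t' * (t' * B.zs (a t' * (m + m'))) =
              p (m + m') * (t' * t') * B.zs (a t' * (m + m')) := by group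
          _ = _ := by rw [hB.sq t' ht', mul_one]
      calc B.zs k * t' * cc⁻¹ * (H * cc * H⁻¹ * (t' * B.zs (l * k)))
          = B.zs k * (t' * p (m + m') * t') * B.zs (l * k) := by rw [hpc]; group
        _ = (B.zs k * p (m + m')) * B.zs (a t' * (m + m')) * B.zs (l * k) := by rw [e5]; group
        _ = p (m + m') * (B.zs k * B.zs (a t' * (m + m'))) * B.zs (l * k) := by rw [← z3]; group
        _ = _ := by rw [← B.zs_add, add_comm k, B.zs_add]; group
    rw [e3]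
    simp only [B.zs_add, mul_assoc]
  -- commutation
  have hcm : ∀ m m', ∃ k, p m * p m' = p m' * p m * B.zs k := fun m m' => IsX.comm hF hB (hpX m) (hpX m')
  choose β hβ using hcm
  have hzinj : ∀ {k k' : F}, B.zs k = B.zs k' → k = k' := by
    intro k k' h
    rw [← v1_zs, ← v1_zs] at h
    exact (B.v1_inj h).2.1
  have hpz : ∀ m k, p m * B.zs k = B.zs k * p m := fun m k => ((hpX m).zs_comm k).eq
  have hβl : ∀ x y z, β (x + y) z = β x z + β y z := by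
    intro x y z
    obtain ⟨k, hk⟩ := hpadd x y
    have e : p (x + y) = p x * p y * B.zs k := by rw [hk, mul_assoc, B.zs_zs, mul_one]
    apply hzinj
    have h1 := hβ (x + y) z
    have h2 : p (x + y) * p z = p z * p (x + y) * B.zs (β x z + β y z) := by
      rw [e, B.zs_add]
      have a1 := hβ x z
      have a2 := hβ y z
      calc p x * p y * B.zs k * p z = p x * (p y * p z) * B.zs k := by
            rw [mul_assoc (p x * p y), ← hpz z k]; group
        _ = (p x * p z) * p y * B.zs (β y z) * B.zs k := by rw [a2]; group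
        _ = p z * p x * (B.zs (β x z) * p y) * B.zs (β y z) * B.zs k := by rw [a1]; group
        _ = p z * p x * p y * B.zs (β x z) * B.zs (β y z) * B.zs k := by rw [← hpz y]; group
        _ = p z * (p x * p y * B.zs k) * (B.zs (β x z) * B.zs (β y z)) := by
            have : B.zs (β x z) * B.zs (β y z) * B.zs k = B.zs k * (B.zs (β x z) * B.zs (β y z)) := by
              simp only [← B.zs_add]; congr 1; ring
            calc p z * p x * p y * B.zs (β x z) * B.zs (β y z) * B.zs k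
                = p z * p x * p y * (B.zs (β x z) * B.zs (β y z) * B.zs k) := by group
              _ = _ := by rw [this]; group
    exact mul_left_cancel (h1.symm.trans h2)
  have hβs : ∀ x y, β x y = β y x := by
    intro x y
    apply hzinj
    have h1 := hβ x y
    have h2 := hβ y x
    have h3 : p x * p y = p y * p x * B.zs (β y x) := by
      have : p y * p x * B.zs (β y x) = p x * p y * B.zs (β y x) * B.zs (β y x) := by rw [← h2]
      rw [mul_assoc (p x * p y), B.zs_zs, mul_one] at this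
      exact this.symm
    exact mul_left_cancel (h1.symm.trans h3)
  have hβr : ∀ x y z, β x (y + z) = β x y + β x z := by
    intro x y z
    rw [hβs, hβl, hβs y, hβs z]
  have hβh : ∀ k x y, k ≠ 0 → β (k * x) (k * y) = k * β x y := by
    intro k x y hk
    have h1 := hβ x y
    set H := B.h 1 (Units.mk0 k hk) with hH
    have e : ∀ m, H * p m * H⁻¹ = p (k * m) := fun m => by rw [hph, Units.val_mk0]
    have e2 : H * B.zs (β x y) * H⁻¹ = B.zs (k * β x y) := by rw [h1_zs, Units.val_mk0]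
    have h2 : p (k * x) * p (k * y) = p (k * y) * p (k * x) * B.zs (k * β x y) := by
      rw [← e, ← e, ← e2]
      calc H * p x * H⁻¹ * (H * p y * H⁻¹) = H * (p x * p y) * H⁻¹ := by group
        _ = _ := by rw [h1]; group
    exact hzinj (mul_left_cancel ((hβ _ _).symm.trans h2))
  have hβa : ∀ x, β x x = 0 := by
    intro x
    apply hzinj
    rw [B.zs_zero]
    exact (left_eq_mul.1 (hβ x x))
  have hβ0 := FieldAux.alt_zero hβl hβr hβh hβa
  have hpp : ∀ m m', Commute (p m) (p m') := by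
    intro m m'
    have := hβ m m'
    rw [hβ0, B.zs_zero, mul_one] at this
    exact this
  -- squares
  have hsq : ∀ m, ∃ k, p m * p m = B.zs k := fun m => IsX.sq hF hB (hpX m)
  choose f hf using hsq
  have hfh : ∀ k m, k ≠ 0 → f (k * m) = k * f m := by
    intro k m hk
    apply hzinj
    rw [← hf]
    have e : p (k * m) = B.h 1 (Units.mk0 k hk) * p m * (B.h 1 (Units.mk0 k hk))⁻¹ := by
      rw [hph, Units.val_mk0]
    have e2 : B.zs (k * f m) = B.h 1 (Units.mk0 k hk) * B.zs (f m) * (B.h 1 (Units.mk0 k hk))⁻¹ := by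
      rw [h1_zs, Units.val_mk0]
    rw [e, e2, ← hf]; group
  have hf1 : ∀ m, f m = f 1 * m := by
    intro m
    by_cases h : m = 0
    · rw [h, mul_zero]
      apply hzinj
      rw [← hf, hp0, B.zs_zero, one_mul]
    · have := hfh m 1 h
      rw [mul_one] at this
      rw [this, mul_comm]
  -- commutator with `X_a`
  have hxap : ∀ m u, ∃ s k r, (p m)⁻¹ * B.xa u * p m = B.xa u * B.v1 s k r := fun m u => (hpX m).xa u
  choose g1 g2 g3 hg using hxap
  have hgadd : ∀ m u u', g1 m (u + u') = g1 m u + g1 m u' ∧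
      g2 m (u + u') = g2 m u + u' * g1 m u + g2 m u' ∧
      g3 m (u + u') = g3 m u + u' ^ 2 * g1 m u + g3 m u' := by
    intro m u u'
    have h1 := hg m (u + u')
    have e : ∀ s k r, B.v1 s k r * B.xa u' = B.xa u' * B.v1 s (k + u' * s) (r + u' ^ 2 * s) := by
      intro s k r
      rw [B.xa_v1]
      congr 1
      rw [add_assoc, CharTwo.add_self_eq_zero, add_zero, add_assoc, CharTwo.add_self_eq_zero, add_zero]
    have h2 : (p m)⁻¹ * B.xa (u + u') * p m = B.xa (u + u') *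
        B.v1 (g1 m u + g1 m u') (g2 m u + u' * g1 m u + g2 m u') (g3 m u + u' ^ 2 * g1 m u + g3 m u') := by
      calc (p m)⁻¹ * B.xa (u + u') * p m = ((p m)⁻¹ * B.xa u * p m) * ((p m)⁻¹ * B.xa u' * p m) := by
            rw [B.xa_add]; group
        _ = B.xa u * (B.v1 (g1 m u) (g2 m u) (g3 m u) * B.xa u') * B.v1 (g1 m u') (g2 m u') (g3 m u') := by
            rw [hg, hg]; group
        _ = (B.xa u * B.xa u') * (B.v1 (g1 m u) (g2 m u + u' * g1 m u) (g3 m u + u' ^ 2 * g1 m u) *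
              B.v1 (g1 m u') (g2 m u') (g3 m u')) := by rw [e]; group
        _ = _ := by rw [B.v1_mul, B.xa_add]
    rw [h1] at h2
    exact B.v1_inj (mul_left_cancel h2)
  have hg00 : ∀ m, g1 m 0 = 0 ∧ g2 m 0 = 0 ∧ g3 m 0 = 0 := by
    intro m
    have h1 := hg m 0
    rw [B.xa_zero, one_mul] at h1
    have h2 : B.v1 (g1 m 0) (g2 m 0) (g3 m 0) = B.v1 0 0 0 := by
      rw [← h1, B.v1_zero]; group
    exact B.v1_inj h2
  have hg1 : ∀ m u, g1 m u = 0 := by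
    intro m u
    by_cases hu : u = 0
    · rw [hu]; exact (hg00 m).1
    · have h1 := (hgadd m u u).2.1
      rw [CharTwo.add_self_eq_zero, (hg00 m).2.1] at h1
      have h2 : u * g1 m u = 0 := by
        have h3 : g2 m u + u * g1 m u + g2 m u = u * g1 m u + (g2 m u + g2 m u) := by ring
        rw [h3, CharTwo.add_self_eq_zero, add_zero] at h1
        exact h1.symm
      exact (mul_eq_zero.1 h2).resolve_left hu
  have hgh : ∀ m (α : Fˣ) u, g2 m (α * u) = g2 m u ∧ g3 m (α * u) = α * g3 m u := by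
    intro m α u
    have h1 := hg m u
    have hc := ((hpX m).comm_h α)
    have h2 : (p m)⁻¹ * B.xa (α * u) * p m = B.xa (α * u) * B.v1 0 (g2 m u) (α * g3 m u) := by
      have e1 : B.xa (α * u) = B.h α α⁻¹ * B.xa u * (B.h α α⁻¹)⁻¹ := by rw [B.h_xa]; group
      have e2 : B.v1 0 (g2 m u) (α * g3 m u) = B.h α α⁻¹ * B.v1 0 (g2 m u) (g3 m u) * (B.h α α⁻¹)⁻¹ := by
        rw [B.h_v1, mul_inv_cancel_right]
        congr 1
        · rw [mul_zero]
        · rw [Units.mul_inv, one_mul]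
        · rw [Units.val_inv_eq_inv_val]; field_simp
      rw [e2, e1]
      set h := B.h α α⁻¹
      have h3 : (p m)⁻¹ * h = h * (p m)⁻¹ := hc.inv_left.eq
      have h4 : h⁻¹ * p m = p m * h⁻¹ := hc.symm.inv_left.eq
      calc (p m)⁻¹ * (h * B.xa u * h⁻¹) * p m = ((p m)⁻¹ * h) * B.xa u * (h⁻¹ * p m) := by group
        _ = h * ((p m)⁻¹ * B.xa u * p m) * h⁻¹ := by rw [h3, h4]; group
        _ = h * (B.xa u * B.v1 0 (g2 m u) (g3 m u)) * h⁻¹ := by rw [h1, hg1]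
        _ = _ := by group
    rw [hg] at h2
    have h3 := B.v1_inj (mul_left_cancel h2)
    exact ⟨h3.2.1, h3.2.2⟩
  have hg2 : ∀ m u, g2 m u = 0 := by
    intro m u
    refine FieldAux.const_zero hF (f := g2 m) ?_ ?_ u
    · intro x y
      have := (hgadd m x y).2.1
      rw [hg1, mul_zero, add_zero] at this
      exact this
    · intro x y hx hy
      have h1 := (hgh m (Units.mk0 x hx) 1).1
      have h2 := (hgh m (Units.mk0 y hy) 1).1
      rw [Units.val_mk0, mul_one] at h1 h2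
      rw [h1, h2]
  have hg3 : ∀ m u, g3 m u = u * g3 m 1 := by
    intro m u
    by_cases hu : u = 0
    · rw [hu, (hg00 m).2.2, zero_mul]
    · have := (hgh m (Units.mk0 u hu) 1).2
      rw [Units.val_mk0, mul_one] at this
      exact this
  have hg3h : ∀ k m, k ≠ 0 → g3 (k * m) 1 = k * g3 m 1 := by
    intro k m hk
    set H := B.h 1 (Units.mk0 k hk) with hH
    have e : p (k * m) = H * p m * H⁻¹ := by rw [hph, Units.val_mk0]
    have e1 : B.xa 1 = H * B.xa 1 * H⁻¹ := by rw [hH, B.h_xa]; simp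
    have e2 : H * B.v1 0 0 (g3 m 1) * H⁻¹ = B.v1 0 0 (k * g3 m 1) := by
      rw [h1_v1, Units.val_mk0, mul_zero]
    have h1 := hg m 1
    rw [hg1, hg2] at h1
    have h2 : (p (k * m))⁻¹ * B.xa 1 * p (k * m) = B.xa 1 * B.v1 0 0 (k * g3 m 1) := by
      rw [e, ← e2]
      calc (H * p m * H⁻¹)⁻¹ * B.xa 1 * (H * p m * H⁻¹)
          = (H * p m * H⁻¹)⁻¹ * (H * B.xa 1 * H⁻¹) * (H * p m * H⁻¹) := by rw [← e1]
        _ = H * ((p m)⁻¹ * B.xa 1 * p m) * H⁻¹ := by group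
        _ = (H * B.xa 1 * H⁻¹) * (H * B.v1 0 0 (g3 m 1) * H⁻¹) := by rw [h1]; group
        _ = _ := by rw [← e1]
    rw [hg] at h2
    exact (B.v1_inj (mul_left_cancel h2)).2.2
  have hg30 : g3 0 1 = 0 := by
    have h1 := hg 0 1
    rw [hp0, inv_one, one_mul, mul_one] at h1
    have h2 : B.v1 (g1 0 1) (g2 0 1) (g3 0 1) = B.v1 0 0 0 := by
      rw [B.v1_zero]; exact (left_eq_mul.1 h1)
    exact (B.v1_inj h2).2.2
  have hg3' : ∀ m u, g3 m u = g3 1 1 * u * m := by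
    intro m u
    rw [hg3]
    by_cases h : m = 0
    · rw [h, hg30, mul_zero, mul_zero]
    · have := hg3h m 1 h
      rw [mul_one] at this
      rw [this]; ring
  refine ⟨{ p := p, a := a, e := g3 1 1, c := f 1, a_ne := ?_, p_zero := hp0, t_p := htp,
            p_xb := ?_, p_zs := ?_, p_zl := ?_,
            p_p := hpp, p_add := hpadd, p_sq := ?_, xa_p := ?_, h_p := ?_ }⟩
  · intro t ht ht1 hat
    have h1 := hα0 t ht
    rw [hαa, hat, mul_zero] at h1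
    have h2 := N4.commQ hB hy0N ht ht1 (N4.commute_of_tr h1) B.t hB.t_mem
    have h3 : y0⁻¹ * B.t * y0 = B.t := by
      rw [mul_assoc, ← h2.eq, inv_mul_cancel_left]
    rw [h3] at hyw
    apply hw0
    refine QC.one_of_zs hQ ?_
    rw [(left_eq_mul.1 hyw)]
    exact Q.one_mem
  · intro m s; rw [← v1_xb]; exact (hpX m).cent _ _ _
  · intro m s; rw [← v1_zs]; exact (hpX m).cent _ _ _
  · intro m s; rw [← v1_zl]; exact (hpX m).cent _ _ _
  · intro m; rw [hf, hf1]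
  · intro u m
    have h1 := hg m u
    rw [hg1, hg2, hg3', v1_zl] at h1
    calc B.xa u * p m = p m * ((p m)⁻¹ * B.xa u * p m) := by group
      _ = _ := by rw [h1]; group
  · intro α β m
    have e : B.h α β = B.h 1 (α * β) * B.h α α⁻¹ := by
      rw [← B.h_mul, one_mul, mul_comm α β, mul_inv_cancel_right]
    have h1 := ((hpX m).comm_h α).eq
    have h2 := hph (α * β) m
    rw [Units.val_mul] at h2
    rw [← h2, e]
    calc B.h 1 (α * β) * B.h α α⁻¹ * p m = B.h 1 (α * β) * (B.h α α⁻¹ * p m) := by group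
      _ = _ := by rw [← h1]; group

/-! ### the graph symmetry -/

section swap

variable [Finite F]

open Cfsg.Agent.StdSpFour.Swap

theorem QC.swap (hQ : QC B Q) : QC (swap B) Q where
  t_mem := hQ.t_mem
  sq := hQ.sq
  xa := hQ.xb
  xb := fun t ht u => hQ.xa t ht _
  zs := hQ.zl
  zl := fun t ht u => hQ.zs t ht _
  h := fun t ht α β => hQ.h t ht _ _
  na := hQ.nb
  nb := hQ.na
  disj := by
    intro t ht u s m r h
    have h' : B.xb u * B.xa (rt s) * B.zl m * B.zs (rt r) = t := h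
    rw [norm_eq] at h'
    exact hQ.disj t ht _ _ _ _ h'

theorem QB.swap (hB : QB B Q) : QB (swap B) Q where
  toQC := QC.swap hB.toQC
  cent1 := by
    intro g h1 h2 h3 h4
    obtain ⟨t, ht, s, m, r, h⟩ := hB.cent2 g h1 (fun u => by
      have := h2 (u ^ 2)
      simp only [Swap.swap, rt_sq] at this
      exact this) (fun u => by
      have := h4 (u ^ 2)
      simp only [Swap.swap, rt_sq] at this
      exact this) h3
    refine ⟨t, ht, s ^ 2, r, m ^ 2, ?_⟩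
    show g = t * (B.xa (rt (s ^ 2)) * B.zl r * B.zs (rt (m ^ 2)))
    rw [rt_sq, rt_sq, mul_assoc (B.xa s), ← (B.zs_zl m r).eq, ← mul_assoc (B.xa s)]
    exact h
  cent2 := by
    intro g h1 h2 h3 h4
    obtain ⟨t, ht, s, m, r, h⟩ := hB.cent1 g h1 h2 (fun u => by
      have := h4 (u ^ 2)
      simp only [Swap.swap, rt_sq] at this
      exact this) h3
    refine ⟨t, ht, s, r, m ^ 2, ?_⟩
    show g = t * (B.xb s * B.zl r * B.zs (rt (m ^ 2)))
    rw [rt_sq, mul_assoc (B.xb s), ← (B.zs_zl m r).eq, ← mul_assoc (B.xb s)]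
    exact h
  centZ := by
    intro g h1 h2 h3
    obtain ⟨t, ht, u, s, m, r, h⟩ := hB.centZ g h1 (fun u => by
      have := h3 (u ^ 2)
      simp only [Swap.swap, rt_sq] at this
      exact this) h2
    refine ⟨t, ht, s, u ^ 2, u ^ 2 * s + r, (u * s + m) ^ 2, ?_⟩
    show g = t * (B.xb s * B.xa (rt (u ^ 2)) * B.zl (u ^ 2 * s + r) * B.zs (rt ((u * s + m) ^ 2)))
    rw [rt_sq, rt_sq, norm_eq]
    have e1 : u * s + (u * s + m) = m := by
      rw [← add_assoc, CharTwo.add_self_eq_zero, zero_add]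
    have e2 : u ^ 2 * s + (u ^ 2 * s + r) = r := by
      rw [← add_assoc, CharTwo.add_self_eq_zero, zero_add]
    rw [e1, e2]
    exact h
  ti := hB.ti

/-- the short layer of `swap B` as long layer of `B` -/
noncomputable def swapQ (S : ShortQ (swap B) Q) : LongQ B Q where
  q := S.p
  b := S.a
  e := rt S.e
  c := S.c
  b_ne := S.a_ne
  q_zero := S.p_zero
  t_q := S.t_p
  q_xa := by
    intro m s
    have := S.p_xb m (s ^ 2)
    simp only [Swap.swap, rt_sq] at this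
    exact this
  q_zs := by
    intro m s
    have := S.p_zl m (s ^ 2)
    simp only [Swap.swap, rt_sq] at this
    exact this
  q_zl := S.p_zs
  q_q := S.p_p
  q_add := S.p_add
  q_sq := S.p_sq
  xb_q := by
    intro s r
    have h := S.xa_p (s ^ 2) (r ^ 2)
    have h' : B.xb (s ^ 2) * S.p (r ^ 2) = S.p (r ^ 2) * B.xb (s ^ 2) *
      B.zs (rt (S.e * s ^ 2 * r ^ 2)) := h
    rw [h', rt_mul, rt_mul, rt_sq, rt_sq, mul_assoc (rt S.e)]
  h_q := by
    intro α β r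
    have h := S.h_p β (α ^ 2) r
    have h' : B.h (rtU (α ^ 2)) β * S.p r = S.p (β * ((α ^ 2 : Fˣ) : F) * r) * B.h (rtU (α ^ 2)) β := h
    rw [rtU_sq, Units.val_pow_eq_pow_val, mul_comm (β : F)] at h'
    exact h'

end swap

theorem exists_longQ [Fintype F] (hF : 4 ≤ Fintype.card F) (hB : QB B Q) {m0 : G}
    (h0 : IsN4Q (Swap.swap B) Q m0) (hne : ∃ t ∈ Q, m0⁻¹ * t * m0 ≠ t) : Nonempty (LongQ B Q) := by
  obtain ⟨S⟩ := exists_shortQ hF (QB.swap hB) h0 hne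
  exact ⟨swapQ S⟩

/-- the long layer as short layer of `swap B` -/
noncomputable def swapQ' [Finite F] (L : LongQ B Q) : ShortQ (Swap.swap B) Q where
  p := L.q
  a := L.b
  e := L.e ^ 2
  c := L.c
  a_ne := L.b_ne
  p_zero := L.q_zero
  t_p := L.t_q
  p_xb := fun m s => L.q_xa m _
  p_zs := L.q_zl
  p_zl := fun m s => L.q_zs m _
  p_p := L.q_q
  p_add := L.q_add
  p_sq := L.q_sq
  xa_p := by
    intro u m
    have h := L.xb_q (Swap.rt u) (Swap.rt m)
    rw [Swap.sq_rt, Swap.sq_rt] at h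
    show B.xb u * L.q m = L.q m * B.xb u * B.zs (Swap.rt (L.e ^ 2 * u * m))
    rw [h, Swap.rt_mul, Swap.rt_mul, Swap.rt_sq, mul_assoc L.e (Swap.rt u) (Swap.rt m)]
  h_p := by
    intro α β m
    show B.h (Swap.rtU β) α * L.q m = L.q (α * β * m) * B.h (Swap.rtU β) α
    rw [L.h_q, Swap.rtU_val, Swap.sq_rt, mul_comm (β : F)]

theorem LongQ.ratio [Finite F] (hB : QB B Q) (L : LongQ B Q) {g : G}
    (hg : ∀ t ∈ Q, ∃ w, g⁻¹ * t * g = t * B.zl w) :
    ∃ φ, ∀ t ∈ Q, g⁻¹ * t * g = t * B.zl (L.b t * φ) :=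
  ShortQ.ratio (QB.swap hB) (swapQ' L) hg

theorem LongQ.b_mul [Finite F] (hB : QB B Q) (L : LongQ B Q) {t t' : G} (ht : t ∈ Q) (ht' : t' ∈ Q) :
    L.b (t * t') = L.b t + L.b t' :=
  ShortQ.a_mul (QB.swap hB) (swapQ' L) ht ht'

theorem LongQ.b_inj [Finite F] (hB : QB B Q) (L : LongQ B Q) {t t' : G} (ht : t ∈ Q) (ht' : t' ∈ Q)
    (h : L.b t = L.b t') : t = t' :=
  ShortQ.a_inj (QB.swap hB) (swapQ' L) ht ht' h

end Cfsg.Agent.OddHalf.D4.SpFourShort

end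

-- merged: Cfsg.Agent.OddHalf.D4.SpFourQuot
section

/-!
# ODD D4, `K = Sp₄(q)`: transport of the coordinates to a section (helper684)

`toSub B X h`: `B` in a subgroup `X` containing all its elements. `map B f`: the image under a homomorphism which is
injective on `U` and on `t U`. `IsN4Q` and `swap` are compatible with both.
-/

set_option autoImplicit false

namespace Cfsg.Agent.OddHalf.D4.SpFourQuot

open Cfsg.Agent.StdSpFour Subgroup
open Cfsg.Agent.StdSpFour.Swap Cfsg.Agent.OddHalf.D4.SpFourDefs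

variable {F G H : Type*} [Field F] [Group G] [Group H]

/-- all elements of `B` lie in `X` -/
structure InX (B : Base F G) (X : Subgroup G) : Prop where
  t : B.t ∈ X
  xa : ∀ u, B.xa u ∈ X
  xb : ∀ u, B.xb u ∈ X
  zs : ∀ u, B.zs u ∈ X
  zl : ∀ u, B.zl u ∈ X
  h : ∀ α β, B.h α β ∈ X
  na : B.na ∈ X
  nb : B.nb ∈ X

/-- `B` in the subgroup `X` -/
def toSub (B : Base F G) (X : Subgroup G) (hX : InX B X) : Base F ↥X where
  t := ⟨B.t, hX.t⟩
  xa := fun u => ⟨B.xa u, hX.xa u⟩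
  xb := fun u => ⟨B.xb u, hX.xb u⟩
  zs := fun u => ⟨B.zs u, hX.zs u⟩
  zl := fun u => ⟨B.zl u, hX.zl u⟩
  h := fun α β => ⟨B.h α β, hX.h α β⟩
  na := ⟨B.na, hX.na⟩
  nb := ⟨B.nb, hX.nb⟩
  tt := Subtype.ext B.tt
  xa_add := fun u v => Subtype.ext (B.xa_add u v)
  xb_add := fun u v => Subtype.ext (B.xb_add u v)
  zs_add := fun u v => Subtype.ext (B.zs_add u v)
  zl_add := fun u v => Subtype.ext (B.zl_add u v)
  t_xa := fun u => Subtype.ext (B.t_xa u).eq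
  t_xb := fun u => Subtype.ext (B.t_xb u).eq
  t_zs := fun u => Subtype.ext (B.t_zs u).eq
  t_zl := fun u => Subtype.ext (B.t_zl u).eq
  t_h := fun α β => Subtype.ext (B.t_h α β).eq
  t_na := Subtype.ext B.t_na.eq
  t_nb := Subtype.ext B.t_nb.eq
  xa_zs := fun u m => Subtype.ext (B.xa_zs u m).eq
  xa_zl := fun u m => Subtype.ext (B.xa_zl u m).eq
  xb_zs := fun u m => Subtype.ext (B.xb_zs u m).eq
  xb_zl := fun u m => Subtype.ext (B.xb_zl u m).eq
  zs_zl := fun u m => Subtype.ext (B.zs_zl u m).eq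
  xa_xb := fun u s => Subtype.ext (B.xa_xb u s)
  h_mul := fun α β α' β' => Subtype.ext (B.h_mul α β α' β')
  h_xa := fun α β u => Subtype.ext (B.h_xa α β u)
  h_xb := fun α β u => Subtype.ext (B.h_xb α β u)
  h_zs := fun α β u => Subtype.ext (B.h_zs α β u)
  h_zl := fun α β u => Subtype.ext (B.h_zl α β u)
  na_h := fun α β => Subtype.ext (B.na_h α β)
  nb_h := fun α β => Subtype.ext (B.nb_h α β)
  na_xb := fun u => Subtype.ext (B.na_xb u)
  na_zl := fun u => Subtype.ext (B.na_zl u)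
  na_zs := fun u => Subtype.ext (B.na_zs u)
  nb_xa := fun u => Subtype.ext (B.nb_xa u)
  nb_zs := fun u => Subtype.ext (B.nb_zs u)
  nb_zl := fun u => Subtype.ext (B.nb_zl u)
  inj := fun u s m r e => B.inj u s m r (congrArg Subtype.val e)
  t_ne := fun u s m r e => B.t_ne u s m r (congrArg Subtype.val e)

/-- injectivity on `⟨t⟩ U` -/
structure InjU (B : Base F G) (f : G →* H) : Prop where
  inj : ∀ u s m r, f (B.xa u * B.xb s * B.zs m * B.zl r) = 1 → B.xa u * B.xb s * B.zs m * B.zl r = 1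
  ne : ∀ u s m r, f (B.xa u * B.xb s * B.zs m * B.zl r) ≠ f B.t

theorem cm {f : G →* H} {x y : G} (h : Commute x y) : Commute (f x) (f y) := h.map f

/-- the image of `B` -/
def map (B : Base F G) (f : G →* H) (hf : InjU B f) : Base F H where
  t := f B.t
  xa := fun u => f (B.xa u)
  xb := fun u => f (B.xb u)
  zs := fun u => f (B.zs u)
  zl := fun u => f (B.zl u)
  h := fun α β => f (B.h α β)
  na := f B.na
  nb := f B.nb
  tt := by rw [← map_mul, B.tt, map_one]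
  xa_add := fun u v => by rw [B.xa_add, map_mul]
  xb_add := fun u v => by rw [B.xb_add, map_mul]
  zs_add := fun u v => by rw [B.zs_add, map_mul]
  zl_add := fun u v => by rw [B.zl_add, map_mul]
  t_xa := fun u => cm (B.t_xa u)
  t_xb := fun u => cm (B.t_xb u)
  t_zs := fun u => cm (B.t_zs u)
  t_zl := fun u => cm (B.t_zl u)
  t_h := fun α β => cm (B.t_h α β)
  t_na := cm B.t_na
  t_nb := cm B.t_nb
  xa_zs := fun u m => cm (B.xa_zs u m)
  xa_zl := fun u m => cm (B.xa_zl u m)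
  xb_zs := fun u m => cm (B.xb_zs u m)
  xb_zl := fun u m => cm (B.xb_zl u m)
  zs_zl := fun u m => cm (B.zs_zl u m)
  xa_xb := fun u s => by rw [← map_mul, B.xa_xb, map_mul, map_mul, map_mul]
  h_mul := fun α β α' β' => by rw [B.h_mul, map_mul]
  h_xa := fun α β u => by rw [← map_mul, B.h_xa, map_mul]
  h_xb := fun α β u => by rw [← map_mul, B.h_xb, map_mul]
  h_zs := fun α β u => by rw [← map_mul, B.h_zs, map_mul]
  h_zl := fun α β u => by rw [← map_mul, B.h_zl, map_mul]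
  na_h := fun α β => by rw [← map_mul, B.na_h, map_mul]
  nb_h := fun α β => by rw [← map_mul, B.nb_h, map_mul]
  na_xb := fun u => by rw [← map_mul, B.na_xb, map_mul]
  na_zl := fun u => by rw [← map_mul, B.na_zl, map_mul]
  na_zs := fun u => by rw [← map_mul, B.na_zs, map_mul]
  nb_xa := fun u => by rw [← map_mul, B.nb_xa, map_mul]
  nb_zs := fun u => by rw [← map_mul, B.nb_zs, map_mul]
  nb_zl := fun u => by rw [← map_mul, B.nb_zl, map_mul]
  inj := fun u s m r e => B.inj u s m r (hf.inj u s m r (by rw [map_mul, map_mul, map_mul]; exact e))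
  t_ne := fun u s m r e => hf.ne u s m r (by rw [map_mul, map_mul, map_mul]; exact e)

section swap

variable [CharP F 2] [Finite F] {B : Base F G}

theorem InX.swap {X : Subgroup G} (h : InX B X) : InX (swap B) X where
  t := h.t
  xa := fun u => h.xb _
  xb := fun u => h.xa _
  zs := fun u => h.zl _
  zl := fun u => h.zs _
  h := fun α β => h.h _ _
  na := h.nb
  nb := h.na

theorem swap_toSub {X : Subgroup G} (h : InX B X) : swap (toSub B X h) = toSub (swap B) X (InX.swap h) := rfl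

theorem InjU.swap {f : G →* H} (h : InjU B f) : InjU (swap B) f where
  inj := by
    intro u s m r e
    obtain ⟨u', s', m', r', e'⟩ := SpFourCent.isU_swap.1 (⟨u, s, m, r, rfl⟩ :
      SpFourCent.IsU (Swap.swap B) ((Swap.swap B).xa u * (Swap.swap B).xb s * (Swap.swap B).zs m * (Swap.swap B).zl r))
    rw [e'] at e ⊢
    exact h.inj _ _ _ _ e
  ne := by
    intro u s m r e
    obtain ⟨u', s', m', r', e'⟩ := SpFourCent.isU_swap.1 (⟨u, s, m, r, rfl⟩ :
      SpFourCent.IsU (Swap.swap B) ((Swap.swap B).xa u * (Swap.swap B).xb s * (Swap.swap B).zs m * (Swap.swap B).zl r))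
    rw [e'] at e
    exact h.ne _ _ _ _ e

theorem swap_map {f : G →* H} (h : InjU B f) : swap (map B f h) = map (swap B) f (InjU.swap h) := rfl

end swap

end Cfsg.Agent.OddHalf.D4.SpFourQuot

end

-- merged: Cfsg.Agent.OddHalf.D4.SpFourMover
section

/-!
# ODD D4, `K = Sp₄(q)`, `m₂(C(K)) ≥ 2`: the mover

[S4] of bb ODD #10764 / #11555. `exists_n4`: if some conjugate `Q^{g⁻¹} ≤ Q Z_s` is not `Q` (`RootS B Q g`), then some
element of `IsN4Q B Q` moves an element of `Q`.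
-/

set_option autoImplicit false
set_option linter.unusedSectionVars false

open Subgroup Pointwise
open scoped commutatorElement

namespace Cfsg.Agent.OddHalf.D4.SpFourMover

open Cfsg.Agent.StdSpFour Cfsg.Agent.StdSpFour.Base
open Cfsg.Agent.StdSpFour.Swap Cfsg.Agent.OddHalf.D4.SpFourDefs
open Cfsg.Agent.OddHalf.D4.SpFourCent (KCent RootS)
open Cfsg.Agent.StdSpFour.Env (P1 L1 PS na_P1 xa_P1 v1_P1 na_L1 xa_L1 L1_le isU_P1 nf_inj v1_xa
  not_isU_na comm_le conj_comm)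
open Cfsg.Agent.OddHalf.D4.SpFourShort

section Mov

variable {F G : Type*} [Field F] [CharP F 2] [Group G] {B : Base F G} {Q : Subgroup G}

/-- `n` normalises `Z_s`, `V₁` and `V₁ L₁` and moves `Q` inside `Q Z_s`, not inside `Q`. -/
structure MoverQ (B : Base F G) (Q : Subgroup G) (L : Set G) (n : G) : Prop where
  tr : ∀ t ∈ Q, ∃ t' ∈ Q, ∃ w, n * t * n⁻¹ = t' * B.zs w
  ne : ∃ t ∈ Q, ∃ t' ∈ Q, ∃ w, w ≠ 0 ∧ n * t * n⁻¹ = t' * B.zs w
  zs : ∀ m, ∃ m', n⁻¹ * B.zs m * n = B.zs m'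
  v : ∀ s m r, ∃ s' m' r', n * B.v1 s m r * n⁻¹ = B.v1 s' m' r'
  v' : ∀ s m r, ∃ s' m' r', n⁻¹ * B.v1 s m r * n = B.v1 s' m' r'
  l : ∀ l ∈ L, ∃ l' ∈ L, ∃ s m r, n * l * n⁻¹ = l' * B.v1 s m r

/-- Step 1: an element of `N₄` moving `Q`. -/
theorem exists_isN4Q [Fintype F] (hF : 4 ≤ Fintype.card F) (hQ : QC B Q) {L : Set G} (hL : B.LeviSet L) {n : G}
    (hn : MoverQ B Q L n) : ∃ m, IsN4Q B Q m ∧ ∃ t ∈ Q, m⁻¹ * t * m ≠ t := by
  obtain ⟨β, hβ⟩ := exists_unit_ne hF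
  set h := B.h 1 β with hh
  set g := n⁻¹ * h * n with hg
  have hVL : ∀ l ∈ L, ∃ s m r, g⁻¹ * l * g = l * B.v1 s m r := by
    intro l hl
    obtain ⟨l', hl', s, m, r, h1⟩ := hn.l l hl
    obtain ⟨s', m', r', h2⟩ := hn.v' (s + (β⁻¹ : Fˣ) * s) (m + (β⁻¹ : Fˣ) * m) (r + (β⁻¹ : Fˣ) * r)
    refine ⟨s', m', r', ?_⟩
    have h3 : h⁻¹ * (l' * B.v1 s m r) * h = l' * B.v1 s m r *
        B.v1 (s + (β⁻¹ : Fˣ) * s) (m + (β⁻¹ : Fˣ) * m) (r + (β⁻¹ : Fˣ) * r) := by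
      have h4 := (hL.h_comm l' hl' β).eq
      rw [← hh] at h4
      have h5 : h⁻¹ * l' = l' * h⁻¹ := by
        calc h⁻¹ * l' = h⁻¹ * (l' * h) * h⁻¹ := by group
          _ = l' * h⁻¹ := by rw [← h4]; group
      rw [mul_assoc l', B.v1_mul, ← add_assoc, ← add_assoc, ← add_assoc, CharTwo.add_self_eq_zero,
        CharTwo.add_self_eq_zero, CharTwo.add_self_eq_zero, zero_add, zero_add, zero_add, ← h1_v1', ← hh,
        ← mul_assoc h⁻¹, h5]
      group
    calc g⁻¹ * l * g = n⁻¹ * (h⁻¹ * (n * l * n⁻¹) * h) * n := by rw [hg]; group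
      _ = n⁻¹ * ((n * l * n⁻¹) *
        B.v1 (s + (β⁻¹ : Fˣ) * s) (m + (β⁻¹ : Fˣ) * m) (r + (β⁻¹ : Fˣ) * r)) * n := by rw [h1, h3]
      _ = l * (n⁻¹ * B.v1 (s + (β⁻¹ : Fˣ) * s) (m + (β⁻¹ : Fˣ) * m) (r + (β⁻¹ : Fˣ) * r) * n) := by group
      _ = _ := by rw [h2]
  have hVg : ∀ s m r, ∃ s' m' r', g⁻¹ * B.v1 s m r * g = B.v1 s' m' r' := by
    intro s m r
    obtain ⟨s1, m1, r1, h1⟩ := hn.v s m r
    obtain ⟨s2, m2, r2, h2⟩ := hn.v' ((β⁻¹ : Fˣ) * s1) ((β⁻¹ : Fˣ) * m1) ((β⁻¹ : Fˣ) * r1)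
    refine ⟨s2, m2, r2, ?_⟩
    rw [← h2, ← h1_v1', ← h1, hg, hh]
    group
  obtain ⟨μ, hμ⟩ := B.scalar hF g hVg (fun u => hVL _ (hL.xa_mem u)) (hVL _ hL.na_mem)
  have hμ0 : μ ≠ 0 := by
    rintro rfl
    have h1 := hμ 1 0 0
    rw [zero_mul, zero_mul, B.v1_zero] at h1
    have h2 : B.v1 1 0 0 = 1 := by
      calc B.v1 1 0 0 = g * (g⁻¹ * B.v1 1 0 0 * g) * g⁻¹ := by group
        _ = 1 := by rw [h1]; group
    rw [← B.v1_zero] at h2
    exact one_ne_zero (B.v1_inj h2).1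
  set k := B.h 1 (Units.mk0 μ hμ0) with hk
  -- translation by `g`
  have hzh : ∀ w, h⁻¹ * B.zs w * h = B.zs ((β⁻¹ : Fˣ) * w) := by
    intro w
    rw [← v1_zs, ← v1_zs, hh, h1_v1', mul_zero]
  have hgt : ∀ t ∈ Q, ∀ t' ∈ Q, ∀ w, n * t * n⁻¹ = t' * B.zs w →
      g⁻¹ * t * g = t * (n⁻¹ * B.zs (w + (β⁻¹ : Fˣ) * w) * n) := by
    intro t ht t' ht' w hw
    have hth : h⁻¹ * t' = t' * h⁻¹ := by
      have := (hQ.h t' ht' 1 β).inv_right.eq
      rw [hh, this]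
    have h1 : t' = (n * t * n⁻¹) * B.zs w := by
      rw [hw, mul_assoc, B.zs_zs, mul_one]
    calc g⁻¹ * t * g = n⁻¹ * (h⁻¹ * (n * t * n⁻¹) * h) * n := by rw [hg]; group
      _ = n⁻¹ * ((h⁻¹ * t') * B.zs w * h) * n := by rw [hw]; group
      _ = n⁻¹ * (t' * (h⁻¹ * B.zs w * h)) * n := by rw [hth]; group
      _ = n⁻¹ * ((n * t * n⁻¹) * (B.zs w * B.zs ((β⁻¹ : Fˣ) * w))) * n := by
          rw [hzh, ← mul_assoc (n * t * n⁻¹), ← h1]
      _ = t * (n⁻¹ * B.zs (w + (β⁻¹ : Fˣ) * w) * n) := by rw [B.zs_add]; group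
  have hne : ∀ {w : F}, w ≠ 0 → w + (β⁻¹ : Fˣ) * w ≠ 0 := by
    intro w hw0 h1
    apply hβ
    have h2 : w = (β⁻¹ : Fˣ) * w := FieldAux.eq_of_add_eq_zero h1
    have h3 : ((β⁻¹ : Fˣ) : F) = 1 := by
      have h4 : (1 : F) * w = (β⁻¹ : Fˣ) * w := by rw [one_mul]; exact h2
      exact (mul_right_cancel₀ hw0 h4).symm
    have h4 : β⁻¹ = 1 := Units.ext h3
    exact inv_eq_one.1 h4
  -- the element `m = g k`
  have hkv : ∀ s m r, k⁻¹ * B.v1 s m r * k = B.v1 (μ⁻¹ * s) (μ⁻¹ * m) (μ⁻¹ * r) := by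
    intro s m r
    rw [hk, h1_v1']
    simp
  have hgk : ∀ s m r, (g * k)⁻¹ * B.v1 s m r * (g * k) = B.v1 s m r := by
    intro s m r
    calc (g * k)⁻¹ * B.v1 s m r * (g * k) = k⁻¹ * (g⁻¹ * B.v1 s m r * g) * k := by group
      _ = B.v1 s m r := by
        rw [hμ, hkv, inv_mul_cancel_left₀ hμ0, inv_mul_cancel_left₀ hμ0, inv_mul_cancel_left₀ hμ0]
  have hLk : ∀ l ∈ L, ∃ s m r, (g * k)⁻¹ * l * (g * k) = l * B.v1 s m r := by
    intro l hl
    obtain ⟨s, m, r, h1⟩ := hVL l hl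
    refine ⟨μ⁻¹ * s, μ⁻¹ * m, μ⁻¹ * r, ?_⟩
    have h4 := (hL.h_comm l hl (Units.mk0 μ hμ0)).eq
    rw [← hk] at h4
    have h5 : k⁻¹ * l = l * k⁻¹ := by
      calc k⁻¹ * l = k⁻¹ * (l * k) * k⁻¹ := by group
        _ = l * k⁻¹ := by rw [← h4]; group
    calc (g * k)⁻¹ * l * (g * k) = k⁻¹ * (g⁻¹ * l * g) * k := by group
      _ = (k⁻¹ * l) * B.v1 s m r * k := by rw [h1]; group
      _ = l * (k⁻¹ * B.v1 s m r * k) := by rw [h5]; group
      _ = _ := by rw [hkv]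
  have htr : ∀ t ∈ Q, ∀ t' ∈ Q, ∀ w, n * t * n⁻¹ = t' * B.zs w → ∀ m1,
      n⁻¹ * B.zs (w + (β⁻¹ : Fˣ) * w) * n = B.zs m1 → (g * k)⁻¹ * t * (g * k) = t * B.zs (μ⁻¹ * m1) := by
    intro t ht t' ht' w hw m1 hm1
    have htk : k⁻¹ * t = t * k⁻¹ := by
      have := (hQ.h t ht 1 (Units.mk0 μ hμ0)).inv_right.eq
      rw [hk, this]
    calc (g * k)⁻¹ * t * (g * k) = k⁻¹ * (g⁻¹ * t * g) * k := by group
      _ = (k⁻¹ * t) * B.zs m1 * k := by rw [hgt t ht t' ht' w hw, hm1]; group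
      _ = t * (k⁻¹ * B.zs m1 * k) := by rw [htk]; group
      _ = _ := by rw [← v1_zs, hkv, mul_zero, v1_zs]
  refine ⟨g * k, ⟨?_, fun u => hLk _ (hL.xa_mem u), fun α => hLk _ (hL.h_mem α), ?_⟩, ?_⟩
  · intro s m r
    have h1 := hgk s m r
    show g * k * B.v1 s m r = B.v1 s m r * (g * k)
    calc g * k * B.v1 s m r = g * k * ((g * k)⁻¹ * B.v1 s m r * (g * k)) := by rw [h1]
      _ = _ := by group
  · intro t ht
    obtain ⟨t', ht', w, hw⟩ := hn.tr t ht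
    obtain ⟨m1, hm1⟩ := hn.zs (w + (β⁻¹ : Fˣ) * w)
    exact ⟨_, htr t ht t' ht' w hw m1 hm1⟩
  · obtain ⟨t, ht, t', ht', w, hw0, hw⟩ := hn.ne
    obtain ⟨m1, hm1⟩ := hn.zs (w + (β⁻¹ : Fˣ) * w)
    refine ⟨t, ht, fun h0 => ?_⟩
    rw [htr t ht t' ht' w hw m1 hm1] at h0
    have h1 : B.zs (μ⁻¹ * m1) = 1 := mul_eq_left.1 h0
    have h2 : μ⁻¹ * m1 = 0 := by
      rw [← v1_zs, ← B.v1_zero] at h1
      exact (B.v1_inj h1).2.1
    have h3 : m1 = 0 := (mul_eq_zero.1 h2).resolve_left (inv_ne_zero hμ0)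
    rw [h3, B.zs_zero] at hm1
    have h4 : B.zs (w + (β⁻¹ : Fˣ) * w) = 1 := by
      calc B.zs (w + (β⁻¹ : Fˣ) * w) = n * (n⁻¹ * B.zs (w + (β⁻¹ : Fˣ) * w) * n) * n⁻¹ := by group
        _ = 1 := by rw [hm1]; group
    rw [← v1_zs, ← B.v1_zero] at h4
    exact hne hw0 (B.v1_inj h4).2.1

end Mov

variable {F G : Type*} [Field F] [CharP F 2] [Finite F] [Group G] {B : Base F G} {K Q : Subgroup G}

theorem isU_iff {g : G} : SpFourCent.IsU B g ↔ Env.IsU B g := by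
  constructor
  · rintro ⟨u, s, m, r, h⟩
    exact ⟨u, s, m, r, by rw [h, Base.v1]; group⟩
  · rintro ⟨u, s, m, r, h⟩
    exact ⟨u, s, m, r, by rw [h, Base.v1]; group⟩

/-! ### the parabolic `P₁` -/

theorem commP {t : G} (h1 : Commute t B.na) (h2 : ∀ u, Commute t (B.xa u))
    (h3 : ∀ s m r, Commute t (B.v1 s m r)) {x : G} (hx : x ∈ P1 B) : Commute x t := by
  rw [P1] at hx
  induction hx using closure_induction with
  | mem y hy =>
    rcases hy with rfl | ⟨u, rfl⟩ | ⟨s', m', r', rfl⟩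
    · exact h1.symm
    · exact (h2 u).symm
    · exact (h3 _ _ _).symm
  | one => exact Commute.one_left _
  | mul x y _ _ hx hy => exact hx.mul_left hy
  | inv x _ hx => exact hx.inv_left

theorem z1 {x : G} (hx : x ∈ P1 B) (w : F) : Commute x (B.zs w) := by
  apply commP _ _ _ hx
  · exact (show Commute B.na (B.zs w) from B.na_zs w).symm
  · exact fun u => (B.xa_zs u w).symm
  · intro s m r
    rw [← v1_zs]
    exact B.v1_comm _ _ _ _ _ _

theorem commQ (hQ : QC B Q) {t : G} (ht : t ∈ Q) {x : G} (hx : x ∈ P1 B) : Commute x t :=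
  commP (hQ.na t ht) (hQ.xa t ht) (fun s m r => QC.v1 hQ ht s m r) hx

section K

variable (hK : KCent B K)
include hK

theorem na_inv : B.na⁻¹ = B.na := inv_eq_of_mul_eq_one_right hK.na_sq

theorem P1_le : P1 B ≤ K := by
  rw [P1, closure_le]
  rintro _ (rfl | ⟨u, rfl⟩ | ⟨s, m, r, rfl⟩)
  · exact hK.na_mem
  · exact hK.xa_mem u
  · exact mul_mem (mul_mem (hK.xb_mem s) (hK.zs_mem m)) (hK.zl_mem r)

theorem isU_mem {g : G} (hg : Env.IsU B g) : g ∈ K := P1_le hK (isU_P1 hg)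

theorem conj_xma (α β : Fˣ) (u : F) : B.h α β * (B.na * B.xa u * B.na⁻¹) * (B.h α β)⁻¹ =
    B.na * B.xa ((α⁻¹ : Fˣ) * u) * B.na⁻¹ := by
  have h1 : B.h α β * B.na = B.na * B.h α⁻¹ (α ^ 2 * β) := by
    rw [B.na_h, inv_inv]; congr 2
    rw [inv_pow, inv_mul_cancel_left]
  have h2 : B.na⁻¹ * (B.h α β)⁻¹ = (B.h α⁻¹ (α ^ 2 * β))⁻¹ * B.na⁻¹ := by
    rw [← mul_inv_rev, h1, mul_inv_rev]
  calc B.h α β * (B.na * B.xa u * B.na⁻¹) * (B.h α β)⁻¹
      = (B.h α β * B.na) * B.xa u * (B.na⁻¹ * (B.h α β)⁻¹) := by group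
    _ = B.na * (B.h α⁻¹ (α ^ 2 * β) * B.xa u) * (B.h α⁻¹ (α ^ 2 * β))⁻¹ * B.na⁻¹ := by rw [h1, h2]; group
    _ = _ := by rw [B.h_xa]; group

theorem not_isU_xma {u : F} (hu : u ≠ 0) : ¬ Env.IsU B (B.na * B.xa u * B.na⁻¹) :=
  fun h => hu (hK.na_xa u (isU_iff.2 h))

theorem tor (α : Fˣ) : B.h α α⁻¹ ∈ P1 B := L1_le (hK.tor_a α)

theorem v_norm_both {x : G} (hx : x ∈ P1 B) : ∀ s m r, (∃ s' m' r', x⁻¹ * B.v1 s m r * x = B.v1 s' m' r') ∧
    ∃ s' m' r', x * B.v1 s m r * x⁻¹ = B.v1 s' m' r' := by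
  rw [P1] at hx
  induction hx using closure_induction with
  | mem y hy =>
    intro s m r
    rcases hy with rfl | ⟨u, rfl⟩ | ⟨s', m', r', rfl⟩
    · have h1 : B.na * B.v1 s m r * B.na⁻¹ = B.v1 r m s := by rw [B.na_v1]; group
      refine ⟨⟨r, m, s, ?_⟩, ⟨r, m, s, h1⟩⟩
      rw [← h1, na_inv hK]
    · have h1 : B.xa u * B.v1 s m r * (B.xa u)⁻¹ = B.v1 s (m + u * s) (r + u ^ 2 * s) := by rw [B.xa_v1]; group
      refine ⟨⟨s, m + u * s, r + u ^ 2 * s, ?_⟩, ⟨_, _, _, h1⟩⟩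
      rw [← h1, B.xa_inv]
    · have h1 : B.v1 s' m' r' * B.v1 s m r * (B.v1 s' m' r')⁻¹ = B.v1 s m r := by
        rw [(B.v1_comm s' m' r' s m r).eq]; group
      have h2 : (B.v1 s' m' r')⁻¹ * B.v1 s m r * B.v1 s' m' r' = B.v1 s m r := by
        rw [mul_assoc, (B.v1_comm s m r s' m' r').eq]; group
      exact ⟨⟨_, _, _, h2⟩, ⟨_, _, _, h1⟩⟩
  | one => intro s m r; exact ⟨⟨s, m, r, by group⟩, ⟨s, m, r, by group⟩⟩
  | mul x y _ _ hx hy =>
    intro s m r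
    obtain ⟨⟨s1, m1, r1, h1⟩, -⟩ := hx s m r
    obtain ⟨⟨s2, m2, r2, h2⟩, -⟩ := hy s1 m1 r1
    obtain ⟨-, ⟨s3, m3, r3, h3⟩⟩ := hy s m r
    obtain ⟨-, ⟨s4, m4, r4, h4⟩⟩ := hx s3 m3 r3
    refine ⟨⟨s2, m2, r2, ?_⟩, ⟨s4, m4, r4, ?_⟩⟩
    · rw [← h2, ← h1]; group
    · rw [← h4, ← h3]; group
  | inv x _ hx =>
    intro s m r
    obtain ⟨⟨s1, m1, r1, h1⟩, ⟨s2, m2, r2, h2⟩⟩ := hx s m r
    refine ⟨⟨s2, m2, r2, ?_⟩, ⟨s1, m1, r1, ?_⟩⟩
    · rw [← h2]; group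
    · rw [← h1]; group

theorem split {x : G} (hx : x ∈ P1 B) : ∃ l ∈ L1 B, ∃ s m r, x = l * B.v1 s m r := by
  rw [P1] at hx
  induction hx using closure_induction with
  | mem y hy =>
    rcases hy with rfl | ⟨u, rfl⟩ | ⟨s', m', r', rfl⟩
    · exact ⟨B.na, na_L1, 0, 0, 0, by rw [B.v1_zero, mul_one]⟩
    · exact ⟨B.xa u, xa_L1 u, 0, 0, 0, by rw [B.v1_zero, mul_one]⟩
    · exact ⟨1, one_mem _, s', m', r', by rw [one_mul]⟩
  | one => exact ⟨1, one_mem _, 0, 0, 0, by rw [B.v1_zero, mul_one]⟩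
  | mul x y _ _ hx hy =>
    obtain ⟨l, hl, s, m, r, rfl⟩ := hx
    obtain ⟨l', hl', s', m', r', rfl⟩ := hy
    obtain ⟨⟨s1, m1, r1, h1⟩, -⟩ := v_norm_both hK (L1_le hl') s m r
    refine ⟨l * l', mul_mem hl hl', s1 + s', m1 + m', r1 + r', ?_⟩
    rw [← B.v1_mul, ← h1]; group
  | inv x _ hx =>
    obtain ⟨l, hl, s, m, r, rfl⟩ := hx
    obtain ⟨-, ⟨s1, m1, r1, h1⟩⟩ := v_norm_both hK (L1_le hl) s m r
    refine ⟨l⁻¹, inv_mem hl, s1, m1, r1, ?_⟩
    rw [← h1, mul_inv_rev, B.v1_inv]; group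

theorem perf1 (hF : 4 ≤ Nat.card F) : ⁅P1 B, P1 B⁆ = P1 B := by
  have := Fintype.ofFinite F
  rw [Nat.card_eq_fintype_card] at hF
  obtain ⟨α, hα⟩ := Base.exists_unit_ne hF
  have hα' : ((α : F) + 1) ≠ 0 := by
    intro h
    exact hα (Units.ext (by rw [Units.val_one]; exact FieldAux.eq_of_add_eq_zero h))
  have hβ' : (((α⁻¹ : Fˣ) : F) + 1) ≠ 0 := by
    intro h
    have h1 : ((α⁻¹ : Fˣ) : F) = 1 := FieldAux.eq_of_add_eq_zero h
    have h2 : α⁻¹ = 1 := Units.ext (by rw [h1, Units.val_one])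
    exact hα (inv_eq_one.1 h2)
  have hh : B.h α α⁻¹ ∈ P1 B := tor hK α
  apply le_antisymm (comm_le _)
  set C := ⁅P1 B, P1 B⁆ with hC
  have hxa : ∀ u, B.xa u ∈ C := by
    intro u
    have h1 : ⁅B.h α α⁻¹, B.xa (((α : F) + 1)⁻¹ * u)⁆ = B.xa u := by
      rw [commutatorElement_def, B.h_xa, B.xa_inv]
      have : B.xa (α * (((α : F) + 1)⁻¹ * u)) * B.xa (((α : F) + 1)⁻¹ * u) = B.xa u := by
        rw [← B.xa_add]; congr 1
        field_simp
      rw [← this]; group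
    rw [← h1]
    exact commutator_mem_commutator hh (xa_P1 _)
  have hxb : ∀ u, B.xb u ∈ C := by
    intro u
    have h1 : ⁅B.h α α⁻¹, B.v1 ((((α⁻¹ : Fˣ) : F) + 1)⁻¹ * u) 0 0⁆ = B.xb u := by
      rw [commutatorElement_def, Base.v1_xb, B.h_xb, B.xb_inv]
      have : B.xb ((α⁻¹ : Fˣ) * ((((α⁻¹ : Fˣ) : F) + 1)⁻¹ * u)) * B.xb ((((α⁻¹ : Fˣ) : F) + 1)⁻¹ * u) = B.xb u := by
        rw [← B.xb_add]; congr 1
        field_simp
      rw [← this]; group
    rw [← h1]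
    exact commutator_mem_commutator hh (v1_P1 _ _ _)
  have hzl : ∀ u, B.zl u ∈ C := by
    intro u
    have h1 : B.na * B.xb u * B.na⁻¹ = B.zl u := by rw [B.na_xb]; group
    rw [← h1]
    exact conj_comm na_P1 (hxb u)
  have hzs : ∀ u, B.zs u ∈ C := by
    intro u
    have h1 : B.zs u = (B.xb u * B.xa 1)⁻¹ * (B.xa 1 * B.xb u) * (B.zl u)⁻¹ := by
      rw [B.xa_xb, one_mul, one_pow, one_mul]; group
    rw [h1]
    exact mul_mem (mul_mem (inv_mem (mul_mem (hxb u) (hxa 1))) (mul_mem (hxa 1) (hxb u))) (inv_mem (hzl u))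
  rw [P1, closure_le]
  rintro _ (rfl | ⟨u, rfl⟩ | ⟨s, m, r, rfl⟩)
  · show B.na ∈ C
    rw [hK.na_eq]
    exact mul_mem (mul_mem (hxa 1) (conj_comm (P := P1 B) na_P1 (hxa 1))) (hxa 1)
  · exact hxa u
  · exact mul_mem (mul_mem (hxb s) (hzs m)) (hzl r)

theorem conj_h {x : G} (hx : x ∈ P1 B) (α β : Fˣ) : B.h α β * x * (B.h α β)⁻¹ ∈ P1 B := by
  rw [P1] at hx
  induction hx using closure_induction with
  | mem y hy =>
    rcases hy with rfl | ⟨u, rfl⟩ | ⟨s', m', r', rfl⟩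
    · have h1 : B.h α β * B.na * (B.h α β)⁻¹ = B.h (α ^ 2) (α ^ 2)⁻¹ * B.na := by
        rw [B.h_inv, mul_assoc, B.na_h, ← mul_assoc, ← B.h_mul]
        congr 2
        · rw [inv_inv, sq]
        · rw [inv_pow, mul_comm (α ^ 2)⁻¹, mul_inv_cancel_left]
      rw [h1]
      exact mul_mem (tor hK _) na_P1
    · have h1 : B.h α β * B.xa u * (B.h α β)⁻¹ = B.xa (α * u) := by rw [B.h_xa]; group
      rw [h1]; exact xa_P1 _
    · have h1 : B.h α β * B.v1 s' m' r' * (B.h α β)⁻¹ = B.v1 (β * s') (α * β * m') (α ^ 2 * β * r') := by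
        rw [B.h_v1]; group
      rw [h1]; exact v1_P1 _ _ _
  | one => rw [mul_one, mul_inv_cancel]; exact one_mem _
  | mul x y _ _ hx hy =>
    have h1 : B.h α β * (x * y) * (B.h α β)⁻¹ = (B.h α β * x * (B.h α β)⁻¹) * (B.h α β * y * (B.h α β)⁻¹) := by group
    rw [h1]; exact mul_mem hx hy
  | inv x _ hx =>
    have h1 : B.h α β * x⁻¹ * (B.h α β)⁻¹ = (B.h α β * x * (B.h α β)⁻¹)⁻¹ := by group
    rw [h1]; exact inv_mem hx

/-- the centralisers in `K` of elements of `Z_s` -/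
theorem cent_s {g : G} (hg : g ∈ K) {w : F} (hw : w ≠ 0) (hc : Commute g (B.zs w)) :
    (∃ v, Env.IsU B v ∧ ∃ α : Fˣ, g = v * B.h α α⁻¹) ∨
      ∃ v, Env.IsU B v ∧ ∃ α : Fˣ, ∃ c, g = v * B.h α α⁻¹ * B.na * B.xa c := by
  rcases hK.cent_s g hg w hw hc with ⟨v, hv, α, h⟩ | ⟨v, hv, α, c, h⟩
  · exact Or.inl ⟨v, isU_iff.1 hv, α, h⟩
  · exact Or.inr ⟨v, isU_iff.1 hv, α, c, h⟩

theorem cent_s_mem {g : G} (hg : g ∈ K) {w : F} (hw : w ≠ 0) (hc : Commute g (B.zs w)) : g ∈ P1 B := by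
  rcases cent_s hK hg hw hc with ⟨v, hv, α, h⟩ | ⟨v, hv, α, c, h⟩
  · rw [h]; exact mul_mem (isU_P1 hv) (tor hK α)
  · rw [h]; exact mul_mem (mul_mem (mul_mem (isU_P1 hv) (tor hK α)) na_P1) (xa_P1 c)

/-- `C_{P₁}(P₁) = Z_s` -/
theorem center1 {x : G} (hx : x ∈ P1 B) (hc : ∀ y ∈ P1 B, Commute x y) : ∃ m, x = B.zs m := by
  have h1 : ∃ s m r, x = B.v1 s m r := by
    have aux : ∀ (u s m r : F) (α : Fˣ), B.xa u * B.v1 s m r * B.v1 ((α⁻¹ : Fˣ) : F) 0 0 =
        B.v1 ((α⁻¹ : Fˣ) : F) (u * ((α⁻¹ : Fˣ) : F)) (u ^ 2 * ((α⁻¹ : Fˣ) : F)) * (B.xa u * B.v1 s m r) := by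
      intro u s m r α
      calc B.xa u * B.v1 s m r * B.v1 ((α⁻¹ : Fˣ) : F) 0 0
          = B.xa u * (B.v1 s m r * B.v1 ((α⁻¹ : Fˣ) : F) 0 0) := by group
        _ = B.xa u * B.v1 ((α⁻¹ : Fˣ) : F) 0 0 * B.v1 s m r := by
            rw [(B.v1_comm s m r _ _ _).eq]; group
        _ = _ := by rw [B.xa_v1, zero_add, zero_add]; group
    rcases cent_s hK (P1_le hK hx) one_ne_zero (z1 hx 1) with ⟨v, ⟨u, s, m, r, rfl⟩, α, h⟩ |
      ⟨v, ⟨u, s, m, r, rfl⟩, α, c, h⟩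
    · have h2 := (hc _ (v1_P1 1 0 0)).eq
      have h3 : x * B.v1 1 0 0 =
          B.v1 ((α⁻¹ : Fˣ) : F) (u * ((α⁻¹ : Fˣ) : F)) (u ^ 2 * ((α⁻¹ : Fˣ) : F)) * x := by
        calc x * B.v1 1 0 0 = B.xa u * B.v1 s m r * (B.h α α⁻¹ * B.v1 1 0 0) := by rw [h]; group
          _ = B.xa u * B.v1 s m r * B.v1 ((α⁻¹ : Fˣ) : F) 0 0 * B.h α α⁻¹ := by
              rw [B.h_v1, mul_one, mul_zero, mul_zero]; group
          _ = _ := by rw [aux, h]; group
      rw [h3] at h2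
      obtain ⟨h4, h5, -⟩ := B.v1_inj (mul_right_cancel h2)
      have h6 : α⁻¹ = 1 := Units.ext (by rw [h4, Units.val_one])
      have h7 : α = 1 := inv_eq_one.1 h6
      have h8 : u = 0 := by rwa [h4, mul_one] at h5
      refine ⟨s, m, r, ?_⟩
      rw [h, h7, h8, inv_one, B.h_one, B.xa_zero, one_mul, mul_one]
    · exfalso
      have h2 := (hc _ (v1_P1 0 0 1)).eq
      have h3 : x * B.v1 0 0 1 =
          B.v1 ((α⁻¹ : Fˣ) : F) (u * ((α⁻¹ : Fˣ) : F)) (u ^ 2 * ((α⁻¹ : Fˣ) : F)) * x := by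
        calc x * B.v1 0 0 1 = B.xa u * B.v1 s m r * B.h α α⁻¹ * B.na * (B.xa c * B.v1 0 0 1) := by rw [h]; group
          _ = B.xa u * B.v1 s m r * B.h α α⁻¹ * (B.na * B.v1 0 0 1) * B.xa c := by
              rw [B.xa_v1 c 0 0 1, mul_zero, mul_zero, add_zero, add_zero]; group
          _ = B.xa u * B.v1 s m r * (B.h α α⁻¹ * B.v1 1 0 0) * B.na * B.xa c := by rw [B.na_v1]; group
          _ = B.xa u * B.v1 s m r * B.v1 ((α⁻¹ : Fˣ) : F) 0 0 * B.h α α⁻¹ * B.na * B.xa c := by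
              rw [B.h_v1, mul_one, mul_zero, mul_zero]; group
          _ = _ := by rw [aux, h]; group
      rw [h3] at h2
      exact (Units.ne_zero α⁻¹) (B.v1_inj (mul_right_cancel h2)).1
  obtain ⟨s, m, r, rfl⟩ := h1
  have h2 := (hc _ (xa_P1 1)).eq
  rw [B.xa_v1, one_mul, one_pow, one_mul] at h2
  have h2' : B.v1 s m r * B.xa 1 = B.v1 s (m + s) (r + s) * B.xa 1 := h2
  have h3 := (B.v1_inj (mul_right_cancel h2')).2.1
  have hs : s = 0 := by
    have h4 : m + 0 = m + s := by rw [add_zero]; exact h3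
    exact (add_left_cancel h4).symm
  have h4 := (hc _ na_P1).eq
  rw [B.na_v1] at h4
  have h5 := (B.v1_inj (mul_right_cancel h4)).1
  rw [hs] at h5
  refine ⟨m, ?_⟩
  rw [hs, ← h5, Base.v1_zs]

end K

/-- `U` as a subgroup -/
def USub (B : Base F G) : Subgroup G where
  carrier := {x | Env.IsU B x}
  mul_mem' := fun hx hy => Env.IsU.mul hx hy
  one_mem' := Env.IsU.one
  inv_mem' := fun hx => Env.IsU.inv hx

theorem isU_pow {u : G} (hu : Env.IsU B u) : u * u * (u * u) = 1 := by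
  obtain ⟨u, s, m, r, rfl⟩ := hu
  have h3 : B.xa u * B.v1 s m r * (B.xa u * B.v1 s m r) = B.v1 0 (u * s) (u ^ 2 * s) := by
    calc B.xa u * B.v1 s m r * (B.xa u * B.v1 s m r) = B.xa u * (B.v1 s m r * B.xa u) * B.v1 s m r := by group
      _ = (B.xa u * B.xa u) * (B.v1 s (m + u * s) (r + u ^ 2 * s) * B.v1 s m r) := by rw [v1_xa]; group
      _ = _ := by
        rw [B.xa_xa, B.v1_mul, one_mul]
        congr 1
        · exact CharTwo.add_self_eq_zero s
        · rw [add_comm m, add_assoc, CharTwo.add_self_eq_zero, add_zero]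
        · rw [add_comm r, add_assoc, CharTwo.add_self_eq_zero, add_zero]
  rw [h3, B.v1_v1]

/-- `Z(U) = Z` -/
theorem centerU {x : G} (hx : Env.IsU B x) (hc : ∀ y, Env.IsU B y → Commute x y) :
    ∃ m r, x = B.zs m * B.zl r := by
  obtain ⟨u, s, m, r, rfl⟩ := hx
  have h1 := (hc _ (Env.IsU.v1 1 0 0)).eq
  have h2 : B.xa u * B.v1 s m r * B.v1 1 0 0 = B.v1 1 u (u ^ 2) * (B.xa u * B.v1 s m r) := by
    calc B.xa u * B.v1 s m r * B.v1 1 0 0 = B.xa u * (B.v1 s m r * B.v1 1 0 0) := by group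
      _ = B.xa u * B.v1 1 0 0 * B.v1 s m r := by rw [(B.v1_comm s m r _ _ _).eq]; group
      _ = _ := by rw [B.xa_v1, zero_add, zero_add, mul_one, mul_one]; group
  rw [h2] at h1
  have hu : u = 0 := (B.v1_inj (mul_right_cancel h1)).2.1
  subst hu
  have h3 := (hc _ (Env.IsU.xa 1)).eq
  rw [B.xa_zero, one_mul, B.xa_v1, one_mul, one_pow, one_mul] at h3
  have h4 := (B.v1_inj (mul_right_cancel h3)).2.1
  have hs : s = 0 := by
    have h5 : m + 0 = m + s := by rw [add_zero]; exact h4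
    exact (add_left_cancel h5).symm
  refine ⟨m, r, ?_⟩
  rw [hs, B.xa_zero, one_mul, Base.v1, B.xb_zero, one_mul]

section Fin

variable [Finite G] (hK : KCent B K)
include hK

theorem syl_conj {P : Subgroup G} (hP : P ≤ K) (h2 : ∀ x ∈ P, ∃ k : ℕ, x ^ 2 ^ k = 1) :
    ∃ k ∈ K, ∀ x ∈ P, Env.IsU B (k * x * k⁻¹) := by
  obtain ⟨k, hk, h⟩ := hK.syl P hP (fun ⟨x, hx⟩ => by
    obtain ⟨k, hk⟩ := h2 x hx
    exact ⟨k, by ext; simpa using hk⟩)
  exact ⟨k, hk, fun x hx => isU_iff.1 (h x hx)⟩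

theorem sylU {P : Subgroup G} (hP : P ≤ K) (h2 : ∀ x ∈ P, ∃ k : ℕ, x ^ 2 ^ k = 1)
    (hU : ∀ u, Env.IsU B u → u ∈ P) {x : G} (hx : x ∈ P) : Env.IsU B x := by
  obtain ⟨k, -, h⟩ := syl_conj hK hP h2
  have h1 : USub B ≤ P := fun x hx => hU x hx
  have h3 : P ≤ MulAut.conj k⁻¹ • USub B := by
    intro x hx
    rw [PFacts.conj_mem_iff, inv_inv]
    exact h x hx
  have h4 : Nat.card (MulAut.conj k⁻¹ • USub B : Subgroup G) = Nat.card (USub B) :=
    (Nat.card_congr (Subgroup.equivSMul (MulAut.conj k⁻¹) (USub B)).toEquiv).symm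
  have h5 : USub B = P := Subgroup.eq_of_le_of_card_ge h1 (by
    rw [← h4]; exact Subgroup.card_le_of_le h3)
  rw [← h5] at hx
  exact hx

theorem o2 (W : Subgroup G) (hWP : W ≤ P1 B) (hn : ∀ x ∈ P1 B, ∀ y ∈ W, x⁻¹ * y * x ∈ W)
    (h2 : ∀ y ∈ W, ∃ k : ℕ, y ^ 2 ^ k = 1) : ∀ y ∈ W, ∃ s m r, y = B.v1 s m r := by
  have hn' : ∀ x ∈ P1 B, ∀ y ∈ W, x * y * x⁻¹ ∈ W := by
    intro x hx y hy
    have := hn x⁻¹ (inv_mem hx) y hy
    rwa [inv_inv] at this
  let R : Subgroup G :=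
    { carrier := {x | ∃ y ∈ W, ∃ u, Env.IsU B u ∧ x = y * u}
      mul_mem' := by
        rintro _ _ ⟨y, hy, u, hu, rfl⟩ ⟨y', hy', u', hu', rfl⟩
        refine ⟨y * (u * y' * u⁻¹), mul_mem hy (hn' u (isU_P1 hu) y' hy'), u * u', hu.mul hu', ?_⟩
        group
      one_mem' := ⟨1, one_mem _, 1, Env.IsU.one, by group⟩
      inv_mem' := by
        rintro _ ⟨y, hy, u, hu, rfl⟩
        refine ⟨u⁻¹ * y⁻¹ * u, hn u (isU_P1 hu) _ (inv_mem hy), u⁻¹, hu.inv, ?_⟩
        group }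
  have hQ2 : ∀ x ∈ R, ∃ k : ℕ, x ^ 2 ^ k = 1 := by
    rintro _ ⟨y, hy, u, hu, rfl⟩
    have h3 : ∃ y' ∈ W, (y * u) ^ 4 = y' := by
      refine ⟨y * (u * y * u⁻¹) * ((u * u) * (y * (u * y * u⁻¹)) * (u * u)⁻¹), ?_, ?_⟩
      · have h4 : y * (u * y * u⁻¹) ∈ W := mul_mem hy (hn' u (isU_P1 hu) y hy)
        exact mul_mem h4 (hn' _ (isU_P1 (hu.mul hu)) _ h4)
      · have h5 := isU_pow hu
        calc (y * u) ^ 4 = y * (u * y * u⁻¹) * ((u * u) * (y * (u * y * u⁻¹)) * (u * u)⁻¹) * (u * u * (u * u)) := by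
              rw [pow_succ, pow_succ, pow_succ, pow_one]; group
          _ = _ := by rw [h5, mul_one]
    obtain ⟨y', hy', h4⟩ := h3
    obtain ⟨k, hk⟩ := h2 y' hy'
    refine ⟨2 + k, ?_⟩
    rw [pow_add, pow_mul, show (2 : ℕ) ^ 2 = 4 by norm_num, h4, hk]
  have hQA : R ≤ K := by
    rintro _ ⟨y, hy, u, hu, rfl⟩
    exact mul_mem (P1_le hK (hWP hy)) (isU_mem hK hu)
  have hQU : ∀ x ∈ R, Env.IsU B x := fun x hx => sylU hK hQA hQ2 (fun u hu => ⟨1, one_mem _, u, hu, by group⟩) hx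
  have hWU : ∀ y ∈ W, Env.IsU B y := fun y hy => hQU y ⟨y, hy, 1, Env.IsU.one, by group⟩
  intro y hy
  obtain ⟨u, s, m, r, h⟩ := hWU y hy
  have h3 : u = 0 := by
    by_contra hu
    apply not_isU_xma hK hu
    have h4 : Env.IsU B (B.na * y * B.na⁻¹) := hWU _ (hn' _ na_P1 y hy)
    have h5 : B.na * y * B.na⁻¹ = (B.na * B.xa u * B.na⁻¹) * B.v1 r m s := by
      have h6 : B.na * B.v1 s m r * B.na⁻¹ = B.v1 r m s := by rw [B.na_v1]; group
      rw [h, ← h6]; group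
    rw [h5] at h4
    exact EnvFacts.isU_of_mul_right (Env.IsU.v1 _ _ _) h4
  exact ⟨s, m, r, by rw [h, h3, B.xa_zero, one_mul]⟩

theorem leviSet : B.LeviSet (closure ({B.na} ∪ Set.range B.xa : Set G) : Set G) where
  xa_mem := xa_L1
  na_mem := na_L1
  h_mem := hK.tor_a
  t_comm := fun l hl => (commP B.t_na B.t_xa B.t_v1 (L1_le hl)).symm
  h_comm := by
    intro l hl β
    change l ∈ closure ({B.na} ∪ Set.range B.xa : Set G) at hl
    induction hl using closure_induction with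
    | mem y hy =>
      rcases hy with rfl | ⟨u, rfl⟩
      · show B.h 1 β * B.na = B.na * B.h 1 β
        rw [B.na_h, inv_one, one_pow, one_mul]
      · show B.h 1 β * B.xa u = B.xa u * B.h 1 β
        rw [B.h_xa, Units.val_one, one_mul]
    | one => exact Commute.one_right _
    | mul x y _ _ hx hy => exact hx.mul_right hy
    | inv x _ hx => exact hx.inv_right
  norm := fun l hl s m r => (v_norm_both hK (L1_le hl) s m r).1

/-- `n` normalises `P1`: then it is a mover as soon as it moves `Q` inside `Q Z_s`. -/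
theorem mover_of_norm {n : G} (hn : ∀ x, n⁻¹ * x * n ∈ P1 B ↔ x ∈ P1 B)
    (h1 : ∀ t ∈ Q, ∃ t' ∈ Q, ∃ w, n * t * n⁻¹ = t' * B.zs w)
    (h2 : ∃ t ∈ Q, ∃ t' ∈ Q, ∃ w, w ≠ 0 ∧ n * t * n⁻¹ = t' * B.zs w) :
    MoverQ B Q (closure ({B.na} ∪ Set.range B.xa : Set G) : Set G) n := by
  have hn' : ∀ x, n * x * n⁻¹ ∈ P1 B ↔ x ∈ P1 B := by
    intro x
    rw [← hn (n * x * n⁻¹)]
    rw [show n⁻¹ * (n * x * n⁻¹) * n = x by group]
  have hcomm : ∀ {x y : G}, Commute x y → Commute (n⁻¹ * x * n) (n⁻¹ * y * n) := by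
    intro x y h
    show n⁻¹ * x * n * (n⁻¹ * y * n) = n⁻¹ * y * n * (n⁻¹ * x * n)
    calc n⁻¹ * x * n * (n⁻¹ * y * n) = n⁻¹ * (x * y) * n := by group
      _ = _ := by rw [h.eq]; group
  have hzs : ∀ m, ∃ m', n⁻¹ * B.zs m * n = B.zs m' := by
    intro m
    refine center1 hK ((hn _).2 (by rw [← v1_zs]; exact v1_P1 _ _ _)) ?_
    intro y hy
    have h1 : y = n⁻¹ * (n * y * n⁻¹) * n := by group
    rw [h1]
    exact hcomm (z1 ((hn' y).2 hy) m).symm
  have hv' : ∀ s m r, ∃ s' m' r', n⁻¹ * B.v1 s m r * n = B.v1 s' m' r' := by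
    intro s m r
    -- the conjugate of `V₁`
    let V : Subgroup G :=
      { carrier := {x | ∃ s m r, x = n⁻¹ * B.v1 s m r * n}
        mul_mem' := by
          rintro _ _ ⟨s, m, r, rfl⟩ ⟨s', m', r', rfl⟩
          exact ⟨s + s', m + m', r + r', by rw [← B.v1_mul]; group⟩
        one_mem' := ⟨0, 0, 0, by rw [B.v1_zero]; group⟩
        inv_mem' := by
          rintro _ ⟨s, m, r, rfl⟩
          refine ⟨s, m, r, ?_⟩
          nth_rw 2 [← B.v1_inv]
          group }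
    refine o2 hK V ?_ ?_ ?_ _ ⟨s, m, r, rfl⟩
    · rintro _ ⟨s, m, r, rfl⟩
      exact (hn _).2 (v1_P1 s m r)
    · rintro x hx _ ⟨s, m, r, rfl⟩
      obtain ⟨s', m', r', h⟩ := (v_norm_both hK ((hn' x).2 hx) s m r).1
      refine ⟨s', m', r', ?_⟩
      rw [← h]; group
    · rintro _ ⟨s, m, r, rfl⟩
      refine ⟨1, ?_⟩
      rw [pow_one, sq]
      calc n⁻¹ * B.v1 s m r * n * (n⁻¹ * B.v1 s m r * n) = n⁻¹ * (B.v1 s m r * B.v1 s m r) * n := by group
        _ = 1 := by rw [B.v1_v1]; group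
  have hv : ∀ s m r, ∃ s' m' r', n * B.v1 s m r * n⁻¹ = B.v1 s' m' r' := by
    intro s m r
    let V : Subgroup G :=
      { carrier := {x | ∃ s m r, x = n * B.v1 s m r * n⁻¹}
        mul_mem' := by
          rintro _ _ ⟨s, m, r, rfl⟩ ⟨s', m', r', rfl⟩
          exact ⟨s + s', m + m', r + r', by rw [← B.v1_mul]; group⟩
        one_mem' := ⟨0, 0, 0, by rw [B.v1_zero]; group⟩
        inv_mem' := by
          rintro _ ⟨s, m, r, rfl⟩
          refine ⟨s, m, r, ?_⟩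
          nth_rw 2 [← B.v1_inv]
          group }
    refine o2 hK V ?_ ?_ ?_ _ ⟨s, m, r, rfl⟩
    · rintro _ ⟨s, m, r, rfl⟩
      exact (hn' _).2 (v1_P1 s m r)
    · rintro x hx _ ⟨s, m, r, rfl⟩
      obtain ⟨s', m', r', h⟩ := (v_norm_both hK ((hn x).2 hx) s m r).1
      refine ⟨s', m', r', ?_⟩
      rw [← h]; group
    · rintro _ ⟨s, m, r, rfl⟩
      refine ⟨1, ?_⟩
      rw [pow_one, sq]
      calc n * B.v1 s m r * n⁻¹ * (n * B.v1 s m r * n⁻¹) = n * (B.v1 s m r * B.v1 s m r) * n⁻¹ := by group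
        _ = 1 := by rw [B.v1_v1]; group
  refine ⟨h1, h2, hzs, hv, hv', ?_⟩
  intro l hl
  exact split hK ((hn' l).2 (L1_le hl))

omit [Finite G] in
/-- A perfect subgroup of `P₁` containing `U` properly is `P₁`. -/
theorem P1_le_of_perfect {Y : Subgroup G} (hY : Y ≤ P1 B) (hp : ⁅Y, Y⁆ = Y) (hU : ∀ u, Env.IsU B u → u ∈ Y)
    (hne : ¬ ∀ y ∈ Y, Env.IsU B y) : P1 B ≤ Y := by
  have hform : ∀ y ∈ Y, (∃ v, Env.IsU B v ∧ ∃ α : Fˣ, y = v * B.h α α⁻¹) ∨
      ∃ v, Env.IsU B v ∧ ∃ α : Fˣ, ∃ c, y = v * B.h α α⁻¹ * B.na * B.xa c :=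
    fun y hy => cent_s hK (P1_le hK (hY hy)) one_ne_zero (z1 (hY hy) 1)
  have hex : ∃ y ∈ Y, ∃ v, Env.IsU B v ∧ ∃ α : Fˣ, ∃ c, y = v * B.h α α⁻¹ * B.na * B.xa c := by
    by_contra hcon
    push Not at hcon
    apply hne
    have hall : ∀ y ∈ Y, ∃ v, Env.IsU B v ∧ ∃ α : Fˣ, y = v * B.h α α⁻¹ := by
      intro y hy
      rcases hform y hy with h | ⟨v, hv, α, c, h⟩
      · exact h
      · exact (hcon y hy v hv α c h).elim
    have hle : Y ≤ USub B := by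
      rw [← hp, commutator_le]
      intro x hx y hy
      obtain ⟨v, hv, α, rfl⟩ := hall x hx
      obtain ⟨v', hv', α', rfl⟩ := hall y hy
      have e : ⁅v * B.h α α⁻¹, v' * B.h α' α'⁻¹⁆ = v * (B.h α α⁻¹ * v' * (B.h α α⁻¹)⁻¹) *
          (B.h α' α'⁻¹ * v⁻¹ * (B.h α' α'⁻¹)⁻¹) * v'⁻¹ := by
        have h1 := (B.h_comm α α⁻¹ α' α'⁻¹).eq
        rw [commutatorElement_def]
        calc v * B.h α α⁻¹ * (v' * B.h α' α'⁻¹) * (v * B.h α α⁻¹)⁻¹ * (v' * B.h α' α'⁻¹)⁻¹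
            = v * (B.h α α⁻¹ * v' * (B.h α α⁻¹)⁻¹) * (B.h α α⁻¹ * B.h α' α'⁻¹) * (B.h α α⁻¹)⁻¹ * v⁻¹ *
              (B.h α' α'⁻¹)⁻¹ * v'⁻¹ := by group
          _ = _ := by rw [h1]; group
      show Env.IsU B _
      rw [e]
      exact ((hv.mul (hv'.conj_h _ _)).mul (hv.inv.conj_h _ _)).mul hv'.inv
    exact fun y hy => hle hy
  obtain ⟨y, hy, v, hv, α, c, h⟩ := hex
  have he : B.h α α⁻¹ * B.na ∈ Y := by
    have h1 : B.h α α⁻¹ * B.na = v⁻¹ * y * (B.xa c)⁻¹ := by rw [h]; group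
    rw [h1]
    exact mul_mem (mul_mem (inv_mem (hU v hv)) hy) (inv_mem (hU _ (Env.IsU.xa c)))
  have hna : B.na * B.xa 1 * B.na⁻¹ ∈ Y := by
    have h1 := conj_xma hK α α⁻¹ (α : F)
    rw [← Units.val_mul, inv_mul_cancel, Units.val_one] at h1
    rw [← h1]
    have h2 : B.h α α⁻¹ * (B.na * B.xa α * B.na⁻¹) * (B.h α α⁻¹)⁻¹ =
      (B.h α α⁻¹ * B.na) * B.xa α * (B.h α α⁻¹ * B.na)⁻¹ := by group
    rw [h2]
    exact mul_mem (mul_mem he (hU _ (Env.IsU.xa _))) (inv_mem he)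
  rw [P1, closure_le]
  rintro _ (rfl | ⟨u, rfl⟩ | ⟨s, m, r, rfl⟩)
  · show B.na ∈ Y
    rw [hK.na_eq]
    exact mul_mem (mul_mem (hU _ (Env.IsU.xa 1)) hna) (hU _ (Env.IsU.xa 1))
  · exact hU _ (Env.IsU.xa u)
  · exact hU _ (Env.IsU.v1 _ _ _)

end Fin


/-- elements of `K` commute with `Q` -/
theorem commK (hK : KBase B K) (hQ : QC B Q) {t : G} (ht : t ∈ Q) {x : G} (hx : x ∈ K) : Commute x t := by
  have h1 := hK.gen hx
  clear hx
  induction h1 using closure_induction with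
  | mem y hy =>
    rcases hy with (rfl | rfl) | ⟨u, rfl⟩ | ⟨u, rfl⟩
    · exact (hQ.na t ht).symm
    · exact (hQ.nb t ht).symm
    · exact (hQ.xa t ht u).symm
    · exact (hQ.xb t ht u).symm
  | one => exact Commute.one_left _
  | mul x y _ _ hx hy => exact hx.mul_left hy
  | inv x _ hx => exact hx.inv_left

/-- the conjugates of `P₁` are generated by involutions. -/
theorem P1_gen (hK : KCent B K) (g : G) : MulAut.conj g⁻¹ • P1 B ≤
    closure {x | x ∈ MulAut.conj g⁻¹ • P1 B ∧ ∃ k : ℕ, x ^ 2 ^ k = 1} := by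
  have hmem : ∀ {x : G}, x ∈ P1 B → g⁻¹ * x * g ∈ MulAut.conj g⁻¹ • P1 B := by
    intro x hx
    rw [PFacts.conj_mem_iff, inv_inv, show g * (g⁻¹ * x * g) * g⁻¹ = x by group]
    exact hx
  have hinv : ∀ z, z ∈ P1 B → z * z = 1 → g⁻¹ * z * g ∈
      closure {x | x ∈ MulAut.conj g⁻¹ • P1 B ∧ ∃ k : ℕ, x ^ 2 ^ k = 1} := by
    intro z hz hzz
    refine subset_closure ⟨hmem hz, 1, ?_⟩
    rw [pow_one, sq]
    calc g⁻¹ * z * g * (g⁻¹ * z * g) = g⁻¹ * (z * z) * g := by group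
      _ = 1 := by rw [hzz]; group
  have key : ∀ y ∈ P1 B, g⁻¹ * y * g ∈
      closure {x | x ∈ MulAut.conj g⁻¹ • P1 B ∧ ∃ k : ℕ, x ^ 2 ^ k = 1} := by
    intro y hy
    rw [P1] at hy
    induction hy using closure_induction with
    | mem y hy =>
      rcases hy with rfl | ⟨u, rfl⟩ | ⟨s', m', r', rfl⟩
      · exact hinv _ na_P1 hK.na_sq
      · exact hinv _ (xa_P1 u) (B.xa_xa u)
      · exact hinv _ (v1_P1 _ _ _) (B.v1_v1 _ _ _)
    | one => rw [mul_one, inv_mul_cancel]; exact one_mem _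
    | mul x y _ _ hx hy =>
      rw [show g⁻¹ * (x * y) * g = (g⁻¹ * x * g) * (g⁻¹ * y * g) by group]
      exact mul_mem hx hy
    | inv x _ hx =>
      rw [show g⁻¹ * x⁻¹ * g = (g⁻¹ * x * g)⁻¹ by group]
      exact inv_mem hx
  intro x hx
  rw [PFacts.conj_mem_iff, inv_inv] at hx
  have h2 := key _ hx
  rwa [show g⁻¹ * (g * x * g⁻¹) * g = x by group] at h2

theorem zs_inj {w w' : F} (h : B.zs w = B.zs w') : w = w' := by
  rw [← v1_zs, ← v1_zs] at h
  exact (B.v1_inj h).2.1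

theorem zl_inj {w w' : F} (h : B.zl w = B.zl w') : w = w' := by
  rw [← v1_zl, ← v1_zl] at h
  exact (B.v1_inj h).2.2

/-- **[S4]** -/
theorem exists_n4 [Finite G] [Fintype F] (hF : 4 ≤ Fintype.card F) (hK : KCent B K) (hQ : QC B Q)
    (hM : MaxK K Q) {g : G} (hg : RootS B Q g) : ∃ m, IsN4Q B Q m ∧ ∃ t ∈ Q, m⁻¹ * t * m ≠ t := by
  have hF' : 4 ≤ Nat.card F := by rwa [Nat.card_eq_fintype_card]
  have hQinv : ∀ {t : G}, t ∈ Q → t⁻¹ = t := fun ht => QC.inv hQ ht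
  -- `g⁻¹ P₁ g ≤ K`
  have hX : ∀ x ∈ P1 B, g⁻¹ * x * g ∈ K := by
    have h1 : MulAut.conj g⁻¹ • P1 B ≤ K := by
      apply hM _ (PFacts.perf_conj (perf1 hK hF')) (P1_gen hK g)
      intro x hx t ht
      rw [PFacts.conj_mem_iff, inv_inv] at hx
      obtain ⟨t', ht', w, hw⟩ := hg.le t ht
      have h2 : Commute (g * x * g⁻¹) (g * t * g⁻¹) := by
        rw [hw]
        exact (commQ hQ ht' hx).mul_right (z1 hx w)
      show x * t = t * x
      calc x * t = g⁻¹ * (g * x * g⁻¹ * (g * t * g⁻¹)) * g := by group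
        _ = _ := by rw [h2.eq]; group
    intro x hx
    apply h1
    rw [PFacts.conj_mem_iff, inv_inv, show g * (g⁻¹ * x * g) * g⁻¹ = x by group]
    exact hx
  -- normalise `U`
  obtain ⟨k, hkK, hk⟩ := syl_conj hK (P := MulAut.conj g⁻¹ • USub B) (by
    intro x hx
    rw [PFacts.conj_mem_iff, inv_inv] at hx
    have h1 := hX _ (isU_P1 hx)
    rwa [show g⁻¹ * (g * x * g⁻¹) * g = x by group] at h1) (by
    intro x hx
    rw [PFacts.conj_mem_iff, inv_inv] at hx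
    refine ⟨2, ?_⟩
    have h1 := isU_pow hx
    calc x ^ 2 ^ 2 = g⁻¹ * (g * x * g⁻¹ * (g * x * g⁻¹) * (g * x * g⁻¹ * (g * x * g⁻¹))) * g := by
          rw [show (2 : ℕ) ^ 2 = 4 by norm_num, pow_succ, pow_succ, pow_succ, pow_one]; group
      _ = 1 := by rw [h1]; group)
  set n := g * k⁻¹ with hn
  have hnU : ∀ x, n⁻¹ * x * n ∈ USub B ↔ x ∈ USub B := by
    apply PFacts.eq_of_conj_le rfl
    intro x hx
    have h1 := hk (g⁻¹ * x * g) (by
      rw [PFacts.conj_mem_iff, inv_inv, show g * (g⁻¹ * x * g) * g⁻¹ = x by group]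
      exact hx)
    show Env.IsU B _
    rwa [show n⁻¹ * x * n = k * (g⁻¹ * x * g) * k⁻¹ by rw [hn]; group]
  have hnK : ∀ x ∈ P1 B, n⁻¹ * x * n ∈ K := by
    intro x hx
    rw [show n⁻¹ * x * n = k * (g⁻¹ * x * g) * k⁻¹ by rw [hn]; group]
    exact mul_mem (mul_mem hkK (hX x hx)) (inv_mem hkK)
  have hnt : ∀ t ∈ Q, n * t * n⁻¹ = g * t * g⁻¹ := by
    intro t ht
    have h1 := (commK hK.toKBase hQ ht (inv_mem hkK)).eq
    calc n * t * n⁻¹ = g * (k⁻¹ * t) * k * g⁻¹ := by rw [hn]; group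
      _ = _ := by rw [h1]; group
  have hnQ : ∀ t ∈ Q, ∃ t' ∈ Q, ∃ w, n * t * n⁻¹ = t' * B.zs w := by
    intro t ht
    rw [hnt t ht]
    exact hg.le t ht
  have hne : ∃ t ∈ Q, ∃ t' ∈ Q, ∃ w, w ≠ 0 ∧ n * t * n⁻¹ = t' * B.zs w := by
    obtain ⟨t, ht, h1⟩ := hg.ne
    obtain ⟨t', ht', w, hw⟩ := hg.le t ht
    refine ⟨t, ht, t', ht', w, ?_, by rw [hnt t ht, hw]⟩
    rintro rfl
    apply h1
    rw [hw, B.zs_zero, mul_one]
    exact ht'
  -- the image of `z_s(1)`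
  have hzU : Env.IsU B (n⁻¹ * B.zs 1 * n) := (hnU _).2 (EnvFacts.IsU.zs 1)
  have hcomm : ∀ {x y : G}, Commute x y → Commute (n⁻¹ * x * n) (n⁻¹ * y * n) := by
    intro x y h
    show n⁻¹ * x * n * (n⁻¹ * y * n) = n⁻¹ * y * n * (n⁻¹ * x * n)
    calc n⁻¹ * x * n * (n⁻¹ * y * n) = n⁻¹ * (x * y) * n := by group
      _ = _ := by rw [h.eq]; group
  have hback : ∀ y : G, n⁻¹ * (n * y * n⁻¹) * n = y := fun y => by group
  obtain ⟨w1, w2, hz⟩ := centerU hzU (by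
    intro y hy
    have h1 : n * y * n⁻¹ ∈ USub B := by
      rw [← hnU, hback]
      exact hy
    have h2 := hcomm (z1 (isU_P1 h1) 1)
    rw [hback] at h2
    exact h2.symm)
  have hYz : ∀ y ∈ MulAut.conj n⁻¹ • P1 B, Commute y (B.zs w1 * B.zl w2) := by
    intro y hy
    rw [PFacts.conj_mem_iff, inv_inv] at hy
    have h2 := hcomm (z1 hy 1)
    rwa [hback, hz] at h2
  have hYK : ∀ y ∈ MulAut.conj n⁻¹ • P1 B, y ∈ K := by
    intro y hy
    rw [PFacts.conj_mem_iff, inv_inv] at hy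
    have h2 := hnK _ hy
    rwa [hback] at h2
  have hYmem : ∀ x ∈ P1 B, n⁻¹ * x * n ∈ MulAut.conj n⁻¹ • P1 B := by
    intro x hx
    rw [PFacts.conj_mem_iff, inv_inv, show n * (n⁻¹ * x * n) * n⁻¹ = x by group]
    exact hx
  have hYU : ¬ ∀ y ∈ MulAut.conj n⁻¹ • P1 B, Env.IsU B y := by
    intro h
    exact not_isU_na (B := B) ((hnU _).1 (h _ (hYmem _ na_P1)))
  by_cases h2 : w2 = 0
  · -- `n` normalises `P₁`
    subst h2
    rw [B.zl_zero, mul_one] at hz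
    have h1 : w1 ≠ 0 := by
      rintro rfl
      rw [B.zs_zero] at hz
      have h3 : B.zs 1 = B.zs 0 := by
        rw [B.zs_zero]
        calc B.zs 1 = n * (n⁻¹ * B.zs 1 * n) * n⁻¹ := by group
          _ = 1 := by rw [hz]; group
      exact one_ne_zero (zs_inj h3)
    have hiff : ∀ x, n⁻¹ * x * n ∈ P1 B ↔ x ∈ P1 B := by
      apply PFacts.eq_of_conj_le rfl
      intro x hx
      have h3 := hYz _ (hYmem x hx)
      rw [B.zl_zero, mul_one] at h3
      exact cent_s_mem hK (hnK x hx) h1 h3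
    exact exists_isN4Q hF hQ (leviSet hK) (mover_of_norm hK hiff hnQ hne)
  · have h1 : w1 = 0 := by
      by_contra h1
      apply hYU
      intro y hy
      exact isU_iff.1 (hK.cent_m y (hYK y hy) w1 w2 h1 h2 (hYz y hy))
    subst h1
    have hK' : KCent (swap B) K := SpFourCent.KCent.swap hK
    have hYz' : ∀ y ∈ MulAut.conj n⁻¹ • P1 B, Commute y ((swap B).zs w2) := by
      intro y hy
      have h3 := hYz y hy
      rwa [B.zs_zero, one_mul] at h3
    have hYP : MulAut.conj n⁻¹ • P1 B ≤ P1 (swap B) :=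
      fun y hy => cent_s_mem hK' (hYK y hy) h2 (hYz' y hy)
    have hPY : P1 (swap B) ≤ MulAut.conj n⁻¹ • P1 B := by
      apply P1_le_of_perfect hK' hYP (PFacts.perf_conj (perf1 hK hF'))
      · intro u hu
        rw [PFacts.conj_mem_iff, inv_inv]
        apply isU_P1
        show n * u * n⁻¹ ∈ USub B
        rw [← hnU, hback]
        exact EnvSwap.isU_swap.1 hu
      · intro h
        exact hYU (fun y hy => EnvSwap.isU_swap.1 (h y hy))
    have hiff : ∀ x, n⁻¹ * x * n ∈ P1 (swap B) ↔ x ∈ P1 B := by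
      apply PFacts.eq_of_conj_le'
      · intro x hx
        exact hYP (hYmem x hx)
      · intro x hx
        have h3 := hPY hx
        rwa [PFacts.conj_mem_iff, inv_inv] at h3
    have hiff' : ∀ x, n * x * n⁻¹ ∈ P1 B ↔ x ∈ P1 (swap B) := by
      intro x
      rw [← hiff, hback]
    obtain ⟨β, hβ⟩ := Base.exists_unit_ne hF
    set h := (swap B).h 1 β with hh
    set n' := n * h * n⁻¹ with hn'
    -- `n'` normalises `P₁`
    have hnorm : ∀ x, n'⁻¹ * x * n' ∈ P1 B ↔ x ∈ P1 B := by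
      have hone : ∀ (γ : Fˣ) x, x ∈ P1 B →
          (n * (swap B).h 1 γ * n⁻¹) * x * (n * (swap B).h 1 γ * n⁻¹)⁻¹ ∈ P1 B := by
        intro γ x hx
        rw [← hiff] at hx ⊢
        have := conj_h hK' hx 1 γ
        rw [show n⁻¹ * (n * (swap B).h 1 γ * n⁻¹ * x * (n * (swap B).h 1 γ * n⁻¹)⁻¹) * n =
          (swap B).h 1 γ * (n⁻¹ * x * n) * ((swap B).h 1 γ)⁻¹ by group]
        exact this
      intro x
      constructor
      · intro hx
        have := hone β _ hx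
        rw [← hh, ← hn'] at this
        rwa [show n' * (n'⁻¹ * x * n') * n'⁻¹ = x by group] at this
      · intro hx
        have := hone β⁻¹ x hx
        have e : (swap B).h 1 β⁻¹ = h⁻¹ := by rw [hh, (swap B).h_inv, inv_one]
        rw [e] at this
        rwa [show n * h⁻¹ * n⁻¹ * x * (n * h⁻¹ * n⁻¹)⁻¹ = n'⁻¹ * x * n' by rw [hn']; group] at this
    -- `n⁻¹ zs w n = zl r`
    have hzl : ∀ w, ∃ r, n⁻¹ * B.zs w * n = B.zl r := by
      intro w
      refine center1 hK' (B := swap B) ((hiff _).2 (by rw [← v1_zs]; exact v1_P1 _ _ _)) ?_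
      intro y hy
      have h3 := hcomm (z1 ((hiff' y).2 hy) w)
      rw [hback] at h3
      exact h3.symm
    have hzs : ∀ r, ∃ w, n * B.zl r * n⁻¹ = B.zs w := by
      intro r
      have hmem : B.zl r ∈ P1 (swap B) := by
        have h3 : (swap B).v1 0 r 0 = B.zl r := Base.v1_zs (B := swap B) r
        rw [← h3]; exact v1_P1 _ _ _
      refine center1 hK ((hiff' _).2 hmem) ?_
      intro y hy
      have h3 : Commute (n⁻¹ * y * n) ((swap B).zs r) := z1 ((hiff y).2 hy) r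
      have h4 : n⁻¹ * y * n * B.zl r = B.zl r * (n⁻¹ * y * n) := h3.eq
      show n * B.zl r * n⁻¹ * y = y * (n * B.zl r * n⁻¹)
      calc n * B.zl r * n⁻¹ * y = n * (B.zl r * (n⁻¹ * y * n)) * n⁻¹ := by group
        _ = _ := by rw [← h4]; group
    have hzmove : ∀ w, ∃ w', n' * B.zs w * n'⁻¹ = B.zs w' ∧ (w ≠ 0 → w + w' ≠ 0) := by
      intro w
      obtain ⟨r, hr⟩ := hzl w
      obtain ⟨w', hw'⟩ := hzs (β * r)
      have e1 : h * B.zl r * h⁻¹ = B.zl (β * r) := by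
        have h3 := (swap B).h_zs 1 β r
        rw [Units.val_one, one_mul] at h3
        have h4 : h * B.zl r = B.zl (β * r) * h := h3
        rw [h4]; group
      refine ⟨w', ?_, ?_⟩
      · rw [← hw', ← e1, ← hr, hn']; group
      · intro hw0 h3
        have h4 : w = w' := FieldAux.eq_of_add_eq_zero h3
        rw [← h4] at hw'
        have h5 : B.zl (β * r) = B.zl r := by
          calc B.zl (β * r) = n⁻¹ * (n * B.zl (β * r) * n⁻¹) * n := by group
            _ = B.zl r := by rw [hw', hr]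
        have h6 := zl_inj h5
        have hr0 : r ≠ 0 := by
          rintro rfl
          rw [B.zl_zero] at hr
          apply hw0
          apply zs_inj (B := B)
          rw [B.zs_zero]
          calc B.zs w = n * (n⁻¹ * B.zs w * n) * n⁻¹ := by group
            _ = 1 := by rw [hr]; group
        exact hβ (Units.ext (mul_right_cancel₀ hr0 (by rw [h6, Units.val_one, one_mul])))
    -- translation by `n'`
    have htr : ∀ t1 ∈ Q, ∀ t ∈ Q, ∀ w, n * t1 * n⁻¹ = t * B.zs w → ∀ w', n' * B.zs w * n'⁻¹ = B.zs w' →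
        n' * t * n'⁻¹ = t * B.zs (w + w') := by
      intro t1 ht1 t ht w hw w' hw'
      have h3 : t = n * t1 * n⁻¹ * B.zs w := by rw [hw, mul_assoc, B.zs_zs, mul_one]
      have h4 : h * t1 = t1 * h := ((SpFourCent.QC.swap hQ).h t1 ht1 1 β).symm.eq
      calc n' * t * n'⁻¹ = n' * (n * t1 * n⁻¹) * n'⁻¹ * (n' * B.zs w * n'⁻¹) := by rw [h3]; group
        _ = n * (h * t1) * h⁻¹ * n⁻¹ * B.zs w' := by rw [hw', hn']; group
        _ = n * t1 * n⁻¹ * B.zs w' := by rw [h4]; group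
        _ = _ := by rw [hw, B.zs_add, mul_assoc]
    -- `Q ≤ Q^{n⁻¹} Z_s`
    have hsurj : ∀ t ∈ Q, ∃ t1 ∈ Q, ∃ w, n * t1 * n⁻¹ = t * B.zs w := by
      have hc : ∀ x : Q, ∃ y : Q, ∃ w, n * x * n⁻¹ = y * B.zs w := by
        rintro ⟨x, hx⟩
        obtain ⟨t', ht', w, hw⟩ := hnQ x hx
        exact ⟨⟨t', ht'⟩, w, hw⟩
      choose f w hf using hc
      have hinj : Function.Injective f := by
        intro x y hxy
        have e1 : n * ((x : G) * (y : G)⁻¹) * n⁻¹ = B.zs (w x + w y) := by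
          have h3 := hf x
          have h4 := hf y
          rw [hxy] at h3
          have hc2 := (hQ.zs _ (f y).2 (w x)).eq
          calc n * ((x : G) * (y : G)⁻¹) * n⁻¹ = (n * x * n⁻¹) * (n * y * n⁻¹)⁻¹ := by group
            _ = (f y * B.zs (w x)) * (f y * B.zs (w y))⁻¹ := by rw [h3, h4]
            _ = B.zs (w x) * B.zs (w y) := by
                rw [hc2, mul_inv_rev, B.zs_inv]
                have hc3 := (hQ.zs _ (f y).2 (w y)).inv_left.eq
                calc B.zs (w x) * (f y : G) * (B.zs (w y) * (f y : G)⁻¹)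
                    = B.zs (w x) * (f y : G) * ((f y : G)⁻¹ * B.zs (w y)) := by rw [hc3]
                  _ = _ := by group
            _ = _ := by rw [B.zs_add]
        have e2 := hnt _ (mul_mem x.2 (inv_mem y.2))
        have e3 := hg.inj _ (mul_mem x.2 (inv_mem y.2)) (w x + w y) (by rw [← e2, e1])
        exact Subtype.ext (mul_inv_eq_one.1 e3)
      intro t ht
      obtain ⟨x, hx⟩ := (Finite.injective_iff_surjective.1 hinj) ⟨t, ht⟩
      refine ⟨x, x.2, w x, ?_⟩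
      rw [hf x, hx]
    apply exists_isN4Q hF hQ (leviSet hK) (n := n')
    apply mover_of_norm hK hnorm
    · intro t ht
      obtain ⟨t1, ht1, w, hw⟩ := hsurj t ht
      obtain ⟨w', hw', -⟩ := hzmove w
      exact ⟨t, ht, w + w', htr t1 ht1 t ht w hw w' hw'⟩
    · obtain ⟨t1, ht1, t, ht, w, hw0, hw⟩ := hne
      obtain ⟨w', hw', h3⟩ := hzmove w
      exact ⟨t, ht, t, ht, w + w', h3 hw0, htr t1 ht1 t ht w hw w' hw'⟩

end Cfsg.Agent.OddHalf.D4.SpFourMover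

end

-- merged: Cfsg.Agent.OddHalf.D4.SpFourSwapQ
section

/-!
# ODD D4, `Sp₄(q)`: the graph symmetry `Swap.swap` for `QC`, `QB`, `ShortQ`, `LongQ`.
-/

set_option autoImplicit false

namespace Cfsg.Agent.OddHalf.D4.SpFourSwapQ

open Cfsg.Agent.StdSpFour Cfsg.Agent.StdSpFour.Comm Cfsg.Agent.StdSpFour.Swap Subgroup
open Cfsg.Agent.OddHalf.D4.SpFourDefs

variable {F G : Type*} [Field F] [Group G] [CharP F 2] [Finite F] {B : Base F G} {Q : Subgroup G}

theorem swapQC (hB : QC B Q) : QC (swap B) Q where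
  t_mem := hB.t_mem
  sq := hB.sq
  xa := fun t ht u => hB.xb t ht u
  xb := fun t ht _ => hB.xa t ht _
  zs := fun t ht u => hB.zl t ht u
  zl := fun t ht _ => hB.zs t ht _
  h := fun t ht _ _ => hB.h t ht _ _
  na := hB.nb
  nb := hB.na
  disj := by
    intro t ht u s m r h
    change B.xb u * B.xa (rt s) * B.zl m * B.zs (rt r) = t at h
    rw [norm_eq] at h
    exact hB.disj t ht _ _ _ _ h

theorem swapQB (hB : QB B Q) : QB (swap B) Q where
  toQC := swapQC hB.toQC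
  cent1 := by
    intro g h1 h2 h3 h4
    obtain ⟨t, ht, s, m, r, h⟩ := hB.cent2 g h1 (fun u => by
      have := h2 (u ^ 2)
      simp only [swap, rt_sq] at this
      exact this) (fun u => by
      have := h4 (u ^ 2)
      simp only [swap, rt_sq] at this
      exact this) h3
    refine ⟨t, ht, s ^ 2, r, m ^ 2, ?_⟩
    show g = t * (B.xa (rt (s ^ 2)) * B.zl r * B.zs (rt (m ^ 2)))
    rw [rt_sq, rt_sq, mul_assoc (B.xa s), ← (B.zs_zl m r).eq, ← mul_assoc (B.xa s)]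
    exact h
  cent2 := by
    intro g h1 h2 h3 h4
    obtain ⟨t, ht, s, m, r, h⟩ := hB.cent1 g h1 h2 (fun u => by
      have := h4 (u ^ 2)
      simp only [swap, rt_sq] at this
      exact this) h3
    refine ⟨t, ht, s, r, m ^ 2, ?_⟩
    show g = t * (B.xb s * B.zl r * B.zs (rt (m ^ 2)))
    rw [rt_sq, mul_assoc (B.xb s), ← (B.zs_zl m r).eq, ← mul_assoc (B.xb s)]
    exact h
  centZ := by
    intro g h1 h2 h3
    obtain ⟨t, ht, u, s, m, r, h⟩ := hB.centZ g h1 (fun u => by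
      have := h3 (u ^ 2)
      simp only [swap, rt_sq] at this
      exact this) h2
    refine ⟨t, ht, s, u ^ 2, u ^ 2 * s + r, (u * s + m) ^ 2, ?_⟩
    show g = t * (B.xb s * B.xa (rt (u ^ 2)) * B.zl (u ^ 2 * s + r) * B.zs (rt ((u * s + m) ^ 2)))
    rw [rt_sq, rt_sq, norm_eq]
    have e1 : u * s + (u * s + m) = m := by
      rw [← add_assoc, CharTwo.add_self_eq_zero, zero_add]
    have e2 : u ^ 2 * s + (u ^ 2 * s + r) = r := by
      rw [← add_assoc, CharTwo.add_self_eq_zero, zero_add]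
    rw [e1, e2]
    exact h
  ti := hB.ti

/-- the long layer as short layer of `swap B` -/
noncomputable def swapS (L : LongQ B Q) : ShortQ (swap B) Q where
  p := L.q
  a := L.b
  e := L.e ^ 2
  c := L.c
  a_ne := L.b_ne
  p_zero := L.q_zero
  t_p := L.t_q
  p_xb := fun m _ => L.q_xa m _
  p_zs := L.q_zl
  p_zl := fun m _ => L.q_zs m _
  p_p := L.q_q
  p_add := L.q_add
  p_sq := L.q_sq
  xa_p := by
    intro u m
    have h := L.xb_q (rt u) (rt m)
    rw [sq_rt, sq_rt] at h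
    show B.xb u * L.q m = L.q m * B.xb u * B.zs (rt (L.e ^ 2 * u * m))
    rw [h, rt_mul, rt_mul, rt_sq, mul_assoc L.e (rt u) (rt m)]
  h_p := by
    intro α β m
    show B.h (rtU β) α * L.q m = L.q (α * β * m) * B.h (rtU β) α
    rw [L.h_q, rtU_val, sq_rt, mul_comm (β : F)]

/-- the short layer as long layer of `swap B` -/
noncomputable def swapL (S : ShortQ B Q) : LongQ (swap B) Q where
  q := fun r => S.p (rt r)
  b := fun t => S.a t ^ 2
  e := S.e
  c := S.c ^ 2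
  b_ne := fun t ht h1 => pow_ne_zero 2 (S.a_ne t ht h1)
  q_zero := by rw [rt_zero]; exact S.p_zero
  t_q := by
    intro t ht r
    show t * S.p (rt r) = S.p (rt r) * t * B.zs (rt (S.a t ^ 2 * r))
    rw [rt_mul, rt_sq]
    exact S.t_p t ht _
  q_xa := fun m s => S.p_xb _ s
  q_zs := fun m s => S.p_zl _ s
  q_zl := fun m s => S.p_zs _ _
  q_q := fun m m' => S.p_p _ _
  q_add := by
    intro m m'
    obtain ⟨k, hk⟩ := S.p_add (rt m) (rt m')
    refine ⟨k ^ 2, ?_⟩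
    show S.p (rt m) * S.p (rt m') = S.p (rt (m + m')) * B.zs (rt (k ^ 2))
    rw [rt_sq, rt_add]
    exact hk
  q_sq := by
    intro r
    show S.p (rt r) * S.p (rt r) = B.zs (rt (S.c ^ 2 * r))
    rw [rt_mul, rt_sq]
    exact S.p_sq _
  xb_q := by
    intro s r
    show B.xa (rt (s ^ 2)) * S.p (rt (r ^ 2)) = S.p (rt (r ^ 2)) * B.xa (rt (s ^ 2)) * B.zl (S.e * (s * r))
    rw [rt_sq, rt_sq, S.xa_p, mul_assoc S.e]
  h_q := by
    intro α β r
    show B.h (rtU β) α * S.p (rt r) = S.p (rt (α ^ 2 * β * r)) * B.h (rtU β) α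
    rw [S.h_p, rtU_val, rt_mul, rt_mul, rt_sq, mul_comm (rt (β : F))]

/-- a short layer of `swap B` gives a long layer of `B` -/
noncomputable def unswapS (S : ShortQ (swap B) Q) : LongQ B Q where
  q := S.p
  b := S.a
  e := rt S.e
  c := S.c
  b_ne := S.a_ne
  q_zero := S.p_zero
  t_q := S.t_p
  q_xa := by
    intro m s
    have := S.p_xb m (s ^ 2)
    simp only [swap, rt_sq] at this
    exact this
  q_zs := by
    intro m s
    have := S.p_zl m (s ^ 2)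
    simp only [swap, rt_sq] at this
    exact this
  q_zl := S.p_zs
  q_q := S.p_p
  q_add := S.p_add
  q_sq := S.p_sq
  xb_q := by
    intro s r
    have h : B.xb (s ^ 2) * S.p (r ^ 2) = S.p (r ^ 2) * B.xb (s ^ 2) * B.zs (rt (S.e * s ^ 2 * r ^ 2)) :=
      S.xa_p (s ^ 2) (r ^ 2)
    rw [h, rt_mul, rt_mul, rt_sq, rt_sq, mul_assoc (rt S.e)]
  h_q := by
    intro α β r
    have h : B.h (rtU (α ^ 2)) β * S.p r = S.p (β * ((α ^ 2 : Fˣ) : F) * r) * B.h (rtU (α ^ 2)) β :=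
      S.h_p β (α ^ 2) r
    rw [rtU_sq, Units.val_pow_eq_pow_val, mul_comm (β : F)] at h
    exact h

end Cfsg.Agent.OddHalf.D4.SpFourSwapQ

end

-- merged: Cfsg.Agent.OddHalf.D4.SpFourCore
section

/-!
# ODD D4, `Sp₄(q)`, `|Q| ≥ 4`: both layers cannot exist (bb ODD #8684 (B6)-(B9), final form #10764).

`q' s = na q(s) na⁻¹`, `p' u = nb p(u) nb⁻¹`.

* `half`: with `S`, `L` and the ratio property of `S`: `b t + e' √(b t) = k a t`, `k ≠ 0`, `S.c = 0`, `L.c = S.e k`.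
* `core`: `half` for `B` and for `swap B` gives `e = e' = 0`, so `a t = k k'` for all `t ≠ 1`, a contradiction.
-/

set_option autoImplicit false

namespace Cfsg.Agent.OddHalf.D4.SpFourCore

open Cfsg.Agent.StdSpFour Cfsg.Agent.StdSpFour.Comm Cfsg.Agent.StdSpFour.Swap Subgroup
open Cfsg.Agent.OddHalf.D4.SpFourDefs Cfsg.Agent.OddHalf.D4.SpFourSwapQ

variable {F G : Type*} [Field F] [Group G]

/-! ### congruence modulo `Z` -/

section cong

variable (B : Base F G)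

/-- commutes with `Z` -/
def CZ (g : G) : Prop := ∀ z ∈ Z B, Commute g z

variable {B}

theorem CZ.mk {g : G} (h1 : ∀ u, Commute g (B.zs u)) (h2 : ∀ u, Commute g (B.zl u)) : CZ B g := by
  rintro _ ⟨m, r, rfl⟩
  exact (h1 m).mul_right (h2 r)

theorem CZ.mul {g h : G} (hg : CZ B g) (hh : CZ B h) : CZ B (g * h) := fun z hz => (hg z hz).mul_left (hh z hz)
theorem CZ.inv {g : G} (hg : CZ B g) : CZ B g⁻¹ := fun z hz => (hg z hz).inv_left
theorem CZ.of_mem {g : G} (hg : g ∈ Z B) : CZ B g := by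
  obtain ⟨m, r, rfl⟩ := hg
  exact CZ.mk (fun u => (comm_of_add B.zs_add m u).mul_left ((B.zs_zl u r).symm))
    (fun u => (B.zs_zl m u).mul_left (comm_of_add B.zl_add r u))

/-- `x ≡ y` modulo `Z` -/
def E (B : Base F G) (x y : G) : Prop := y⁻¹ * x ∈ Z B

theorem E.refl (x : G) : E B x x := by
  show x⁻¹ * x ∈ Z B
  rw [inv_mul_cancel]; exact one_mem _
theorem E.of_eq {x y : G} (h : x = y) : E B x y := h ▸ E.refl x
theorem E.symm {x y : G} (h : E B x y) : E B y x := by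
  have := inv_mem h
  rwa [mul_inv_rev, inv_inv] at this
theorem E.trans {x y z : G} (h : E B x y) (h' : E B y z) : E B x z := by
  have h1 := mul_mem h' h
  have h2 : z⁻¹ * y * (y⁻¹ * x) = z⁻¹ * x := by group
  rw [h2] at h1
  exact h1
theorem E.left {x y : G} (c : G) (h : E B x y) : E B (c * x) (c * y) := by
  show (c * y)⁻¹ * (c * x) ∈ Z B
  have : (c * y)⁻¹ * (c * x) = y⁻¹ * x := by group
  rw [this]; exact h
theorem E.right {x y c : G} (hc : CZ B c) (h : E B x y) : E B (x * c) (y * c) := by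
  show (y * c)⁻¹ * (x * c) ∈ Z B
  have : (y * c)⁻¹ * (x * c) = y⁻¹ * x := by
    have h1 := (hc _ h).eq
    calc (y * c)⁻¹ * (x * c) = c⁻¹ * (y⁻¹ * x * c) := by group
      _ = y⁻¹ * x := by rw [← h1]; group
  rw [this]; exact h
theorem E.mk {x y z : G} (hz : z ∈ Z B) (h : x = y * z) : E B x y := by
  show y⁻¹ * x ∈ Z B
  rw [h, inv_mul_cancel_left]; exact hz
theorem E.cancel_left {x y c : G} (h : E B (c * x) (c * y)) : E B x y := by
  have := h.left c⁻¹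
  rwa [inv_mul_cancel_left, inv_mul_cancel_left] at this
theorem E.cancel_right {x y c : G} (hc : CZ B c) (h : E B (x * c) (y * c)) : E B x y := by
  have := h.right hc.inv
  rwa [mul_inv_cancel_right, mul_inv_cancel_right] at this

/-- `h` and `x` commute modulo `Z` -/
def Cm (B : Base F G) (h x : G) : Prop := E B (h * x) (x * h)

theorem Cm.of_comm {h x : G} (hc : Commute h x) : Cm B h x := E.of_eq hc.eq
theorem Cm.symm {h x : G} (hc : Cm B h x) : Cm B x h := E.symm hc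
theorem Cm.mul_right {h x y : G} (hy : CZ B y) (h1 : Cm B h x) (h2 : Cm B h y) : Cm B h (x * y) := by
  have e1 : E B (h * x * y) (x * h * y) := h1.right hy
  have e2 : E B (x * (h * y)) (x * (y * h)) := h2.left x
  have := e1.trans ((E.of_eq (mul_assoc x h y)).trans e2)
  show E B (h * (x * y)) (x * y * h)
  rwa [← mul_assoc, mul_assoc x y h]
theorem Cm.mul_left {h x y : G} (hy : CZ B y) (h1 : Cm B x h) (h2 : Cm B y h) :
    Cm B (x * y) h := (Cm.mul_right hy h1.symm h2.symm).symm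
theorem Cm.of_cj {h x z : G} (hz : z ∈ Z B) (e : cj h x = x * z) : Cm B x h := by
  refine E.mk hz ?_
  have h1 : x * h = h * cj h x := by simp [cj, mul_assoc]
  rw [h1, e, mul_assoc]

end cong

section base

variable {B : Base F G}

theorem CZxa (u : F) : CZ B (B.xa u) := CZ.mk (B.xa_zs u) (B.xa_zl u)
theorem CZxb (u : F) : CZ B (B.xb u) := CZ.mk (B.xb_zs u) (B.xb_zl u)

theorem cj_xa_xb [CharP F 2] (u s : F) : cj (B.xa u) (B.xb s) = B.xb s * (B.zs (u * s) * B.zl (u ^ 2 * s)) := by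
  apply cj_of_eq
  have h1 := B.xa_xb u s
  have h2 : B.zs (u * s) * B.zl (u ^ 2 * s) * (B.zs (u * s) * B.zl (u ^ 2 * s)) = 1 := by
    have h3 := (B.zs_zl (u * s) (u ^ 2 * s)).eq
    calc B.zs (u * s) * B.zl (u ^ 2 * s) * (B.zs (u * s) * B.zl (u ^ 2 * s))
        = (B.zs (u * s) * B.zl (u ^ 2 * s)) * B.zs (u * s) * B.zl (u ^ 2 * s) := by group
      _ = B.zl (u ^ 2 * s) * (B.zs (u * s) * B.zs (u * s)) * B.zl (u ^ 2 * s) := by rw [h3]; group
      _ = 1 := by rw [sq_of_add B.zs_add, mul_one, sq_of_add B.zl_add]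
  calc B.xb s * B.xa u = B.xb s * B.xa u * (B.zs (u * s) * B.zl (u ^ 2 * s) *
        (B.zs (u * s) * B.zl (u ^ 2 * s))) := by rw [h2, mul_one]
    _ = (B.xb s * B.xa u * B.zs (u * s) * B.zl (u ^ 2 * s)) * (B.zs (u * s) * B.zl (u ^ 2 * s)) := by group
    _ = _ := by rw [← h1]; group

theorem Cm_xa_xb (u s : F) : Cm B (B.xa u) (B.xb s) :=
  E.mk (mul_mem (zs_mem B (u * s)) (zl_mem B (u ^ 2 * s))) (by rw [B.xa_xb]; group)

end base

/-! ### the layers -/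

section layers

variable {B : Base F G} {Q : Subgroup G} (hB : QB B Q) (S : ShortQ B Q) (L : LongQ B Q)

include hB in
theorem CZt {t : G} (ht : t ∈ Q) : CZ B t := CZ.mk (hB.zs t ht) (hB.zl t ht)
theorem CZp (m : F) : CZ B (S.p m) := CZ.mk (S.p_zs m) (S.p_zl m)
theorem CZq (m : F) : CZ B (L.q m) := CZ.mk (L.q_zs m) (L.q_zl m)

theorem cp_t (m : F) {t : G} (ht : t ∈ Q) : cj (S.p m) t = t * B.zs (S.a t * m) :=
  cj_of_eq (by rw [S.t_p t ht, mul_assoc])
theorem cp_xa (m u : F) : cj (S.p m) (B.xa u) = B.xa u * B.zl (S.e * u * m) :=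
  cj_of_eq (by rw [S.xa_p, mul_assoc])
theorem cp_xb (m u : F) : cj (S.p m) (B.xb u) = B.xb u := cj_of_comm (S.p_xb m u).symm
theorem cp_zs (m u : F) : cj (S.p m) (B.zs u) = B.zs u := cj_of_comm (S.p_zs m u).symm
theorem cp_zl (m u : F) : cj (S.p m) (B.zl u) = B.zl u := cj_of_comm (S.p_zl m u).symm

theorem cq_t (r : F) {t : G} (ht : t ∈ Q) : cj (L.q r) t = t * B.zl (L.b t * r) :=
  cj_of_eq (by rw [L.t_q t ht, mul_assoc])
theorem cq_xa (r u : F) : cj (L.q r) (B.xa u) = B.xa u := cj_of_comm (L.q_xa r u).symm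
theorem cq_zs (r u : F) : cj (L.q r) (B.zs u) = B.zs u := cj_of_comm (L.q_zs r u).symm
theorem cq_zl (r u : F) : cj (L.q r) (B.zl u) = B.zl u := cj_of_comm (L.q_zl r u).symm
theorem cq_xb (r s : F) : cj (L.q (r ^ 2)) (B.xb (s ^ 2)) = B.xb (s ^ 2) * B.zs (L.e * (s * r)) :=
  cj_of_eq (by rw [L.xb_q, mul_assoc])

theorem cj_h_p (α β : Fˣ) (m : F) : MulAut.conj (B.h α β) (S.p m) = S.p (α * β * m) := by
  rw [MulAut.conj_apply, S.h_p, mul_inv_cancel_right]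
theorem cj_h_q (α β : Fˣ) (r : F) : MulAut.conj (B.h α β) (L.q r) = L.q (α ^ 2 * β * r) := by
  rw [MulAut.conj_apply, L.h_q, mul_inv_cancel_right]

include hB in
theorem cj_h_tt (α β : Fˣ) {t : G} (ht : t ∈ Q) : MulAut.conj (B.h α β) t = t := by
  rw [MulAut.conj_apply, ← (hB.h t ht α β).eq, mul_inv_cancel_right]

variable [CharP F 2] [Finite F]

theorem cq_xb1 (r s : F) : cj (L.q (r ^ 2)) (B.xb s) = B.xb s * B.zs (L.e * (rt s * r)) := by
  have := cq_xb L r (rt s)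
  rwa [sq_rt] at this

omit [CharP F 2] [Finite F] in
include hB in
/-- `a` is additive on `Q` -/
theorem a_mul {t t' : G} (ht : t ∈ Q) (ht' : t' ∈ Q) : S.a (t * t') = S.a t + S.a t' := by
  have h1 := cp_t S 1 (mul_mem ht ht')
  rw [cj_mul, cp_t S 1 ht, cp_t S 1 ht', mul_one, mul_one, mul_one] at h1
  have h2 := (hB.zs t' ht' (S.a t)).eq
  have h3 : t * B.zs (S.a t) * (t' * B.zs (S.a t')) = t * t' * B.zs (S.a t + S.a t') := by
    rw [B.zs_add]
    calc t * B.zs (S.a t) * (t' * B.zs (S.a t')) = t * (B.zs (S.a t) * t') * B.zs (S.a t') := by group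
      _ = _ := by rw [← h2]; group
  rw [h3] at h1
  exact (zs_inj B (mul_left_cancel h1)).symm

include hB in
/-- `b` is additive on `Q` -/
theorem b_mul {t t' : G} (ht : t ∈ Q) (ht' : t' ∈ Q) : L.b (t * t') = L.b t + L.b t' :=
  a_mul (swapQB hB) (swapS L) ht ht'

/-! ### the elements `q' s` -/

/-- the elements over `xb` -/
def q' (s : F) : G := MulAut.conj B.na (L.q s)

omit [CharP F 2] [Finite F] in
theorem cj_na_h (α β : Fˣ) : MulAut.conj B.na (B.h α β) = B.h α⁻¹ (α ^ 2 * β) := by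
  rw [MulAut.conj_apply, B.na_h, mul_inv_cancel_right]
omit [CharP F 2] [Finite F] in
theorem cj_na_xb (u : F) : MulAut.conj B.na (B.xb u) = B.zl u := by
  rw [MulAut.conj_apply, B.na_xb, mul_inv_cancel_right]
omit [CharP F 2] [Finite F] in
theorem cj_na_zl (u : F) : MulAut.conj B.na (B.zl u) = B.xb u := by
  rw [MulAut.conj_apply, B.na_zl, mul_inv_cancel_right]
omit [CharP F 2] [Finite F] in
theorem cj_na_zs (u : F) : MulAut.conj B.na (B.zs u) = B.zs u := by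
  rw [MulAut.conj_apply, B.na_zs, mul_inv_cancel_right]
omit [CharP F 2] [Finite F] in
include hB in
theorem cj_na_t {t : G} (ht : t ∈ Q) : MulAut.conj B.na t = t := by
  rw [MulAut.conj_apply, ← (hB.na t ht).eq, mul_inv_cancel_right]

omit [CharP F 2] [Finite F] in
theorem q'_fold (u : F) : MulAut.conj B.na (L.q u) = q' L u := rfl

omit [CharP F 2] [Finite F] in
include hB in
theorem cq'_t (r : F) {t : G} (ht : t ∈ Q) : cj (q' L r) t = t * B.xb (L.b t * r) := by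
  apply cj_of_eq
  have := congrArg (MulAut.conj B.na) (L.t_q t ht r)
  simp only [map_mul, cj_na_t hB ht, cj_na_zl, q'_fold] at this
  rw [this, mul_assoc]
omit [CharP F 2] [Finite F] in
theorem q'_xb (m s : F) : Commute (q' L m) (B.xb s) := by
  have := (L.q_zl m s).map (MulAut.conj B.na)
  simpa only [cj_na_zl, q'_fold] using this
omit [CharP F 2] [Finite F] in
theorem q'_zs (m s : F) : Commute (q' L m) (B.zs s) := by
  have := (L.q_zs m s).map (MulAut.conj B.na)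
  simpa only [cj_na_zs, q'_fold] using this
omit [CharP F 2] [Finite F] in
theorem cq'_zl (r s : F) : cj (q' L (r ^ 2)) (B.zl (s ^ 2)) = B.zl (s ^ 2) * B.zs (L.e * (s * r)) := by
  apply cj_of_eq
  have := congrArg (MulAut.conj B.na) (L.xb_q s r)
  simp only [map_mul, cj_na_xb, cj_na_zs, q'_fold] at this
  rw [this, mul_assoc]
omit [CharP F 2] [Finite F] in
theorem cj_h_q' (α β : Fˣ) (r : F) : MulAut.conj (B.h α β) (q' L r) = q' L (β * r) := by
  have e1 : B.h α β * B.na = B.na * B.h α⁻¹ (α ^ 2 * β) := by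
    have := B.na_h α⁻¹ (α ^ 2 * β)
    rw [inv_inv] at this
    have e2 : (α⁻¹ ^ 2 * (α ^ 2 * β) : Fˣ) = β := by group
    rw [e2] at this
    exact this.symm
  have e2 : MulAut.conj (B.h α β) (q' L r) = MulAut.conj B.na (MulAut.conj (B.h α⁻¹ (α ^ 2 * β)) (L.q r)) := by
    rw [q', ← MulAut.mul_apply, ← MulAut.mul_apply, ← map_mul, ← map_mul, e1]
  rw [e2, cj_h_q, q'_fold]
  congr 2
  simp

theorem cj_cj (g x y : G) : cj (cj g x) y = cj g (cj x (cj g⁻¹ y)) := by simp [cj, mul_assoc]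

omit [Finite F] in
include hB in
theorem cq'i_t (r : F) {t : G} (ht : t ∈ Q) : cj (q' L r)⁻¹ t = t * B.xb (L.b t * r) := by
  apply cj_inv
  rw [cj_mul, cq'_t hB L r ht, cj_of_comm (q'_xb L r _).symm, mul_assoc, sq_of_add B.xb_add, mul_one]

theorem cq'1_zl (x : F) : cj (q' L 1) (B.zl x) = B.zl x * B.zs (L.e * rt x) := by
  have := cq'_zl L 1 (rt x)
  rwa [sq_rt, one_pow, mul_one] at this

include hB in
/-- (i) -/
theorem cu_t (u : F) {t : G} (ht : t ∈ Q) : cj (cj (q' L 1) (B.xa u)) t =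
    t * (B.zs (u * (L.b t + L.e * rt (L.b t))) * B.zl (u ^ 2 * L.b t)) := by
  rw [cj_cj, cq'i_t hB L 1 ht, mul_one, cj_mul, cj_of_comm (hB.xa t ht u), cj_xa_xb, cj_mul, cj_mul, cj_mul,
    cq'_t hB L 1 ht, mul_one, cj_of_comm (q'_xb L 1 _).symm, cj_of_comm (q'_zs L 1 _).symm, cq'1_zl, rt_mul,
    rt_sq, mul_add, B.zs_add]
  have h1 := sq_of_add B.xb_add (L.b t)
  have h2 := (B.zs_zl (L.e * (u * rt (L.b t))) (u ^ 2 * L.b t)).eq
  have h3 : u * (L.e * rt (L.b t)) = L.e * (u * rt (L.b t)) := by ring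
  rw [h3]
  calc t * B.xb (L.b t) * (B.xb (L.b t) * (B.zs (u * L.b t) * (B.zl (u ^ 2 * L.b t) * B.zs (L.e * (u * rt (L.b t))))))
      = t * (B.xb (L.b t) * B.xb (L.b t)) * (B.zs (u * L.b t) * (B.zl (u ^ 2 * L.b t) *
          B.zs (L.e * (u * rt (L.b t))))) := by group
    _ = _ := by rw [h1, ← h2]; group

end layers

/-! ### `p` and `q` commute -/

section comm

variable {B : Base F G} {Q : Subgroup G}

/-- elements of `Q V₂` commuting with `xb 1` -/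
theorem formZ (hB : QB B Q) {g : G} (h1 : ∀ t ∈ Q, Commute g t) (h2 : ∀ u, Commute g (B.xa u))
    (h3 : ∀ u, Commute g (B.zs u)) (h4 : ∀ u, Commute g (B.zl u)) (h5 : Commute g (B.xb 1)) :
    ∃ t ∈ Q, ∃ m r, g = t * (B.zs m * B.zl r) := by
  obtain ⟨t, ht, u, m, r, rfl⟩ := hB.cent2 g h1 h2 h3 h4
  have h6 : Commute t (B.xb 1) := hB.xb t ht 1
  have h7 : Commute (B.xa u * B.zs m * B.zl r) (B.xb 1) := by
    have := (h6.inv_left).mul_left h5
    rwa [inv_mul_cancel_left] at this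
  have h8 : Commute (B.xa u) (B.xb 1) := by
    have h9 : Commute (B.zs m * B.zl r) (B.xb 1) := ((B.xb_zs 1 m).symm).mul_left ((B.xb_zl 1 r).symm)
    have := h7.mul_left h9.inv_left
    rw [mul_assoc (B.xa u), mul_assoc, mul_inv_cancel, mul_one] at this
    exact this
  have h9 := B.xa_xb u 1
  rw [h8.eq] at h9
  have h10 : B.zs (u * 1) * B.zl (u ^ 2 * 1) = 1 := by
    have : B.xb 1 * B.xa u * (B.zs (u * 1) * B.zl (u ^ 2 * 1)) = B.xb 1 * B.xa u := by
      rw [← mul_assoc]; exact h9.symm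
    exact mul_eq_left.1 this
  have h11 := B.inj 0 0 (u * 1) (u ^ 2 * 1) (by rw [xa_zero, xb_zero, one_mul, one_mul]; exact h10)
  have hu : u = 0 := by simpa using h11.2.2.1
  subst hu
  exact ⟨t, ht, m, r, by rw [xa_zero, one_mul]⟩

variable [CharP F 2] [Finite F]

/-- (iii) -/
theorem comm_p_q (hF : 4 ≤ Nat.card F) (hB : QB B Q) (S : ShortQ B Q) (L : LongQ B Q) (m r : F) :
    S.p m * L.q r = L.q r * S.p m := by
  have hl := exists_units hF
  let K : F → F → G := fun m r => S.p m * L.q r * (L.q r * S.p m)⁻¹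
  have hK : ∀ m r, ∃ t ∈ Q, ∃ x y, K m r = t * (B.zs x * B.zl y) := by
    intro m r
    apply formZ hB
    · intro t ht
      apply comm_of_cj_eq
      rw [cj_mul_left, cj_mul_left, cp_t S m ht, cq_t L r ht, cj_mul, cj_mul, cq_t L r ht, cq_zs, cp_t S m ht,
        cp_zl, mul_assoc, mul_assoc, (B.zs_zl _ _).eq]
    · intro u
      apply comm_of_cj_eq
      rw [cj_mul_left, cj_mul_left, cp_xa, cq_xa, cj_mul, cq_xa, cq_zl, cp_xa]
    · intro u
      apply comm_of_cj_eq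
      rw [cj_mul_left, cj_mul_left, cp_zs, cq_zs, cp_zs]
    · intro u
      apply comm_of_cj_eq
      rw [cj_mul_left, cj_mul_left, cp_zl, cq_zl, cp_zl]
    · apply comm_of_cj_eq
      have hk := cq_xb1 L (rt r) 1
      rw [sq_rt] at hk
      rw [cj_mul_left, cj_mul_left, cp_xb, hk, cj_mul, cp_xb, cp_zs]
  have hh : ∀ (α β : Fˣ) m r, MulAut.conj (B.h α β) (K m r) = K (α * β * m) (α ^ 2 * β * r) := by
    intro α β m r
    simp only [K, map_mul, map_inv, cj_h_p, cj_h_q]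
  -- the `Q`-part
  have h0 : ∀ m r, K m r ∈ Z B := by
    intro m r
    by_cases hm : m = 0
    · have : K m r = 1 := by
        simp only [K, hm, S.p_zero]; group
      rw [this]; exact one_mem _
    obtain ⟨t, ht, x, y, e⟩ := hK m r
    have e1 : S.p m * K m r * (S.p m)⁻¹ * K m r = 1 := by
      have e2 : Commute (S.p m * S.p m) (L.q r) := by
        rw [S.p_sq]; exact (L.q_zs r _).symm
      have e3 : (S.p m * S.p m) * L.q r * (S.p m * S.p m)⁻¹ = L.q r := by rw [e2.eq]; group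
      calc S.p m * K m r * (S.p m)⁻¹ * K m r
          = (S.p m * S.p m) * L.q r * (S.p m * S.p m)⁻¹ * (S.p m * (L.q r)⁻¹ * (S.p m)⁻¹) *
              (S.p m * L.q r * (L.q r * S.p m)⁻¹) := by simp only [K]; group
        _ = 1 := by rw [e3]; group
    have e4 : S.p m * t * (S.p m)⁻¹ = t * B.zs (S.a t * m) := by
      apply conj_of_cj
      apply cj_inv
      rw [cj_mul, cp_t S m ht, cp_zs, mul_assoc, sq_of_add B.zs_add, mul_one]
    have e5 : S.p m * (B.zs x * B.zl y) * (S.p m)⁻¹ = B.zs x * B.zl y := by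
      rw [(CZp S m _ (mul_mem (zs_mem B x) (zl_mem B y))).eq]; group
    have e6 : (B.zs x * B.zl y) * (B.zs x * B.zl y) = 1 := by
      have h3 := (B.zs_zl x y).eq
      calc (B.zs x * B.zl y) * (B.zs x * B.zl y) = (B.zs x * B.zl y) * B.zs x * B.zl y := by group
        _ = B.zl y * (B.zs x * B.zs x) * B.zl y := by rw [h3]; group
        _ = 1 := by rw [sq_of_add B.zs_add, mul_one, sq_of_add B.zl_add]
    rw [e] at e1
    have e7 : B.zs (S.a t * m) = 1 := by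
      have c1 : Commute t (B.zs (S.a t * m)) := hB.zs t ht _
      have c2 : Commute t (B.zs x * B.zl y) := (hB.zs t ht x).mul_right (hB.zl t ht y)
      calc B.zs (S.a t * m) = t * t * B.zs (S.a t * m) * ((B.zs x * B.zl y) * (B.zs x * B.zl y)) := by
            rw [hB.sq t ht, e6]; group
        _ = t * (t * B.zs (S.a t * m)) * (B.zs x * B.zl y) * (B.zs x * B.zl y) := by group
        _ = t * (B.zs (S.a t * m) * t) * (B.zs x * B.zl y) * (B.zs x * B.zl y) := by rw [c1.eq]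
        _ = t * B.zs (S.a t * m) * (t * (B.zs x * B.zl y)) * (B.zs x * B.zl y) := by group
        _ = t * B.zs (S.a t * m) * (B.zs x * B.zl y * t) * (B.zs x * B.zl y) := by rw [c2.eq]
        _ = (t * B.zs (S.a t * m)) * (B.zs x * B.zl y) * (t * (B.zs x * B.zl y)) := by group
        _ = (S.p m * t * (S.p m)⁻¹) * (S.p m * (B.zs x * B.zl y) * (S.p m)⁻¹) * (t * (B.zs x * B.zl y)) := by
            rw [e4, e5]
        _ = S.p m * (t * (B.zs x * B.zl y)) * (S.p m)⁻¹ * (t * (B.zs x * B.zl y)) := by group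
        _ = 1 := e1
    have e8 : S.a t * m = 0 := zs_inj B (by rw [e7, zs_zero])
    have e9 : t = 1 := by
      by_contra hne
      rcases mul_eq_zero.1 e8 with h | h
      · exact S.a_ne t ht hne h
      · exact hm h
    rw [e, e9, one_mul]
    exact mul_mem (zs_mem B x) (zl_mem B y)
  -- first step
  have h1 : ∀ m r, K m r ∈ Zl B := by
    intro m r
    refine kill (W := Zl B) (K := fun r => K m r) hl ?_ ?_ r
    · intro l x
      obtain ⟨a, b, e⟩ := h0 m x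
      have h2 := hh l l⁻¹ m x
      rw [wt3, wt4] at h2
      show (K m x)⁻¹ * K m (l * x) ∈ Zl B
      have h3 := diffZ (B := B) 1 a b a (l * b)
      rw [one_mul, one_mul, sub_self, zs_zero, one_mul] at h3
      rw [← h2, e, map_mul, cj_h_zs, cj_h_zl, wt3, wt4, h3]
      exact ⟨_, rfl⟩
    · intro x y
      obtain ⟨k, hk⟩ := L.q_add x y
      show (K m x * K m y)⁻¹ * K m (x + y) ∈ Zl B
      have e1 : K m (x + y) = K m x * K m y := by
        show S.p m * L.q (x + y) * (L.q (x + y) * S.p m)⁻¹ = _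
        rw [← absorb_right (S.p_zl m k), ← hk, comm_right]
        show K m x * (L.q x * K m y * (L.q x)⁻¹) = _
        rw [(CZq L x _ (h0 m y)).eq]; group
      rw [e1, inv_mul_cancel]
      exact one_mem _
  -- second step
  have h2 : K m r ∈ (⊥ : Subgroup G) := by
    refine kill (W := ⊥) (K := fun m => K m r) hl ?_ ?_ m
    · intro l x
      obtain ⟨a, e⟩ := h1 x r
      have h3 := hh l⁻¹ (l ^ 2) x r
      rw [wt1, wt2] at h3
      show (K x r)⁻¹ * K (l * x) r ∈ (⊥ : Subgroup G)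
      rw [← h3, e, cj_h_zl, wt2, inv_mul_cancel]
      exact one_mem _
    · intro x y
      obtain ⟨k, hk⟩ := S.p_add x y
      show (K x r * K y r)⁻¹ * K (x + y) r ∈ (⊥ : Subgroup G)
      have e1 : K (x + y) r = K y r * K x r := by
        show S.p (x + y) * L.q r * (L.q r * S.p (x + y))⁻¹ = _
        rw [← absorb_left ((L.q_zs r k).symm), ← hk, comm_left]
        show S.p x * K y r * (S.p x)⁻¹ * K x r = _
        rw [(CZp S x _ (h0 y r)).eq]; group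
      rw [e1, (CZ.of_mem (h0 y r) _ (h0 x r)).eq, inv_mul_cancel]
      exact one_mem _
  rw [mem_bot] at h2
  exact mul_inv_eq_one.1 h2

end comm

/-! ### `x_a(u)^{q'(1)}` modulo `x_a(u) p(ku) q(u²)` -/

section half

variable {B : Base F G} {Q : Subgroup G} (hB : QB B Q) (S : ShortQ B Q) (L : LongQ B Q) (k : F)

/-- `p (k u) q (u²)` -/
def P (u : F) : G := S.p (k * u) * L.q (u ^ 2)

/-- `x_a(u)^{q'(1)}` -/
def U0 (u : F) : G := cj (q' L 1) (B.xa u)

/-- the difference -/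
def D (u : F) : G := (B.xa u)⁻¹ * U0 L u * (P S L k u)⁻¹

theorem CZP (u : F) : CZ B (P S L k u) := (CZp S _).mul (CZq L _)

theorem eq_D (u : F) : U0 L u = B.xa u * D S L k u * P S L k u := by
  simp only [D]; group

theorem U0_add (u v : F) : U0 L (u + v) = U0 L u * U0 L v := by
  rw [U0, B.xa_add, cj_mul, U0, U0]

variable [CharP F 2] [Finite F]

theorem cq'1i_zl (x : F) : cj (q' L 1)⁻¹ (B.zl x) = B.zl x * B.zs (L.e * rt x) := by
  apply cj_inv
  rw [cj_mul, cq'1_zl, cj_of_comm (q'_zs L 1 _).symm, mul_assoc, sq_of_add B.zs_add, mul_one]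

theorem cq'1i_Z {z : G} (hz : z ∈ Z B) : cj (q' L 1)⁻¹ z ∈ Z B := by
  obtain ⟨m, r, rfl⟩ := hz
  rw [cj_mul, cq'1i_zl, cj_of_comm (q'_zs L 1 m).symm.inv_right]
  exact mul_mem (zs_mem B m) (mul_mem (zl_mem B r) (zs_mem B _))

theorem CZU0 (u : F) : CZ B (U0 L u) := by
  intro z hz
  apply comm_of_cj
  rw [U0, cj_cj, cj_of_comm (x := cj (q' L 1)⁻¹ z) ((CZxa u _ (cq'1i_Z L hz)).symm), ← cj_mul_left,
    inv_mul_cancel]
  simp [cj]

theorem cu_xb (u v : F) : cj (U0 L u) (B.xb v) =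
    B.xb v * (B.zs (u * v) * (B.zl (u ^ 2 * v) * B.zs (L.e * (u * rt v)))) := by
  rw [U0, cj_cj, cj_of_comm (x := B.xb v) (q'_xb L 1 v).symm.inv_right, cj_xa_xb, cj_mul, cj_mul, cq'1_zl,
    cj_of_comm (q'_xb L 1 v).symm, cj_of_comm (q'_zs L 1 _).symm, rt_mul, rt_sq]

theorem CZD (u : F) : CZ B (D S L k u) := ((CZxa u).inv.mul (CZU0 L u)).mul (CZP S L k u).inv

include hB in
/-- the form of `D u` -/
theorem formD (hk : ∀ t ∈ Q, L.b t + L.e * rt (L.b t) = S.a t * k) (u : F) :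
    ∃ t ∈ Q, ∃ s m r, D S L k u = t * (B.xb s * B.zs m * B.zl r) := by
  apply hB.cent1
  · intro t ht
    apply comm_of_cj_eq
    rw [cj_mul_left, cj_of_comm (x := t) ((hB.xa t ht u).inv_right)]
    show cj (cj (q' L 1) (B.xa u)) t = _
    rw [cu_t hB L u ht, hk t ht, P, cj_mul_left, cp_t S _ ht, cj_mul, cq_t L _ ht, cq_zs, mul_assoc,
      (B.zs_zl _ _).eq]
    have e1 : u * (S.a t * k) = S.a t * (k * u) := by ring
    rw [e1, mul_comm (u ^ 2)]
  · intro v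
    apply comm_of_cj_eq
    have h1 : cj (B.xa u)⁻¹ (B.xb v) = B.xb v * (B.zs (u * v) * B.zl (u ^ 2 * v)) := by
      apply cj_inv
      rw [cj_mul, cj_xa_xb, cj_mul, cj_of_comm (B.xa_zs u _).symm, cj_of_comm (B.xa_zl u _).symm]
      have h3 := (B.zs_zl (u * v) (u ^ 2 * v)).eq
      calc B.xb v * (B.zs (u * v) * B.zl (u ^ 2 * v)) * (B.zs (u * v) * B.zl (u ^ 2 * v))
          = B.xb v * (B.zs (u * v) * B.zl (u ^ 2 * v)) * B.zs (u * v) * B.zl (u ^ 2 * v) := by group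
        _ = B.xb v * B.zl (u ^ 2 * v) * (B.zs (u * v) * B.zs (u * v)) * B.zl (u ^ 2 * v) := by rw [h3]; group
        _ = B.xb v * (B.zl (u ^ 2 * v) * B.zl (u ^ 2 * v)) := by rw [sq_of_add B.zs_add, mul_one]; group
        _ = B.xb v := by rw [sq_of_add B.zl_add, mul_one]
    have h2 : ∀ x, cj (U0 L u) (B.zs x) = B.zs x := fun x => cj_of_comm ((CZU0 L u _ (zs_mem B x)).symm)
    have h3 : ∀ x, cj (U0 L u) (B.zl x) = B.zl x := fun x => cj_of_comm ((CZU0 L u _ (zl_mem B x)).symm)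
    rw [cj_mul_left, h1, cj_mul, cj_mul, h2, h3, cu_xb, P, cj_mul_left, cp_xb, cq_xb1]
    have f1 := (B.zs_zl (L.e * (u * rt v)) (u ^ 2 * v)).eq
    have f2 := (B.zs_zl (u * v) (u ^ 2 * v)).eq
    have f3 := (comm_of_add B.zs_add (L.e * (u * rt v)) (u * v)).eq
    have e1 : L.e * (rt v * u) = L.e * (u * rt v) := by ring
    rw [e1]
    calc B.xb v * (B.zs (u * v) * (B.zl (u ^ 2 * v) * B.zs (L.e * (u * rt v)))) * (B.zs (u * v) * B.zl (u ^ 2 * v))
        = B.xb v * (B.zs (u * v) * B.zl (u ^ 2 * v)) * (B.zs (L.e * (u * rt v)) * B.zs (u * v)) *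
            B.zl (u ^ 2 * v) := by group
      _ = B.xb v * B.zl (u ^ 2 * v) * (B.zs (u * v) * B.zs (u * v)) * (B.zs (L.e * (u * rt v)) *
            B.zl (u ^ 2 * v)) := by rw [f2, f3]; group
      _ = B.xb v * (B.zl (u ^ 2 * v) * B.zl (u ^ 2 * v)) * B.zs (L.e * (u * rt v)) := by
            rw [sq_of_add B.zs_add, mul_one, f1]; group
      _ = _ := by rw [sq_of_add B.zl_add, mul_one]
  · intro x
    exact CZD S L k u _ (zs_mem B x)
  · intro x
    exact CZD S L k u _ (zl_mem B x)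

omit [CharP F 2] [Finite F] in
theorem Cm_P_t (u : F) {t : G} (ht : t ∈ Q) : Cm B (P S L k u) t := by
  refine (Cm.of_cj (z := B.zl (L.b t * u ^ 2) * B.zs (S.a t * (k * u)))
    (mul_mem (zl_mem B _) (zs_mem B _)) ?_).symm
  rw [P, cj_mul_left, cp_t S _ ht, cj_mul, cq_t L _ ht, cq_zs, mul_assoc]

theorem Cm_P_xb (u v : F) : Cm B (P S L k u) (B.xb v) := by
  refine (Cm.of_cj (z := B.zs (L.e * (rt v * u))) (zs_mem B _) ?_).symm
  rw [P, cj_mul_left, cp_xb, cq_xb1]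

omit [CharP F 2] [Finite F] in
theorem Cm_P_xa (u v : F) : Cm B (P S L k u) (B.xa v) := by
  refine (Cm.of_cj (z := B.zl (S.e * v * (k * u))) (zl_mem B _) ?_).symm
  rw [P, cj_mul_left, cp_xa, cj_mul, cq_xa, cq_zl]

theorem P_add (hF : 4 ≤ Nat.card F) (hB : QB B Q) (u v : F) :
    E B (P S L k u * P S L k v) (P S L k (u + v)) := by
  obtain ⟨x, hx⟩ := S.p_add (k * u) (k * v)
  obtain ⟨y, hy⟩ := L.q_add (u ^ 2) (v ^ 2)
  refine E.mk (mul_mem (zs_mem B x) (zl_mem B y)) ?_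
  have h1 := comm_p_q hF hB S L (k * v) (u ^ 2)
  have h2 := (L.q_zs (u ^ 2 + v ^ 2) x).eq
  have h3 : (u + v) ^ 2 = u ^ 2 + v ^ 2 := CharTwo.add_sq u v
  show S.p (k * u) * L.q (u ^ 2) * (S.p (k * v) * L.q (v ^ 2)) =
    S.p (k * (u + v)) * L.q ((u + v) ^ 2) * (B.zs x * B.zl y)
  rw [h3, mul_add]
  calc S.p (k * u) * L.q (u ^ 2) * (S.p (k * v) * L.q (v ^ 2))
      = S.p (k * u) * (L.q (u ^ 2) * S.p (k * v)) * L.q (v ^ 2) := by group
    _ = (S.p (k * u) * S.p (k * v)) * (L.q (u ^ 2) * L.q (v ^ 2)) := by rw [← h1]; group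
    _ = S.p (k * u + k * v) * (B.zs x * L.q (u ^ 2 + v ^ 2)) * B.zl y := by rw [hx, hy]; group
    _ = _ := by rw [← h2]; group

theorem D_mem (hF : 4 ≤ Nat.card F) (hB : QB B Q) (hk : ∀ t ∈ Q, L.b t + L.e * rt (L.b t) = S.a t * k) (u : F) :
    D S L k u ∈ Z B := by
  have cz1 : ∀ x, CZ B (P S L k x) := CZP S L k
  have cz2 : ∀ x, CZ B (D S L k x) := CZD S L k
  refine kill (exists_units hF) ?_ ?_ u
  · intro l x
    obtain ⟨t, ht, s, m, r, e⟩ := formD hB S L k hk x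
    have h1 : MulAut.conj (B.h l 1) (D S L k x) = D S L k (l * x) := by
      have e1 : (l : F) * ((1 : Fˣ) : F) * (k * x) = k * (l * x) := by rw [Units.val_one]; ring
      have e2 : (l : F) ^ 2 * ((1 : Fˣ) : F) * x ^ 2 = (l * x) ^ 2 := by rw [Units.val_one]; ring
      have e3 : MulAut.conj (B.h l 1) (q' L 1) = q' L 1 := by
        rw [cj_h_q', Units.val_one, one_mul]
      simp only [D, U0, P, cj, map_mul, map_inv, cj_h_p, cj_h_q, cj_h_xa, e3, e1, e2]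
    rw [← h1, e, map_mul, map_mul, map_mul, cj_h_tt hB _ _ ht, cj_h_xb, cj_h_zs, cj_h_zl, Units.val_one, one_mul]
    have h2 : ∀ m' r', (t * (B.xb s * B.zs m * B.zl r))⁻¹ * (t * (B.xb s * B.zs m' * B.zl r')) =
        (B.zs m * B.zl r)⁻¹ * (B.zs m' * B.zl r') := by intro m' r'; group
    rw [h2]
    exact mul_mem (inv_mem ⟨m, r, rfl⟩) ⟨_, _, rfl⟩
  · intro u v
    have main : E B (D S L k (u + v)) (D S L k u * D S L k v) := by
      obtain ⟨t, ht, s, m, r, e⟩ := formD hB S L k hk u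
      obtain ⟨t', ht', s', m', r', e'⟩ := formD hB S L k hk v
      have c1 : Cm B (P S L k u) (B.xa v) := Cm_P_xa S L k u v
      have c2 : Cm B (D S L k u) (B.xa v) := by
        rw [e]
        refine Cm.mul_left ?_ (Cm.of_comm (hB.xa t ht v)) ?_
        · exact ((CZxb s).mul (CZ.of_mem (zs_mem B m))).mul (CZ.of_mem (zl_mem B r))
        · refine Cm.mul_left (CZ.of_mem (zl_mem B r)) ?_ (Cm.of_comm ((B.xa_zl v r).symm))
          exact Cm.mul_left (CZ.of_mem (zs_mem B m)) (Cm_xa_xb v s).symm (Cm.of_comm ((B.xa_zs v m).symm))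
      have c3 : Cm B (P S L k u) (D S L k v) := by
        rw [e']
        refine Cm.mul_right ?_ (Cm_P_t S L k u ht') ?_
        · exact ((CZxb s').mul (CZ.of_mem (zs_mem B m'))).mul (CZ.of_mem (zl_mem B r'))
        · refine Cm.mul_right (CZ.of_mem (zl_mem B r')) ?_ (Cm.of_comm (cz1 u _ (zl_mem B r')))
          exact Cm.mul_right (CZ.of_mem (zs_mem B m')) (Cm_P_xb S L k u s') (Cm.of_comm (cz1 u _ (zs_mem B m')))
      have g1 : B.xa (u + v) * D S L k (u + v) * P S L k (u + v) =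
          B.xa u * D S L k u * (P S L k u * B.xa v) * (D S L k v * P S L k v) := by
        rw [← eq_D, U0_add, eq_D S L k u, eq_D S L k v]; group
      have g2 : E B (B.xa u * D S L k u * (P S L k u * B.xa v) * (D S L k v * P S L k v))
          (B.xa u * D S L k u * (B.xa v * P S L k u) * (D S L k v * P S L k v)) :=
        (c1.left (B.xa u * D S L k u)).right ((cz2 v).mul (cz1 v))
      have g3 : E B (B.xa u * (D S L k u * B.xa v) * (P S L k u * (D S L k v * P S L k v)))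
          (B.xa u * (B.xa v * D S L k u) * (P S L k u * (D S L k v * P S L k v))) :=
        (c2.left (B.xa u)).right ((cz1 u).mul ((cz2 v).mul (cz1 v)))
      have g4 : E B (B.xa u * B.xa v * D S L k u * (P S L k u * D S L k v) * P S L k v)
          (B.xa u * B.xa v * D S L k u * (D S L k v * P S L k u) * P S L k v) :=
        (c3.left (B.xa u * B.xa v * D S L k u)).right (cz1 v)
      have g5 : E B (B.xa u * B.xa v * (D S L k u * D S L k v) * (P S L k u * P S L k v))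
          (B.xa u * B.xa v * (D S L k u * D S L k v) * P S L k (u + v)) :=
        (P_add S L k hF hB u v).left _
      have g6 : E B (B.xa (u + v) * D S L k (u + v) * P S L k (u + v))
          (B.xa (u + v) * (D S L k u * D S L k v) * P S L k (u + v)) := by
        refine (E.of_eq g1).trans (g2.trans ?_)
        refine (E.of_eq (by group)).trans (g3.trans ?_)
        refine (E.of_eq (by group)).trans (g4.trans ?_)
        refine (E.of_eq (by group)).trans (g5.trans ?_)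
        exact E.of_eq (by rw [B.xa_add])
      exact (g6.cancel_right (cz1 _)).cancel_left
    exact main

include hB in
/-- `u0² = 1` -/
theorem sq_rel (hF : 4 ≤ Nat.card F) (hk : ∀ t ∈ Q, L.b t + L.e * rt (L.b t) = S.a t * k) :
    S.c * k = 0 ∧ L.c + S.e * k = 0 := by
  have hz := D_mem S L k hF hB hk 1
  have h1 : U0 L 1 * U0 L 1 = 1 := by
    rw [← U0_add, CharTwo.add_self_eq_zero, U0, xa_zero, cj_one]
  have h2 : D S L k 1 * D S L k 1 = 1 := by
    obtain ⟨x, y, e⟩ := hz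
    have h3 := (B.zs_zl x y).eq
    rw [e]
    calc (B.zs x * B.zl y) * (B.zs x * B.zl y) = (B.zs x * B.zl y) * B.zs x * B.zl y := by group
      _ = B.zl y * (B.zs x * B.zs x) * B.zl y := by rw [h3]; group
      _ = 1 := by rw [sq_of_add B.zs_add, mul_one, sq_of_add B.zl_add]
  have h3 : D S L k 1 * P S L k 1 = P S L k 1 * D S L k 1 := (CZP S L k 1 _ hz).symm.eq
  have h4 : D S L k 1 * B.xa 1 = B.xa 1 * D S L k 1 := (CZxa 1 _ hz).symm.eq
  have h5 : B.xa 1 * P S L k 1 * (B.xa 1 * P S L k 1) = 1 := by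
    calc B.xa 1 * P S L k 1 * (B.xa 1 * P S L k 1)
        = B.xa 1 * P S L k 1 * B.xa 1 * P S L k 1 * (D S L k 1 * D S L k 1) := by rw [h2]; group
      _ = B.xa 1 * P S L k 1 * B.xa 1 * (P S L k 1 * D S L k 1) * D S L k 1 := by group
      _ = B.xa 1 * P S L k 1 * (B.xa 1 * D S L k 1) * P S L k 1 * D S L k 1 := by rw [← h3]; group
      _ = B.xa 1 * (P S L k 1 * D S L k 1) * B.xa 1 * (P S L k 1 * D S L k 1) := by rw [← h4]; group
      _ = (B.xa 1 * D S L k 1 * P S L k 1) * (B.xa 1 * D S L k 1 * P S L k 1) := by rw [← h3]; group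
      _ = 1 := by rw [← eq_D]; exact h1
  have h6 : S.p k * L.q 1 = L.q 1 * S.p k := comm_p_q hF hB S L k 1
  have h7 : L.q 1 * B.xa 1 = B.xa 1 * L.q 1 := (L.q_xa 1 1).eq
  have h8 : B.xa 1 * S.p k = S.p k * B.xa 1 * B.zl (S.e * k) := by
    have := S.xa_p 1 k
    rwa [mul_one] at this
  have hP : P S L k 1 = S.p k * L.q 1 := by rw [P, mul_one, one_pow]
  have c1 : B.zl (S.e * k) * B.xa 1 = B.xa 1 * B.zl (S.e * k) := (B.xa_zl 1 _).symm.eq
  have c2 : B.zl (S.e * k) * S.p k = S.p k * B.zl (S.e * k) := (S.p_zl k _).symm.eq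
  have h9 : B.zs (S.c * k) * B.zl (L.c + S.e * k) = 1 := by
    calc B.zs (S.c * k) * B.zl (L.c + S.e * k)
        = B.zs (S.c * k) * (B.zl (L.c * 1) * B.zl (S.e * k)) := by rw [B.zl_add, mul_one]
      _ = (S.p k * S.p k) * (B.zl (S.e * k) * (L.q 1 * L.q 1)) := by
          rw [S.p_sq, L.q_sq, (comm_of_add B.zl_add _ _).eq]
      _ = S.p k * (B.zl (S.e * k) * S.p k) * (L.q 1 * L.q 1) := by rw [c2]; group
      _ = S.p k * ((B.xa 1 * B.xa 1) * B.zl (S.e * k)) * S.p k * (L.q 1 * L.q 1) := by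
          rw [sq_of_add B.xa_add]; group
      _ = (S.p k * B.xa 1 * B.zl (S.e * k)) * B.xa 1 * S.p k * (L.q 1 * L.q 1) := by
          rw [mul_assoc (S.p k * B.xa 1), c1]; group
      _ = B.xa 1 * S.p k * B.xa 1 * (S.p k * L.q 1) * L.q 1 := by rw [← h8]; group
      _ = B.xa 1 * S.p k * (B.xa 1 * L.q 1) * S.p k * L.q 1 := by rw [h6]; group
      _ = B.xa 1 * (S.p k * L.q 1) * (B.xa 1 * (S.p k * L.q 1)) := by rw [← h7]; group
      _ = 1 := by rw [← hP]; exact h5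
  have h10 := zz_inj B (m' := 0) (r' := 0) (h9.trans (by rw [zs_zero, zl_zero, one_mul]))
  exact h10

include hB in
theorem half (hF : 4 ≤ Nat.card F) (h4 : ∃ t1 ∈ Q, ∃ t2 ∈ Q, t1 ≠ 1 ∧ t2 ≠ 1 ∧ t1 ≠ t2)
    (rS : ∀ g : G, (∀ t ∈ Q, ∃ w, g⁻¹ * t * g = t * B.zs w) → ∃ φ, ∀ t ∈ Q, g⁻¹ * t * g = t * B.zs (S.a t * φ)) :
    ∃ k, k ≠ 0 ∧ (∀ t ∈ Q, L.b t + L.e * rt (L.b t) = S.a t * k) ∧ S.c = 0 ∧ L.c = S.e * k := by
  have h1 : ∀ t ∈ Q, (U0 L 1 * (L.q 1)⁻¹)⁻¹ * t * (U0 L 1 * (L.q 1)⁻¹) =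
      t * B.zs (L.b t + L.e * rt (L.b t)) := by
    intro t ht
    show cj (U0 L 1 * (L.q 1)⁻¹) t = _
    have h2 : ∀ z ∈ Z B, cj (L.q 1)⁻¹ z = z := fun z hz => cj_of_comm ((CZq L 1).inv _ hz).symm
    have h3 : cj (L.q 1)⁻¹ t = t * B.zl (L.b t) := by
      apply cj_inv
      rw [cj_mul, cq_t L 1 ht, cq_zl, mul_one, mul_assoc, sq_of_add B.zl_add, mul_one]
    rw [cj_mul_left]
    show cj (L.q 1)⁻¹ (cj (cj (q' L 1) (B.xa 1)) t) = _
    rw [cu_t hB L 1 ht, one_mul, one_pow, one_mul, cj_mul, h3, h2 _ (mul_mem (zs_mem B _) (zl_mem B _)),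
      (B.zs_zl _ _).eq, mul_assoc, ← mul_assoc (B.zl (L.b t)), sq_of_add B.zl_add, one_mul]
  obtain ⟨k, hk⟩ := rS _ (fun t ht => ⟨_, h1 t ht⟩)
  have hk' : ∀ t ∈ Q, L.b t + L.e * rt (L.b t) = S.a t * k := by
    intro t ht
    have h2 := hk t ht
    rw [h1 t ht] at h2
    exact zs_inj B (mul_left_cancel h2)
  have hk0 : k ≠ 0 := by
    rintro rfl
    obtain ⟨t1, ht1, t2, ht2, n1, n2, n12⟩ := h4
    have hb : ∀ t ∈ Q, t ≠ 1 → L.b t = L.e ^ 2 := by
      intro t ht hne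
      have h2 := hk' t ht
      rw [mul_zero] at h2
      have h3 : rt (L.b t) * (rt (L.b t) + L.e) = 0 := by
        have := sq_rt (L.b t)
        calc rt (L.b t) * (rt (L.b t) + L.e) = rt (L.b t) ^ 2 + L.e * rt (L.b t) := by ring
          _ = 0 := by rw [this]; exact h2
      rcases mul_eq_zero.1 h3 with h | h
      · exact absurd (rt_eq_zero h) (L.b_ne t ht hne)
      · have h5 : rt (L.b t) = L.e := by
          have := CharTwo.add_eq_zero.1 h
          exact this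
        rw [← h5, sq_rt]
    have n3 : t1 * t2 ≠ 1 := by
      intro h
      apply n12
      have := hB.sq t2 ht2
      exact mul_right_cancel (h.trans this.symm)
    have h5 := b_mul hB L ht1 ht2
    rw [hb t1 ht1 n1, hb t2 ht2 n2, CharTwo.add_self_eq_zero] at h5
    exact L.b_ne _ (mul_mem ht1 ht2) n3 h5
  obtain ⟨h5, h6⟩ := sq_rel hB S L k hF hk'
  refine ⟨k, hk0, hk', ?_, CharTwo.add_eq_zero.1 h6⟩
  exact (mul_eq_zero.1 h5).resolve_right hk0

end half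

/-- the two layers cannot both exist -/
theorem core {F G : Type*} [Field F] [Group G] {B : Base F G} {Q : Subgroup G} [CharP F 2] [Fintype F]
    (hF : 4 ≤ Fintype.card F) (hB : QB B Q)
    (h4 : ∃ t1 ∈ Q, ∃ t2 ∈ Q, t1 ≠ 1 ∧ t2 ≠ 1 ∧ t1 ≠ t2) (S : ShortQ B Q) (L : LongQ B Q)
    (rS : ∀ g : G, (∀ t ∈ Q, ∃ w, g⁻¹ * t * g = t * B.zs w) → ∃ φ, ∀ t ∈ Q, g⁻¹ * t * g = t * B.zs (S.a t * φ))
    (rL : ∀ g : G, (∀ t ∈ Q, ∃ w, g⁻¹ * t * g = t * B.zl w) → ∃ φ, ∀ t ∈ Q, g⁻¹ * t * g = t * B.zl (L.b t * φ)) :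
    False := by
  rw [← Nat.card_eq_fintype_card] at hF
  obtain ⟨k, hk, h1, h2, h3⟩ := half hB S L hF h4 rS
  obtain ⟨k', hk', h1', h2', h3'⟩ := half (swapQB hB) (swapS L) (swapL S) hF h4 rL
  change ∀ t ∈ Q, S.a t ^ 2 + S.e * rt (S.a t ^ 2) = L.b t * k' at h1'
  change L.c = 0 at h2'
  change S.c ^ 2 = L.e ^ 2 * k' at h3'
  have hLe : L.e = 0 := by
    rw [h2, zero_pow two_ne_zero] at h3'
    have := (mul_eq_zero.1 h3'.symm).resolve_right hk'
    exact pow_eq_zero_iff two_ne_zero |>.1 this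
  have hSe : S.e = 0 := by
    rw [h2'] at h3
    exact (mul_eq_zero.1 h3.symm).resolve_right hk
  have ha : ∀ t ∈ Q, t ≠ 1 → S.a t = k * k' := by
    intro t ht hne
    have e1 := h1 t ht
    have e2 := h1' t ht
    rw [hLe, zero_mul, add_zero] at e1
    rw [hSe, zero_mul, add_zero, e1] at e2
    have e3 : S.a t * (S.a t) = S.a t * (k * k') := by linear_combination e2
    exact mul_left_cancel₀ (S.a_ne t ht hne) e3
  obtain ⟨t1, ht1, t2, ht2, n1, n2, n12⟩ := h4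
  have n3 : t1 * t2 ≠ 1 := by
    intro h
    apply n12
    have := hB.sq t2 ht2
    exact mul_right_cancel (h.trans this.symm)
  have h5 := a_mul hB S ht1 ht2
  rw [ha t1 ht1 n1, ha t2 ht2 n2, CharTwo.add_self_eq_zero] at h5
  exact S.a_ne _ (mul_mem ht1 ht2) n3 h5

end Cfsg.Agent.OddHalf.D4.SpFourCore

end

-- merged: Cfsg.Agent.OddHalf.D4.SpFourEnd
section

/-!
# ODD D4, `K = Sp₄(q)`, `|Q| ≥ 4`: no frame of root type (helper684; [E] of bb ODD #12274)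

`O` = the elements of odd order of `C_G(K Q) = Q × O`. In `N_G(O)/O` the centralisers of `Q V₁`, `Q V₂`, `Q Z` are as
small as possible (`qb`). `endS`, `endL`: `Q^g ≤ Q Z_s` (resp. `Q Z_l`), `Q^g ≠ Q`, is impossible.
-/

set_option autoImplicit false

namespace Cfsg.Agent.OddHalf.D4.SpFourEnd

open Subgroup
open Cfsg.Agent.StdSpFour Cfsg.Agent.StdSpFour.Swap
open Cfsg.Agent.OddHalf.D4 Cfsg.Agent.OddHalf.D4.Basic
open Cfsg.Agent.OddHalf.D4.SpFourDefs Cfsg.Agent.OddHalf.D4.SpFourCent Cfsg.Agent.OddHalf.D4.SpFourQuot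
open Cfsg.Agent.OddHalf.D4.SpFourFr (Env)
open Cfsg.Agent.OddHalf.D4.SpFourU (nf)

variable {F G : Type*} [Field F] [Group G]

theorem zero_xb [CharP F 2] {B : Base F G} {u s m r : F}
    (h : Commute (B.xa u * B.xb s * B.zs m * B.zl r) (B.xb 1)) : u = 0 := by
  change Commute (nf B u s m r) _ at h
  have e2 := SpFourU.nf_comm (B := B) u s m r 0 1 0 0
  rw [← SpFourU.xb_eq, h.eq] at e2
  have e2' : nf B 0 0 (0 * s + u * 1) (0 ^ 2 * s + u ^ 2 * 1) = 1 := by rw [← e2]; group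
  have h4 := (SpFourU.nf_one e2').2.2.1
  linear_combination h4

theorem zero_xa [CharP F 2] {B : Base F G} {u s m r : F}
    (h : Commute (B.xa u * B.xb s * B.zs m * B.zl r) (B.xa 1)) : s = 0 := by
  change Commute (nf B u s m r) _ at h
  have e2 := SpFourU.nf_comm (B := B) u s m r 1 0 0 0
  rw [← SpFourU.xa_eq, h.eq] at e2
  have e2' : nf B 0 0 (1 * s + u * 0) (1 ^ 2 * s + u ^ 2 * 0) = 1 := by rw [← e2]; group
  have h4 := (SpFourU.nf_one e2').2.2.1
  linear_combination h4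

/-! ### The odd part of `C_G(K Q)` -/

theorem exists_O [Finite G] {K Q : Subgroup G} (hQ : IsSyl Q (centralizer (K : Set G)))
    (hab : ∀ x ∈ Q, ∀ y ∈ Q, Commute x y) :
    ∃ O : Subgroup G, (∀ o ∈ O, o ∈ centralizer (K : Set G)) ∧ (∀ o ∈ O, ∀ t ∈ Q, Commute t o) ∧
      (∀ o ∈ O, o * o = 1 → o = 1) ∧
      ∀ x ∈ centralizer (K : Set G), (∀ t ∈ Q, Commute x t) → ∃ t ∈ Q, ∃ o ∈ O, x = t * o := by
  set C : Subgroup G := centralizer (K : Set G) ⊓ centralizer (Q : Set G) with hC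
  have hQC : Q ≤ C := le_inf hQ.le (fun x hx => mem_centralizer_iff.2 fun y hy => (hab y hy x hx).eq)
  obtain ⟨P, hP⟩ := (hQ.mono hQC inf_le_left : IsSyl Q C).toSylow
  have hn : (Q.subgroupOf C).Normal := by
    refine ⟨fun t ht c => ?_⟩
    have h1 : c * t * c⁻¹ = t := by
      apply Subtype.ext
      have h2 := mem_centralizer_iff.1 c.2.2 t (mem_subgroupOf.1 ht)
      show (c : G) * t * (c : G)⁻¹ = t
      rw [← h2]; group
    rwa [h1]
  have : Fact (Nat.Prime 2) := ⟨Nat.prime_two⟩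
  have hodd : ¬ 2 ∣ (Q.subgroupOf C).index := by
    rw [← hP]; exact P.not_dvd_index
  have hcop : Nat.Coprime (Nat.card (Q.subgroupOf C)) (Q.subgroupOf C).index := by
    rw [← hP]; exact P.card_coprime_index
  obtain ⟨H, hH⟩ := exists_right_complement'_of_coprime hcop
  have hcard : Nat.card H = (Q.subgroupOf C).index := hH.symm.index_eq_card.symm
  refine ⟨H.map C.subtype, ?_, ?_, ?_, ?_⟩
  · rintro _ ⟨o, _, rfl⟩; exact o.2.1
  · rintro _ ⟨o, _, rfl⟩ t ht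
    exact mem_centralizer_iff.1 o.2.2 t ht
  · rintro _ ⟨o, ho, rfl⟩ h1
    have h2 : o * o = 1 := Subtype.ext h1
    have h3 : orderOf (⟨o, ho⟩ : H) ∣ 2 := by
      rw [orderOf_dvd_iff_pow_eq_one, pow_two]; exact Subtype.ext h2
    have h4 : orderOf (⟨o, ho⟩ : H) ∣ Nat.card H := orderOf_dvd_natCard _
    rcases (Nat.dvd_prime Nat.prime_two).1 h3 with h5 | h5
    · have h6 := orderOf_eq_one_iff.1 h5
      have h7 : o = 1 := congrArg Subtype.val h6
      rw [h7]; rfl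
    · rw [h5, hcard] at h4
      exact absurd h4 hodd
  · intro x hx hxt
    have hxC : x ∈ C := ⟨hx, mem_centralizer_iff.2 fun t ht => (hxt t ht).symm.eq⟩
    obtain ⟨⟨⟨t, ht⟩, ⟨o, ho⟩⟩, e, -⟩ := IsComplement.existsUnique hH ⟨x, hxC⟩
    exact ⟨t, mem_subgroupOf.1 ht, o, ⟨o, ho, rfl⟩, (congrArg Subtype.val e).symm⟩

/-- The situation. -/
structure Sit (B : Base F G) (K Q O : Subgroup G) : Prop where
  hK : KCent B K
  hA : KAut B K
  env : Env K
  syl : IsSyl Q (centralizer (K : Set G))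
  qc : QC B Q
  ok : ∀ o ∈ O, o ∈ centralizer (K : Set G)
  oq : ∀ o ∈ O, ∀ t ∈ Q, Commute t o
  odd : ∀ o ∈ O, o * o = 1 → o = 1
  dec : ∀ x ∈ centralizer (K : Set G), (∀ t ∈ Q, Commute x t) → ∃ t ∈ Q, ∃ o ∈ O, x = t * o

namespace Sit

variable {B : Base F G} {K Q O : Subgroup G}

theorem swap [CharP F 2] [Finite F] (S : Sit B K Q O) : Sit (swap B) K Q O where
  hK := KCent.swap S.hK
  hA := KAut.swap S.hA
  env := S.env
  syl := S.syl
  qc := SpFourCent.QC.swap S.qc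
  ok := S.ok
  oq := S.oq
  odd := S.odd
  dec := S.dec

variable (S : Sit B K Q O)
include S

theorem commK {k o : G} (hk : k ∈ K) (ho : o ∈ O) : Commute k o := mem_centralizer_iff.1 (S.ok o ho) k hk

theorem commKQ {k t : G} (hk : k ∈ K) (ht : t ∈ Q) : Commute k t := mem_centralizer_iff.1 (S.syl.le ht) k hk

theorem mem_X {g : G} (h : ∀ o ∈ O, Commute g o) : g ∈ normalizer (O : Set G) := by
  rw [mem_normalizer_iff]
  intro x
  constructor
  · intro hx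
    have := (h x hx).eq
    rw [this, mul_inv_cancel_right]; exact hx
  · intro hx
    have h1 := (h _ hx).eq
    have h2 : g * x * g⁻¹ = x := by
      have h3 : g * (g * x * g⁻¹) * g⁻¹ = g * x * g⁻¹ := by rw [h1, mul_inv_cancel_right]
      exact mul_left_cancel (mul_right_cancel h3)
    rwa [h2] at hx

theorem K_le : K ≤ normalizer (O : Set G) := fun _ hk => S.mem_X fun _ ho => S.commK hk ho

theorem Q_le : Q ≤ normalizer (O : Set G) := fun _ ht => S.mem_X fun o ho => S.oq o ho _ ht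

theorem inX : InX B (normalizer (O : Set G)) where
  t := S.Q_le S.qc.t_mem
  xa := fun u => S.K_le (S.hK.xa_mem u)
  xb := fun u => S.K_le (S.hK.xb_mem u)
  zs := fun u => S.K_le (S.hK.zs_mem u)
  zl := fun u => S.K_le (S.hK.zl_mem u)
  h := fun α β => S.K_le (S.hK.h_mem α β)
  na := S.K_le S.hK.na_mem
  nb := S.K_le S.hK.nb_mem

theorem nf_mem (u s m r : F) : B.xa u * B.xb s * B.zs m * B.zl r ∈ K :=
  mul_mem (mul_mem (mul_mem (S.hK.xa_mem u) (S.hK.xb_mem s)) (S.hK.zs_mem m)) (S.hK.zl_mem r)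

/-- `K ∩ C(K) = 1` -/
theorem one_of_K {k : G} (hk : k ∈ K) (hc : k ∈ centralizer (K : Set G)) : k = 1 :=
  S.hK.center k hk fun x hx => (mem_centralizer_iff.1 hc x hx).symm

/-- `Q ∩ O = 1` -/
theorem one_of_Q {t : G} (ht : t ∈ Q) (ho : t ∈ O) : t = 1 := S.odd t ho (S.qc.sq t ht)

/-- an element normalising `O` and commuting modulo `O` with an involution `x` commuting with `O` commutes with `x` -/
theorem comm_of {n x o : G} (hx : x * x = 1) (hxO : ∀ o ∈ O, Commute x o) (ho : o ∈ O) (h : n * x * n⁻¹ = x * o) :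
    Commute n x := by
  have h1 : (n * x * n⁻¹) * (n * x * n⁻¹) = 1 := by
    calc (n * x * n⁻¹) * (n * x * n⁻¹) = n * (x * x) * n⁻¹ := by group
      _ = 1 := by rw [hx]; group
  rw [h] at h1
  have h2 : x * o * (x * o) = o * o := by
    calc x * o * (x * o) = x * (o * x) * o := by group
      _ = (x * x) * (o * o) := by rw [← (hxO o ho).eq]; group
      _ = o * o := by rw [hx, one_mul]
  rw [h2] at h1
  rw [S.odd o ho h1, mul_one] at h
  show n * x = x * n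
  calc n * x = n * x * n⁻¹ * n := by group
    _ = x * n := by rw [h]

/-- elements commuting with `Q` and `Z` -/
theorem form {n : G} (h1 : ∀ t ∈ Q, Commute n t) (h2 : ∀ u, Commute n (B.zs u)) (h3 : ∀ u, Commute n (B.zl u)) :
    ∃ t ∈ Q, ∃ o ∈ O, ∃ u s m r, n = B.xa u * B.xb s * B.zs m * B.zl r * (t * o) := by
  have ht1 : B.t ≠ 1 := by
    intro h
    apply B.t_ne 0 0 0 0
    rw [h]
    have e1 : B.xa 0 = 1 := by
      have := B.xa_add 0 0
      rw [add_zero] at this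
      exact (left_eq_mul.1 this)
    have e2 : B.xb 0 = 1 := by
      have := B.xb_add 0 0
      rw [add_zero] at this
      exact (left_eq_mul.1 this)
    have e3 : B.zs 0 = 1 := by
      have := B.zs_add 0 0
      rw [add_zero] at this
      exact (left_eq_mul.1 this)
    have e4 : B.zl 0 = 1 := by
      have := B.zl_add 0 0
      rw [add_zero] at this
      exact (left_eq_mul.1 this)
    rw [e1, e2, e3, e4, one_mul, one_mul, one_mul]
  have hN : n ∈ normalizer (K : Set G) := by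
    apply TightAt.mem S.env.tight (S.syl.le S.qc.t_mem) _ (h1 _ S.qc.t_mem).eq
    exact orderOf_eq_prime (by rw [pow_two, B.tt]) ht1
  obtain ⟨u, s, m, r, hc⟩ := S.hA n hN h2 h3
  have hcK : (B.xa u * B.xb s * B.zs m * B.zl r)⁻¹ * n ∈ centralizer (K : Set G) :=
    mem_centralizer_iff.2 fun k hk => (hc k hk).symm.eq
  obtain ⟨t, ht, o, ho, e⟩ := S.dec _ hcK (fun t ht =>
    ((S.commKQ (S.nf_mem u s m r) ht).inv_left).mul_left (h1 t ht))
  exact ⟨t, ht, o, ho, u, s, m, r, by rw [← e, mul_inv_cancel_left]⟩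

/-! ### The section `N_G(O) / O` -/

section quot

variable {H : Type*} [Group H] (f : ↥(normalizer (O : Set G)) →* H)
  (hf : ∀ x : ↥(normalizer (O : Set G)), f x = 1 ↔ (x : G) ∈ O)

include hf

/-- commutation lifts -/
theorem lift {n x : ↥(normalizer (O : Set G))} (hx : (x : G) * x = 1) (hxO : ∀ o ∈ O, Commute (x : G) o)
    (h : Commute (f n) (f x)) : Commute (n : G) (x : G) := by
  have h1 : f (x⁻¹ * (n * x * n⁻¹)) = 1 := by
    rw [map_mul, map_mul, map_mul, map_inv, map_inv, h.eq]; group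
  have h2 := (hf _).1 h1
  apply S.comm_of hx hxO h2
  show (n : G) * x * (n : G)⁻¹ = x * ((x : G)⁻¹ * (n * x * (n : G)⁻¹))
  rw [mul_inv_cancel_left]

theorem eq_of {x y : ↥(normalizer (O : Set G))} (hx : (x : G) * x = 1) (hy : (y : G) * y = 1)
    (hyO : ∀ o ∈ O, Commute (y : G) o) (h : f x = f y) : (x : G) = y := by
  have h1 : f (y⁻¹ * x) = 1 := by rw [map_mul, map_inv, h, inv_mul_cancel]
  have h2 : (y : G)⁻¹ * x ∈ O := (hf _).1 h1
  have hc := hyO _ h2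
  have h3 : (x : G) = y * ((y : G)⁻¹ * x) := by group
  have h4 : ((y : G)⁻¹ * x) * ((y : G)⁻¹ * x) = 1 := by
    have h5 : ((y : G) * ((y : G)⁻¹ * x)) * ((y : G) * ((y : G)⁻¹ * x)) = 1 := by rw [← h3]; exact hx
    calc ((y : G)⁻¹ * x) * ((y : G)⁻¹ * x) = ((y : G) * y) * (((y : G)⁻¹ * x) * ((y : G)⁻¹ * x)) := by rw [hy, one_mul]
      _ = (y : G) * (y * ((y : G)⁻¹ * x)) * ((y : G)⁻¹ * x) := by group
      _ = (y : G) * (((y : G)⁻¹ * x) * y) * ((y : G)⁻¹ * x) := by rw [hc.eq]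
      _ = ((y : G) * ((y : G)⁻¹ * x)) * ((y : G) * ((y : G)⁻¹ * x)) := by group
      _ = 1 := h5
  rw [h3, S.odd _ h2 h4, mul_one]

theorem injU : InjU (toSub B _ S.inX) f where
  inj := by
    intro u s m r e
    have h1 := (hf _).1 e
    apply Subtype.ext
    exact S.one_of_K (S.nf_mem u s m r) (S.ok _ h1)
  ne := by
    intro u s m r e
    have h1 : f (((toSub B _ S.inX).xa u * (toSub B _ S.inX).xb s * (toSub B _ S.inX).zs m *
        (toSub B _ S.inX).zl r) * ((toSub B _ S.inX).t)⁻¹) = 1 := by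
      rw [map_mul, map_inv, e, mul_inv_cancel]
    have h2 : (B.xa u * B.xb s * B.zs m * B.zl r) * B.t⁻¹ ∈ O := (hf _).1 h1
    have h3 := S.ok _ h2
    have h4 := mul_mem h3 (S.syl.le S.qc.t_mem)
    rw [inv_mul_cancel_right] at h4
    have h5 := S.one_of_K (S.nf_mem u s m r) h4
    rw [h5, one_mul] at h2
    have h6 := S.one_of_Q (inv_mem S.qc.t_mem) h2
    apply B.t_ne u s m r
    rw [h5, ← inv_inv B.t, h6, inv_one]

/-- the image of `B` -/
abbrev Bb : Base F H := map (toSub B _ S.inX) f (S.injU f hf)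

omit hf S [Field F] in
/-- the image of `Q` -/
abbrev Qb (Q : Subgroup G) (f : ↥(normalizer (O : Set G)) →* H) : Subgroup H :=
  (Q.subgroupOf (normalizer (O : Set G))).map f

omit hf in
theorem mem_Qb {x : H} : x ∈ Qb Q f ↔ ∃ t, ∃ ht : t ∈ Q, f ⟨t, S.Q_le ht⟩ = x := by
  constructor
  · rintro ⟨⟨t, ht'⟩, ht, e⟩
    exact ⟨t, mem_subgroupOf.1 ht, e⟩
  · rintro ⟨t, ht, e⟩
    exact ⟨_, mem_subgroupOf.2 ht, e⟩

theorem nf_eq (u s m r : F) : (S.Bb f hf).xa u * (S.Bb f hf).xb s * (S.Bb f hf).zs m * (S.Bb f hf).zl r =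
    f ⟨B.xa u * B.xb s * B.zs m * B.zl r, S.K_le (S.nf_mem u s m r)⟩ := by
  show f _ * f _ * f _ * f _ = _
  rw [← map_mul, ← map_mul, ← map_mul]
  rfl

theorem v1_eq (s m r : F) : (S.Bb f hf).v1 s m r =
    f ⟨B.v1 s m r, S.K_le (mul_mem (mul_mem (S.hK.xb_mem s) (S.hK.zs_mem m)) (S.hK.zl_mem r))⟩ := by
  show f _ * f _ * f _ = _
  rw [← map_mul, ← map_mul]
  rfl

theorem qc' : QC (S.Bb f hf) (Qb Q f) where
  t_mem := (S.mem_Qb f).2 ⟨B.t, S.qc.t_mem, rfl⟩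
  sq := by
    intro x hx
    obtain ⟨t, ht, rfl⟩ := (S.mem_Qb f).1 hx
    rw [← map_mul]
    have : (⟨t, S.Q_le ht⟩ : ↥(normalizer (O : Set G))) * ⟨t, S.Q_le ht⟩ = 1 := Subtype.ext (S.qc.sq t ht)
    rw [this, map_one]
  xa := by
    intro x hx u
    obtain ⟨t, ht, rfl⟩ := (S.mem_Qb f).1 hx
    exact cm (Subtype.ext (S.qc.xa t ht u).eq)
  xb := by
    intro x hx u
    obtain ⟨t, ht, rfl⟩ := (S.mem_Qb f).1 hx
    exact cm (Subtype.ext (S.qc.xb t ht u).eq)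
  zs := by
    intro x hx u
    obtain ⟨t, ht, rfl⟩ := (S.mem_Qb f).1 hx
    exact cm (Subtype.ext (S.qc.zs t ht u).eq)
  zl := by
    intro x hx u
    obtain ⟨t, ht, rfl⟩ := (S.mem_Qb f).1 hx
    exact cm (Subtype.ext (S.qc.zl t ht u).eq)
  h := by
    intro x hx α β
    obtain ⟨t, ht, rfl⟩ := (S.mem_Qb f).1 hx
    exact cm (Subtype.ext (S.qc.h t ht α β).eq)
  na := by
    intro x hx
    obtain ⟨t, ht, rfl⟩ := (S.mem_Qb f).1 hx
    exact cm (Subtype.ext (S.qc.na t ht).eq)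
  nb := by
    intro x hx
    obtain ⟨t, ht, rfl⟩ := (S.mem_Qb f).1 hx
    exact cm (Subtype.ext (S.qc.nb t ht).eq)
  disj := by
    intro x hx u s m r e
    obtain ⟨t, ht, rfl⟩ := (S.mem_Qb f).1 hx
    rw [S.nf_eq f hf] at e
    have h1 : f (⟨B.xa u * B.xb s * B.zs m * B.zl r, S.K_le (S.nf_mem u s m r)⟩ * (⟨t, S.Q_le ht⟩)⁻¹) = 1 := by
      rw [map_mul, map_inv, e, mul_inv_cancel]
    have h2 : (B.xa u * B.xb s * B.zs m * B.zl r) * t⁻¹ ∈ O := (hf _).1 h1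
    have h4 := mul_mem (S.ok _ h2) (S.syl.le ht)
    rw [inv_mul_cancel_right] at h4
    have h5 := S.one_of_K (S.nf_mem u s m r) h4
    rw [← e]
    have : (⟨B.xa u * B.xb s * B.zs m * B.zl r, S.K_le (S.nf_mem u s m r)⟩ : ↥(normalizer (O : Set G))) = 1 :=
      Subtype.ext h5
    rw [this, map_one]

/-- the general form of the elements commuting with `Q` and `Z` modulo `O` -/
theorem form' [CharP F 2] (hs : Function.Surjective f) {g : H} (h1 : ∀ t ∈ Qb Q f, Commute g t)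
    (h2 : ∀ u, Commute g ((S.Bb f hf).zs u)) (h3 : ∀ u, Commute g ((S.Bb f hf).zl u)) :
    ∃ t, ∃ ht : t ∈ Q, ∃ u s m r, g = f ⟨t, S.Q_le ht⟩ *
      ((S.Bb f hf).xa u * (S.Bb f hf).xb s * (S.Bb f hf).zs m * (S.Bb f hf).zl r) := by
  obtain ⟨n, rfl⟩ := hs g
  have g1 : ∀ t ∈ Q, Commute (n : G) t := fun t ht =>
    S.lift f hf (x := ⟨t, S.Q_le ht⟩) (S.qc.sq t ht) (fun o ho => S.oq o ho t ht) (h1 _ ((S.mem_Qb f).2 ⟨t, ht, rfl⟩))
  have g2 : ∀ u, Commute (n : G) (B.zs u) := fun u =>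
    S.lift f hf (x := ⟨B.zs u, S.inX.zs u⟩) (Comm.sq_of_add B.zs_add u) (fun o ho => S.commK (S.hK.zs_mem u) ho) (h2 u)
  have g3 : ∀ u, Commute (n : G) (B.zl u) := fun u =>
    S.lift f hf (x := ⟨B.zl u, S.inX.zl u⟩) (Comm.sq_of_add B.zl_add u) (fun o ho => S.commK (S.hK.zl_mem u) ho) (h3 u)
  obtain ⟨t, ht, o, ho, u, s, m, r, e⟩ := S.form g1 g2 g3
  refine ⟨t, ht, u, s, m, r, ?_⟩
  rw [S.nf_eq f hf]
  have hoX : o ∈ normalizer (O : Set G) := le_normalizer ho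
  have e1 : n = ⟨t, S.Q_le ht⟩ * ⟨_, S.K_le (S.nf_mem u s m r)⟩ * ⟨o, hoX⟩ := by
    apply Subtype.ext
    show (n : G) = t * (B.xa u * B.xb s * B.zs m * B.zl r) * o
    rw [e, ← (S.commKQ (S.nf_mem u s m r) ht).eq, mul_assoc _ t o]
  have e2 : f ⟨o, hoX⟩ = 1 := (hf _).2 ho
  rw [e1, map_mul, map_mul, e2, mul_one]

theorem qb [CharP F 2] (hs : Function.Surjective f) : QB (S.Bb f hf) (Qb Q f) where
  toQC := S.qc' f hf
  cent1 := by
    intro g h1 h2 h3 h4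
    obtain ⟨t, ht, u, s, m, r, e⟩ := S.form' f hf hs h1 h3 h4
    refine ⟨_, (S.mem_Qb f).2 ⟨t, ht, rfl⟩, s, m, r, ?_⟩
    have hu : u = 0 := by
      have h5 := h2 1
      rw [e] at h5
      have h6 : Commute (f ⟨t, S.Q_le ht⟩) ((S.Bb f hf).xb 1) := (S.qc' f hf).xb _ ((S.mem_Qb f).2 ⟨t, ht, rfl⟩) 1
      have h7 : Commute ((S.Bb f hf).xa u * (S.Bb f hf).xb s * (S.Bb f hf).zs m * (S.Bb f hf).zl r)
          ((S.Bb f hf).xb 1) := by
        have h8 := h6.inv_left.mul_left h5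
        rwa [inv_mul_cancel_left] at h8
      exact zero_xb h7
    rw [e, hu, (S.Bb f hf).xa_zero, one_mul]
  cent2 := by
    intro g h1 h2 h3 h4
    obtain ⟨t, ht, u, s, m, r, e⟩ := S.form' f hf hs h1 h3 h4
    refine ⟨_, (S.mem_Qb f).2 ⟨t, ht, rfl⟩, u, m, r, ?_⟩
    have hu : s = 0 := by
      have h5 := h2 1
      rw [e] at h5
      have h6 : Commute (f ⟨t, S.Q_le ht⟩) ((S.Bb f hf).xa 1) := (S.qc' f hf).xa _ ((S.mem_Qb f).2 ⟨t, ht, rfl⟩) 1
      have h7 : Commute ((S.Bb f hf).xa u * (S.Bb f hf).xb s * (S.Bb f hf).zs m * (S.Bb f hf).zl r)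
          ((S.Bb f hf).xa 1) := by
        have h8 := h6.inv_left.mul_left h5
        rwa [inv_mul_cancel_left] at h8
      exact zero_xa h7
    rw [e, hu, (S.Bb f hf).xb_zero, mul_one]
  centZ := by
    intro g h1 h2 h3
    obtain ⟨t, ht, u, s, m, r, e⟩ := S.form' f hf hs h1 h2 h3
    exact ⟨_, (S.mem_Qb f).2 ⟨t, ht, rfl⟩, u, s, m, r, e⟩
  ti := by
    intro g ⟨x, hx, hx1, hxg⟩ hcomm
    obtain ⟨n, rfl⟩ := hs g
    obtain ⟨t, ht, rfl⟩ := (S.mem_Qb f).1 hx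
    obtain ⟨t', ht', e⟩ := (S.mem_Qb f).1 hxg
    have ht1 : t ≠ 1 := by
      rintro rfl
      exact hx1 (map_one f)
    have key : ∀ b ∈ Q, ∀ o ∈ O, Commute ((n : G)⁻¹ * b * n) o := by
      intro b hb o ho
      have h1 : (n : G) * o * (n : G)⁻¹ ∈ O := (mem_normalizer_iff.1 n.2 o).1 ho
      have h2 := (S.oq _ h1 b hb).eq
      show (n : G)⁻¹ * b * n * o = o * ((n : G)⁻¹ * b * n)
      calc (n : G)⁻¹ * b * n * o = (n : G)⁻¹ * (b * (n * o * (n : G)⁻¹)) * n := by group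
        _ = (n : G)⁻¹ * ((n * o * (n : G)⁻¹) * b) * n := by rw [h2]
        _ = o * ((n : G)⁻¹ * b * n) := by group
    have hsq : ∀ b ∈ Q, ((n : G)⁻¹ * b * n) * ((n : G)⁻¹ * b * n) = 1 := by
      intro b hb
      calc ((n : G)⁻¹ * b * n) * ((n : G)⁻¹ * b * n) = (n : G)⁻¹ * (b * b) * n := by group
        _ = 1 := by rw [S.qc.sq b hb]; group
    -- `n` normalises `K`
    have h1 : (n : G)⁻¹ * t * n = t' :=
      (S.eq_of f hf (x := ⟨t', S.Q_le ht'⟩) (y := n⁻¹ * ⟨t, S.Q_le ht⟩ * n) (S.qc.sq t' ht') (hsq t ht)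
        (key t ht) (by rw [e, map_mul, map_mul, map_inv])).symm
    have ho2 : orderOf t = 2 := orderOf_eq_prime (by rw [pow_two, S.qc.sq t ht]) ht1
    have hN : (n : G) ∈ normalizer (K : Set G) := by
      have h2 : (n : G)⁻¹ ∈ normalizer (K : Set G) := by
        apply S.env.tight.tight _ t (S.syl.le ht) ho2
        rw [inv_inv, h1]
        exact S.syl.le ht'
      exact inv_mem_iff.1 h2
    intro x hx
    obtain ⟨b, hb, rfl⟩ := (S.mem_Qb f).1 hx
    have hbK : (n : G)⁻¹ * b * n ∈ centralizer (K : Set G) := by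
      rw [mem_centralizer_iff]
      intro k hk
      have h3 : (n : G) * k * (n : G)⁻¹ ∈ K := (mem_normalizer_iff.1 hN k).1 hk
      have h4 := (S.commKQ h3 hb).eq
      calc k * ((n : G)⁻¹ * b * n) = (n : G)⁻¹ * ((n * k * (n : G)⁻¹) * b) * n := by group
        _ = (n : G)⁻¹ * (b * (n * k * (n : G)⁻¹)) * n := by rw [h4]
        _ = (n : G)⁻¹ * b * n * k := by group
    have hbQ : ∀ a ∈ Q, Commute ((n : G)⁻¹ * b * n) a := by
      intro a ha
      have h3 := hcomm _ ((S.mem_Qb f).2 ⟨a, ha, rfl⟩) _ ((S.mem_Qb f).2 ⟨b, hb, rfl⟩)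
      have h4 : Commute (f ⟨a, S.Q_le ha⟩) (f (n⁻¹ * ⟨b, S.Q_le hb⟩ * n)) := by
        rw [map_mul, map_mul, map_inv]; exact h3
      exact (S.lift f hf (n := ⟨a, S.Q_le ha⟩) (x := n⁻¹ * ⟨b, S.Q_le hb⟩ * n) (hsq b hb) (key b hb) h4).symm
    obtain ⟨c, hc, o, ho, e3⟩ := S.dec _ hbK hbQ
    refine (S.mem_Qb f).2 ⟨c, hc, ?_⟩
    have hoX : o ∈ normalizer (O : Set G) := le_normalizer ho
    have e4 : n⁻¹ * ⟨b, S.Q_le hb⟩ * n = ⟨c, S.Q_le hc⟩ * ⟨o, hoX⟩ := Subtype.ext e3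
    have e2 : f ⟨o, hoX⟩ = 1 := (hf _).2 ho
    rw [← map_inv, ← map_mul, ← map_mul, e4, map_mul, e2, mul_one]

end quot

/-! ### Elements of `IsN4Q` -/

section n4

variable [CharP F 2]

theorem odd_order {o : G} [Finite G] (ho : o ∈ O) : Nat.Coprime 4 (orderOf o) := by
  have h1 : ¬ 2 ∣ orderOf o := by
    rintro ⟨k, hk⟩
    have hpos := orderOf_pos o
    have h2 : o ^ k = 1 := by
      apply S.odd _ (pow_mem ho k)
      rw [← pow_add, ← two_mul, ← hk, pow_orderOf_eq_one]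
    have h3 := orderOf_dvd_of_pow_eq_one h2
    have h4 := Nat.le_of_dvd (by omega) h3
    omega
  rw [show (4 : ℕ) = 2 ^ 2 by norm_num]
  exact Nat.Coprime.pow_left 2 ((Nat.Prime.coprime_iff_not_dvd Nat.prime_two).2 h1)

/-- conjugates of elements of `O` by elements of `IsN4Q` -/
theorem n4_conj [Finite G] {m : G} (h : IsN4Q B Q m) {o : G} (ho : o ∈ O) : m⁻¹ * o * m ∈ O := by
  have hv : ∀ s k r, Commute (m⁻¹ * o * m) (B.v1 s k r) := by
    intro s k r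
    have h1 := (h.cent s k r).eq
    have h2 : Commute (B.v1 s k r) o :=
      S.commK (mul_mem (mul_mem (S.hK.xb_mem s) (S.hK.zs_mem k)) (S.hK.zl_mem r)) ho
    show m⁻¹ * o * m * B.v1 s k r = B.v1 s k r * (m⁻¹ * o * m)
    calc m⁻¹ * o * m * B.v1 s k r = m⁻¹ * o * (m * B.v1 s k r) := by group
      _ = m⁻¹ * (o * B.v1 s k r) * m := by rw [h1]; group
      _ = m⁻¹ * B.v1 s k r * m * (m⁻¹ * o * m) := by rw [← h2.eq]; group
      _ = B.v1 s k r * (m⁻¹ * o * m) := by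
        have : m⁻¹ * B.v1 s k r * m = B.v1 s k r := by rw [mul_assoc, ← h1, inv_mul_cancel_left]
        rw [this]
  have hzs : ∀ u, Commute (m⁻¹ * o * m) (B.zs u) := fun u => by
    have := hv 0 u 0; rwa [B.v1_zs] at this
  have hzl : ∀ u, Commute (m⁻¹ * o * m) (B.zl u) := fun u => by
    have := hv 0 0 u; rwa [B.v1_zl] at this
  have hxb : ∀ u, Commute (m⁻¹ * o * m) (B.xb u) := fun u => by
    have := hv u 0 0; rwa [B.v1_xb] at this
  have ht : ∀ t ∈ Q, Commute (m⁻¹ * o * m) t := by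
    intro t ht
    obtain ⟨w, hw⟩ := h.tr t ht
    have h1 : t = m⁻¹ * t * m * B.zs w := by
      rw [hw, mul_assoc, Comm.sq_of_add B.zs_add, mul_one]
    have h2 : Commute (m⁻¹ * o * m) (m⁻¹ * t * m) := by
      have h3 := (S.oq o ho t ht).eq
      show m⁻¹ * o * m * (m⁻¹ * t * m) = m⁻¹ * t * m * (m⁻¹ * o * m)
      calc m⁻¹ * o * m * (m⁻¹ * t * m) = m⁻¹ * (o * t) * m := by group
        _ = m⁻¹ * t * m * (m⁻¹ * o * m) := by rw [← h3]; group
    rw [h1]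
    exact h2.mul_right (hzs w)
  obtain ⟨t, htQ, o', ho', u, s, k, r, e⟩ := S.form ht hzs hzl
  -- the fourth power lies in `O`
  set v := B.xa u * B.xb s * B.zs k * B.zl r with hv'
  have hvK : v ∈ K := S.nf_mem u s k r
  have h4 : (m⁻¹ * o * m) ^ 4 = o' ^ 4 := by
    have c1 : Commute v (t * o') := (S.commKQ hvK htQ).mul_right (S.commK hvK ho')
    have hv4 : v ^ 4 = 1 := by
      have := SpFourU.IsU.pow_four (B := B) (g := v) ⟨u, s, k, r, rfl⟩
      exact this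
    have ht4 : t ^ 4 = 1 := by
      rw [show (4 : ℕ) = 2 * 2 by norm_num, pow_mul, pow_two t, S.qc.sq t htQ, one_pow]
    rw [e, c1.mul_pow, (S.oq o' ho' t htQ).mul_pow, hv4, ht4, one_mul, one_mul]
  obtain ⟨j, hj⟩ := exists_pow_eq_self_of_coprime (S.odd_order ho)
  have h5 : m⁻¹ * o * m = ((m⁻¹ * o * m) ^ 4) ^ j := by
    have h6 : ∀ n : ℕ, (m⁻¹ * o * m) ^ n = m⁻¹ * o ^ n * m := by
      intro n
      have := conj_pow (i := n) (a := m⁻¹) (b := o)
      rwa [inv_inv] at this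
    rw [h6]
    have h7 : (m⁻¹ * o ^ 4 * m) ^ j = m⁻¹ * (o ^ 4) ^ j * m := by
      have := conj_pow (i := j) (a := m⁻¹) (b := o ^ 4)
      rwa [inv_inv] at this
    rw [h7, hj]
  rw [h5, h4]
  exact pow_mem (pow_mem ho' 4) j

theorem n4_mem [Finite G] {m : G} (h : IsN4Q B Q m) : m ∈ normalizer (O : Set G) := by
  apply mem_normalizer_fintype
  intro o ho
  have := S.n4_conj (SpFourShort.N4.inv h) ho
  rwa [inv_inv] at this

variable {H : Type*} [Group H] (f : ↥(normalizer (O : Set G)) →* H)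
  (hf : ∀ x : ↥(normalizer (O : Set G)), f x = 1 ↔ (x : G) ∈ O)

/-- the image of an element of `IsN4Q` -/
theorem n4_map {m : G} (h : IsN4Q B Q m) (hm : m ∈ normalizer (O : Set G)) :
    IsN4Q (S.Bb f hf) (Qb Q f) (f ⟨m, hm⟩) where
  cent := by
    intro s k r
    rw [S.v1_eq f hf]
    exact cm (Subtype.ext (h.cent s k r).eq)
  xa := by
    intro u
    obtain ⟨s, k, r, e⟩ := h.xa u
    refine ⟨s, k, r, ?_⟩
    rw [S.v1_eq f hf]
    show (f _)⁻¹ * f _ * f _ = f _ * f _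
    rw [← map_inv, ← map_mul, ← map_mul, ← map_mul]
    congr 1
    exact Subtype.ext e
  tor := by
    intro α
    obtain ⟨s, k, r, e⟩ := h.tor α
    refine ⟨s, k, r, ?_⟩
    rw [S.v1_eq f hf]
    show (f _)⁻¹ * f _ * f _ = f _ * f _
    rw [← map_inv, ← map_mul, ← map_mul, ← map_mul]
    congr 1
    exact Subtype.ext e
  tr := by
    intro x hx
    obtain ⟨t, ht, rfl⟩ := (S.mem_Qb f).1 hx
    obtain ⟨w, e⟩ := h.tr t ht
    refine ⟨w, ?_⟩
    show (f _)⁻¹ * f _ * f _ = f _ * f _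
    rw [← map_inv, ← map_mul, ← map_mul, ← map_mul]
    congr 1
    exact Subtype.ext e

include hf in
theorem n4_ne {m : G} (h : IsN4Q B Q m) (hm : m ∈ normalizer (O : Set G)) (hne : ∃ t ∈ Q, m⁻¹ * t * m ≠ t) :
    ∃ t ∈ Qb Q f, (f ⟨m, hm⟩)⁻¹ * t * f ⟨m, hm⟩ ≠ t := by
  obtain ⟨t, ht, hne⟩ := hne
  refine ⟨_, (S.mem_Qb f).2 ⟨t, ht, rfl⟩, fun e => hne ?_⟩
  obtain ⟨w, hw⟩ := h.tr t ht
  have h1 : f (⟨m, hm⟩⁻¹ * ⟨t, S.Q_le ht⟩ * ⟨m, hm⟩) = f ⟨t, S.Q_le ht⟩ := by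
    rw [map_mul, map_mul, map_inv]; exact e
  refine S.eq_of f hf (x := ⟨m, hm⟩⁻¹ * ⟨t, S.Q_le ht⟩ * ⟨m, hm⟩) ?_ (S.qc.sq t ht) (fun o ho => S.oq o ho t ht) h1
  show (m⁻¹ * t * m) * (m⁻¹ * t * m) = 1
  calc (m⁻¹ * t * m) * (m⁻¹ * t * m) = m⁻¹ * (t * t) * m := by group
    _ = 1 := by rw [S.qc.sq t ht]; group

end n4

end Sit

/-! ### The second mover -/

section mover

variable {B : Base F G} {Q : Subgroup G} [CharP F 2] [Finite F]

/-- the long mover from the short layer -/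
theorem exists_y (hB : QB B Q) (S : ShortQ B Q) :
    ∃ y : G, ∀ t ∈ Q, y⁻¹ * t * y = t * B.zl (S.a t ^ 2 + S.e * S.a t) := by
  refine ⟨Comm.cj (SpFourCore.q' (SpFourSwapQ.swapL S) 1) (B.xb 1) * S.p 1, ?_⟩
  intro t ht
  have h1 := SpFourCore.cu_t (SpFourSwapQ.swapQB hB) (SpFourSwapQ.swapL S) 1 ht
  change Comm.cj (Comm.cj (SpFourCore.q' (SpFourSwapQ.swapL S) 1) (B.xb 1)) t =
    t * (B.zl (1 * (S.a t ^ 2 + S.e * rt (S.a t ^ 2))) * B.zs (rt (1 ^ 2 * S.a t ^ 2))) at h1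
  rw [one_mul, one_pow, one_mul, rt_sq] at h1
  set y0 := Comm.cj (SpFourCore.q' (SpFourSwapQ.swapL S) 1) (B.xb 1) with hy0
  have h2 : Comm.cj (y0 * S.p 1) t = Comm.cj (S.p 1) (Comm.cj y0 t) := by simp [Comm.cj, mul_assoc]
  have h3 : Comm.cj (y0 * S.p 1) t = t * B.zl (S.a t ^ 2 + S.e * S.a t) := by
    rw [h2, h1, Comm.cj_mul, Comm.cj_mul, SpFourCore.cp_t S 1 ht, SpFourCore.cp_zl, SpFourCore.cp_zs, mul_one]
    have h4 := (B.zs_zl (S.a t) (S.a t ^ 2 + S.e * S.a t)).eq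
    have h5 := Comm.sq_of_add B.zs_add (S.a t)
    calc t * B.zs (S.a t) * (B.zl (S.a t ^ 2 + S.e * S.a t) * B.zs (S.a t)) =
        t * (B.zs (S.a t) * B.zl (S.a t ^ 2 + S.e * S.a t)) * B.zs (S.a t) := by group
      _ = t * B.zl (S.a t ^ 2 + S.e * S.a t) * (B.zs (S.a t) * B.zs (S.a t)) := by rw [h4]; group
      _ = _ := by rw [h5, mul_one]
  exact h3

end mover

variable {B : Base F G} {K Q : Subgroup G}

/-- **[E], short roots.** -/
theorem endS [Finite G] [CharP F 2] [Fintype F] (hF : 4 ≤ Fintype.card F) (hK : KCent B K) (hA : KAut B K)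
    (env : Env K) (hQ : IsSyl Q (centralizer (K : Set G))) (hqc : QC B Q)
    (h4 : ∃ t1 ∈ Q, ∃ t2 ∈ Q, t1 ≠ 1 ∧ t2 ≠ 1 ∧ t1 ≠ t2) {g : G} (hg : RootS B Q g) : False := by
  obtain ⟨O, o1, o2, o3, o4⟩ := exists_O hQ (fun x hx y hy => SpFourShort.QC.comm hqc hx hy)
  have S : Sit B K Q O := ⟨hK, hA, env, hQ, hqc, o1, o2, o3, o4⟩
  have hM := env.maxK hQ
  obtain ⟨m, hm, hne⟩ := SpFourMover.exists_n4 hF hK hqc hM hg
  let f := QuotientGroup.mk' (O.subgroupOf (normalizer (O : Set G)))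
  have hf : ∀ x : ↥(normalizer (O : Set G)), f x = 1 ↔ (x : G) ∈ O := fun x => by
    rw [QuotientGroup.mk'_apply, QuotientGroup.eq_one_iff, mem_subgroupOf]
  have hs : Function.Surjective f := QuotientGroup.mk'_surjective _
  have hB := S.qb f hf hs
  obtain ⟨Sh⟩ := SpFourShort.exists_shortQ hF hB (S.n4_map f hf hm (S.n4_mem hm)) (S.n4_ne f hf hm (S.n4_mem hm) hne)
  -- the second mover
  obtain ⟨y, hy⟩ := exists_y hB Sh
  obtain ⟨n, rfl⟩ := hs y
  have hmem : ∀ {t : G} (ht : t ∈ Q), f ⟨t, S.Q_le ht⟩ ∈ Sit.Qb Q f := fun ht => (S.mem_Qb f).2 ⟨_, ht, rfl⟩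
  have hn : ∀ (t : G) (ht : t ∈ Q), (n : G)⁻¹ * t * n =
      t * B.zl (Sh.a (f ⟨t, S.Q_le ht⟩) ^ 2 + Sh.e * Sh.a (f ⟨t, S.Q_le ht⟩)) := by
    intro t ht
    set w := Sh.a (f ⟨t, S.Q_le ht⟩) ^ 2 + Sh.e * Sh.a (f ⟨t, S.Q_le ht⟩) with hw
    have h1 : f (n⁻¹ * ⟨t, S.Q_le ht⟩ * n) = f (⟨t, S.Q_le ht⟩ * ⟨B.zl w, S.inX.zl w⟩) := by
      rw [map_mul, map_mul, map_inv, map_mul]
      exact hy _ (hmem ht)
    have hc := S.commKQ (hK.zl_mem w) ht
    refine S.eq_of f hf (x := n⁻¹ * ⟨t, S.Q_le ht⟩ * n) (y := ⟨t, S.Q_le ht⟩ * ⟨B.zl w, S.inX.zl w⟩) ?_ ?_ ?_ h1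
    · show ((n : G)⁻¹ * t * n) * ((n : G)⁻¹ * t * n) = 1
      calc ((n : G)⁻¹ * t * n) * ((n : G)⁻¹ * t * n) = (n : G)⁻¹ * (t * t) * n := by group
        _ = 1 := by rw [hqc.sq t ht]; group
    · show t * B.zl w * (t * B.zl w) = 1
      calc t * B.zl w * (t * B.zl w) = t * (B.zl w * t) * B.zl w := by group
        _ = (t * t) * (B.zl w * B.zl w) := by rw [hc.eq]; group
        _ = 1 := by rw [hqc.sq t ht, Comm.sq_of_add B.zl_add, one_mul]
    · intro o ho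
      exact (S.oq o ho t ht).mul_left (S.commK (hK.zl_mem w) ho)
  have hroot : RootS (Swap.swap B) Q ((n : G)⁻¹) := by
    refine ⟨fun t ht => ⟨t, ht, Sh.a (f ⟨t, S.Q_le ht⟩) ^ 2 + Sh.e * Sh.a (f ⟨t, S.Q_le ht⟩), ?_⟩, ?_, ?_⟩
    · rw [inv_inv]; exact hn t ht
    · intro t ht w e
      rw [inv_inv, hn t ht] at e
      change _ = B.zl w at e
      set w' := Sh.a (f ⟨t, S.Q_le ht⟩) ^ 2 + Sh.e * Sh.a (f ⟨t, S.Q_le ht⟩) with hw
      have e1 : t = B.zl (w + w') := by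
        rw [B.zl_add, ← e, mul_assoc, Comm.sq_of_add B.zl_add, mul_one]
      have e2 : w + w' = 0 := SpFourShort.QC.one_of_zl hqc (e1 ▸ ht)
      rw [e1, e2, B.zl_zero]
    · -- some element of `Q` is moved
      obtain ⟨t1, ht1, t2, ht2, n1, n2, n12⟩ := h4
      have hinj : ∀ {s t : G} (hs : s ∈ Q) (ht : t ∈ Q), f ⟨s, S.Q_le hs⟩ = f ⟨t, S.Q_le ht⟩ → s = t :=
        fun {s t} hs ht e => S.eq_of f hf (x := ⟨s, S.Q_le hs⟩) (y := ⟨t, S.Q_le ht⟩) (hqc.sq s hs) (hqc.sq t ht)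
          (fun o ho => S.oq o ho t ht) e
      have hone : ∀ {t : G} (ht : t ∈ Q), t ≠ 1 → f ⟨t, S.Q_le ht⟩ ≠ 1 := by
        intro t ht h1 e
        apply h1
        exact S.one_of_Q ht ((hf _).1 e)
      have key : ∀ {t : G} (ht : t ∈ Q), t ≠ 1 → (n : G)⁻¹ * t * (n : G)⁻¹⁻¹ ∈ Q →
          Sh.a (f ⟨t, S.Q_le ht⟩) = Sh.e := by
        intro t ht h1 h2
        rw [inv_inv, hn t ht] at h2
        have h3 := (Subgroup.mul_mem_cancel_left Q ht).1 h2
        have h5 := SpFourShort.QC.one_of_zl hqc h3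
        have h6 := Sh.a_ne _ (hmem ht) (hone ht h1)
        have h7 : Sh.a (f ⟨t, S.Q_le ht⟩) * (Sh.a (f ⟨t, S.Q_le ht⟩) + Sh.e) = 0 := by
          rw [← h5]; ring
        exact CharTwo.add_eq_zero.1 ((mul_eq_zero.1 h7).resolve_left h6)
      by_contra hcon
      push Not at hcon
      have k1 := key ht1 n1 (hcon t1 ht1)
      have k2 := key ht2 n2 (hcon t2 ht2)
      apply n12
      apply hinj ht1 ht2
      exact SpFourShort.ShortQ.a_inj hB Sh (hmem ht1) (hmem ht2) (k1.trans k2.symm)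
  obtain ⟨m', hm', hne'⟩ := SpFourMover.exists_n4 hF (KCent.swap hK) (SpFourCent.QC.swap hqc) hM hroot
  have S' := S.swap
  obtain ⟨L⟩ := SpFourShort.exists_longQ (m0 := f ⟨m', S'.n4_mem hm'⟩) hF hB
    (S'.n4_map f hf hm' (S'.n4_mem hm')) (S'.n4_ne f hf hm' (S'.n4_mem hm') hne')
  refine SpFourCore.core hF hB ?_ Sh L (fun g hg => SpFourShort.ShortQ.ratio hB Sh hg)
    (fun g hg => SpFourShort.LongQ.ratio hB L hg)
  obtain ⟨t1, ht1, t2, ht2, n1, n2, n12⟩ := h4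
  refine ⟨_, hmem ht1, _, hmem ht2, fun e => n1 (S.one_of_Q ht1 ((hf _).1 e)),
    fun e => n2 (S.one_of_Q ht2 ((hf _).1 e)), fun e => n12 ?_⟩
  exact S.eq_of f hf (x := ⟨t1, S.Q_le ht1⟩) (y := ⟨t2, S.Q_le ht2⟩) (hqc.sq t1 ht1) (hqc.sq t2 ht2)
    (fun o ho => S.oq o ho t2 ht2) e

/-- **[E], long roots.** -/
theorem endL [Finite G] [CharP F 2] [Fintype F] (hF : 4 ≤ Fintype.card F) (hK : KCent B K) (hA : KAut B K)
    (env : Env K) (hQ : IsSyl Q (centralizer (K : Set G))) (hqc : QC B Q)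
    (h4 : ∃ t1 ∈ Q, ∃ t2 ∈ Q, t1 ≠ 1 ∧ t2 ≠ 1 ∧ t1 ≠ t2) {g : G} (hg : RootS (swap B) Q g) : False :=
  endS hF (KCent.swap hK) (KAut.swap hA) env hQ (SpFourCent.QC.swap hqc) h4 hg

end Cfsg.Agent.OddHalf.D4.SpFourEnd

end
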