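import Mathlib
import Cfsg.Agent.OddHalf.D4.SpFourPar
import Cfsg.Agent.OddHalf.D4.SpFourTyp
import Cfsg.Agent.StdRank2.OutField
import Cfsg.Agent.StdSpFour.EnvFacts
import Cfsg.Agent.OddHalf.D4.SpFourU
import Cfsg.Agent.StdSpFour.SpEnv
import Cfsg.Agent.OddHalf.D4.Exists
import Cfsg.Agent.StdRank2.B2Inst
import Cfsg.Agent.Schreier.ClassPSp

-- merged: Cfsg.Agent.OddHalf.D4.SpFourTOneA
section

/-!
# ODD D4, `K = Sp₄(q)`: frames with `R ∩ K ≠ 1`
-/

set_option autoImplicit false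
set_option linter.unusedSectionVars false

namespace Cfsg.Agent.OddHalf.D4.SpFourTOneA

open Cfsg.Agent.StdSpFour Subgroup Cfsg.Agent.OddHalf.D4 Cfsg.Agent.OddHalf.D4.Basic
open Cfsg.Agent.StdSpFour.Swap (rt rt_sq sq_rt rt_zero rt_eq_zero swap)
open Cfsg.Agent.OddHalf.D4.SpFourDefs Cfsg.Agent.OddHalf.D4.SpFourCent
open Cfsg.Agent.OddHalf.D4.SpFourU Cfsg.Agent.OddHalf.D4.SpFourFr Cfsg.Agent.OddHalf.D4.SpFourTyp
open Cfsg.Agent.OddHalf.D4.SpFourPar (P2 P2_le P2_comm mem_P2 exists_ne_ne P2_perfect P2_two P2_V2 exists_zs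
  comm_of_comm_mem le_of_P2_P1)
open Cfsg.Agent.OddHalf.D4.CommConj (cj mem_cj mem_cj_mul)

variable {F G : Type*} [Field F] [CharP F 2] [Finite F] [Group G] [Finite G]
variable {B : Base F G} {K L Q R : Subgroup G}

theorem two_of_isU {v : G} (h : IsU B v) : ∃ k : ℕ, v ^ 2 ^ k = 1 := ⟨2, IsU.pow_four h⟩

theorem zl_ne {r : F} (hr : r ≠ 0) : B.zl r ≠ 1 := by
  intro h
  rw [zl_eq] at h
  exact hr (nf_one h).2.2.2

theorem zs_ne {r : F} (hr : r ≠ 0) : B.zs r ≠ 1 := by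
  intro h
  rw [zs_eq] at h
  exact hr (nf_one h).2.2.1

/-- elements commuting with a 2-element `≠ 1` of `C(L)` -/
theorem memN (h : Fr K L Q R) {x y : G} (hx : x ∈ centralizer (L : Set G)) (h2 : ∃ k : ℕ, x ^ 2 ^ k = 1)
    (h1 : x ≠ 1) (hy : Commute y x) : y ∈ normalizer (L : Set G) :=
  TightAt.mem2 h.envL.tight hx h2 h1 hy.eq

/-- **Lemma E.** -/
theorem rootE (hF : 4 ≤ Nat.card F) (hK : KCent B K) (h : Fr K L Q R) (hP : P2 B ≤ normalizer (L : Set G)) {g : G}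
    (hg : g ∈ P2 B) (hgJ : g ∈ centralizer (L : Set G)) : ∃ r, g = B.zl r := by
  by_contra hcon
  push Not at hcon
  obtain ⟨m, hm, hmJ⟩ := exists_zs hF hK (J := centralizer (L : Set G))
    (fun p hp x hx => centralizer_conj_mem (hP hp) hx) hg hgJ hcon
  apply h.star
  refine le_of_P2_P1 hK.toKBase hP ?_
  intro p hp
  have h1 := P2_comm (B := swap B) (m ^ 2) p hp
  change Commute p (B.zs (rt (m ^ 2))) at h1
  rw [rt_sq] at h1
  exact memN h hmJ (two_of_isU (isU_zs m)) (zs_ne hm) h1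

/-- **Lemma F.** -/
theorem root2 (hF : 4 ≤ Nat.card F) (hK : KCent B K) (h : Fr K L Q R) {r : F} (hr : r ≠ 0)
    (hJ : B.zl r ∈ centralizer (L : Set G)) (hc : ∀ x ∈ R, Commute x (B.zl r)) : False := by
  have hP : P2 B ≤ normalizer (L : Set G) := fun p hp =>
    memN h hJ (two_of_isU (isU_zl r)) (zl_ne hr) (P2_comm r p hp)
  have hcom : ∀ p ∈ P2 B, ∀ x ∈ R, Commute p x := by
    intro p hp x hx
    refine comm_of_comm_mem hF hK.toKBase ?_ p hp
    intro p hp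
    obtain ⟨h1, h2⟩ := commutator_mem (K := K) (L := L) (P2_le hK.toKBase hp) (hP hp) (h.fp.sylU.le hx)
      (h.leR hx)
    have h3 : Commute (p * x * p⁻¹ * x⁻¹) (B.zl r) :=
      (((P2_comm r p hp).mul_left (hc x hx)).mul_left (P2_comm r p hp).inv_left).mul_left (hc x hx).inv_left
    exact rootE hF hK h hP (mem_P2 hK h1 hr h3) h2
  have h1 := h.envL.maxK h.fp.sylU (P2 B) (P2_perfect hF hK.toKBase) (P2_two hK.toKBase) hcom
  exact zl_ne hr (h.envL.cen _ (h1 (SpFourPar.zl_mem r)) hJ)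

/-- **Lemma F**, short roots -/
theorem root2s (hF : 4 ≤ Nat.card F) (hK : KCent B K) (h : Fr K L Q R) {r : F} (hr : r ≠ 0)
    (hJ : B.zs r ∈ centralizer (L : Set G)) (hc : ∀ x ∈ R, Commute x (B.zs r)) : False := by
  have e : (swap B).zl (r ^ 2) = B.zs r := by
    show B.zs (rt (r ^ 2)) = _
    rw [rt_sq]
  refine root2 (B := swap B) hF (KCent.swap hK) h (r := r ^ 2) (pow_ne_zero 2 hr) ?_ ?_
  · rw [e]; exact hJ
  · rw [e]; exact hc

/-! ### A mixed element in `C(L)` -/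

section Mix

variable {m n : F}

/-- no long root elements in `C(L)` -/
theorem noL (hF : 4 ≤ Nat.card F) (hK : KCent B K) (h : Fr K L Q R) (hm : m ≠ 0)
    (hw : B.zs m * B.zl n ∈ centralizer (L : Set G)) {r : F} (hr : B.zl r ∈ centralizer (L : Set G)) : r = 0 := by
  by_contra h0
  have hP : P2 B ≤ normalizer (L : Set G) := fun p hp =>
    memN h hr (two_of_isU (isU_zl r)) (zl_ne h0) (P2_comm r p hp)
  obtain ⟨c, hc⟩ := rootE hF hK h hP (SpFourPar.isU_mem (isU_z m n)) hw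
  rw [z_eq, zl_eq] at hc
  exact hm (nf_inj hc).2.2.1

/-- no short root elements in `C(L)` -/
theorem noS (hF : 4 ≤ Nat.card F) (hK : KCent B K) (h : Fr K L Q R) (hn : n ≠ 0)
    (hw : B.zs m * B.zl n ∈ centralizer (L : Set G)) {r : F} (hr : B.zs r ∈ centralizer (L : Set G)) : r = 0 := by
  have h1 : r ^ 2 = 0 := by
    apply noL (B := swap B) (m := n) (n := m ^ 2) hF (KCent.swap hK) h hn
    · show B.zl n * B.zs (rt (m ^ 2)) ∈ _
      rw [rt_sq, ← (B.zs_zl m n).eq]; exact hw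
    · show B.zs (rt (r ^ 2)) ∈ _
      rw [rt_sq]; exact hr
  exact pow_eq_zero_iff two_ne_zero |>.1 h1

/-- `U ≤ N(L)` -/
theorem memU (h : Fr K L Q R) (hm : m ≠ 0) (hw : B.zs m * B.zl n ∈ centralizer (L : Set G)) {v : G}
    (hv : IsU B v) : v ∈ normalizer (L : Set G) := by
  refine memN h hw (two_of_isU (isU_z m n)) ?_ (z_comm hv m n)
  intro h1
  rw [z_eq] at h1
  exact hm (nf_one h1).2.2.1

/-- `na ∉ N(L)` -/
theorem naN (hF : 4 ≤ Nat.card F) (hK : KCent B K) (h : Fr K L Q R) (hm : m ≠ 0) (hn : n ≠ 0)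
    (hw : B.zs m * B.zl n ∈ centralizer (L : Set G)) : B.na ∉ normalizer (L : Set G) := by
  intro hna
  -- the key calculation
  have key : ∀ {m n : F}, m ≠ 0 → n ≠ 0 → B.zs m * B.zl n ∈ centralizer (L : Set G) →
      m = n ∧ ∀ c, nf B 0 0 (c * n) (c ^ 2 * n) ∈ centralizer (L : Set G) := by
    intro m n hm hn hw
    have h1 := centralizer_conj_mem hna hw
    rw [mul_conj, na_zs', na_zl'] at h1
    have h2 : B.zs m * B.xb n = nf B 0 n m 0 := by
      rw [zs_eq, xb_eq, nf_mul]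
      congr 1 <;> ring
    rw [h2] at h1
    have h3 : ∀ c, nf B 0 0 (c * n) (c ^ 2 * n) ∈ centralizer (L : Set G) := by
      intro c
      have h4 := centralizer_conj_mem (memU h hm hw (isU_xa c)) h1
      rw [xa_eq, nf_conj] at h4
      have h5 := (centralizer (L : Set G)).mul_mem h1 h4
      rw [nf_mul] at h5
      have e : nf B (0 + 0) (n + n) (m + (m + (0 * 0 + c * n)) + 0 * n) (0 + (0 + (0 ^ 2 * 0 + c ^ 2 * n)) + 0 ^ 2 * n) =
          nf B 0 0 (c * n) (c ^ 2 * n) := by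
        have h2 : (2 : F) = 0 := CharTwo.two_eq_zero
        congr 1
        · ring
        · exact CharTwo.add_self_eq_zero n
        · linear_combination m * h2
        · ring
      rwa [e] at h5
    refine ⟨?_, h3⟩
    have h4 := (centralizer (L : Set G)).mul_mem hw (h3 1)
    rw [z_eq, nf_mul] at h4
    have e : nf B (0 + 0) (0 + 0) (m + 1 * n + 0 * 0) (n + 1 ^ 2 * n + 0 ^ 2 * 0) = B.zs (m + n) := by
      have h2 : (2 : F) = 0 := CharTwo.two_eq_zero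
      rw [zs_eq]
      congr 1
      · ring
      · ring
      · ring
      · linear_combination n * h2
    rw [e] at h4
    exact FieldAux.eq_of_add_eq_zero (noS hF hK h hn hw h4)
  obtain ⟨_, h1⟩ := key hm hn hw
  obtain ⟨c, hc0, hc1⟩ := exists_ne_ne hF (1 : F)
  have h2 := h1 c
  rw [← z_eq] at h2
  obtain ⟨h3, _⟩ := key (mul_ne_zero hc0 hn) (mul_ne_zero (pow_ne_zero 2 hc0) hn) h2
  apply hc1
  have h4 : c * n * (c + 1) = 0 := by
    have h2 : (2 : F) = 0 := CharTwo.two_eq_zero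
    linear_combination -h3 + c * n * h2
  rcases mul_eq_zero.1 h4 with h5 | h5
  · exact absurd h5 (mul_ne_zero hc0 hn)
  · exact FieldAux.eq_of_add_eq_zero h5

/-- `nb ∉ N(L)` -/
theorem nbN (hF : 4 ≤ Nat.card F) (hK : KCent B K) (h : Fr K L Q R) (hm : m ≠ 0) (hn : n ≠ 0)
    (hw : B.zs m * B.zl n ∈ centralizer (L : Set G)) : B.nb ∉ normalizer (L : Set G) := by
  apply naN (B := swap B) (m := n) (n := m ^ 2) hF (KCent.swap hK) h hn (pow_ne_zero 2 hm)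
  show B.zl n * B.zs (rt (m ^ 2)) ∈ _
  rw [rt_sq, ← (B.zs_zl m n).eq]; exact hw

end Mix

/-- if the centralizer in `K` of an element of `V₁ ∖ Z` lies in `N ≥ U` then `na ∈ N` -/
theorem na_mem_of (hK : KBase B K) {N : Subgroup G} (hU : ∀ v, IsU B v → v ∈ N) {s m r : F} (hs : s ≠ 0)
    (hc : ∀ y ∈ K, Commute y (nf B 0 s m r) → y ∈ N) : B.na ∈ N := by
  obtain ⟨c, m', e⟩ := exists_conj_V1 (B := B) m r hs
  have h1 : (B.na * B.xa c)⁻¹ * B.xa 1 * (B.na * B.xa c) ∈ N := by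
    apply hc
    · exact K.mul_mem (K.mul_mem (K.inv_mem (K.mul_mem hK.na_mem (hK.xa_mem c))) (hK.xa_mem 1))
        (K.mul_mem hK.na_mem (hK.xa_mem c))
    · have h2 := (z_comm (isU_xa (B := B) 1) m' s).eq
      rw [← e] at h2
      show (B.na * B.xa c)⁻¹ * B.xa 1 * (B.na * B.xa c) * nf B 0 s m r =
        nf B 0 s m r * ((B.na * B.xa c)⁻¹ * B.xa 1 * (B.na * B.xa c))
      calc (B.na * B.xa c)⁻¹ * B.xa 1 * (B.na * B.xa c) * nf B 0 s m r
          = (B.na * B.xa c)⁻¹ * (B.xa 1 * (B.na * B.xa c * nf B 0 s m r * (B.na * B.xa c)⁻¹)) * (B.na * B.xa c) := by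
            group
        _ = _ := by rw [h2]; group
  have h2 : B.na⁻¹ * B.xa 1 * B.na ∈ N := by
    have h3 := N.mul_mem (N.mul_mem (hU _ (isU_xa c)) h1) (N.inv_mem (hU _ (isU_xa c)))
    have e2 : B.xa c * ((B.na * B.xa c)⁻¹ * B.xa 1 * (B.na * B.xa c)) * (B.xa c)⁻¹ = B.na⁻¹ * B.xa 1 * B.na := by
      group
    rwa [e2] at h3
  have hna : B.na⁻¹ = B.na := inv_eq_of_mul_eq_one_right hK.na_sq
  have h3 : B.na * B.xa 1 * B.na⁻¹ ∈ N := by
    rw [hna]
    rw [hna] at h2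
    exact h2
  rw [hK.na_eq]
  exact N.mul_mem (N.mul_mem (hU _ (isU_xa 1)) h3) (hU _ (isU_xa 1))

theorem swap_nf (u m r : F) : nf B u 0 m r = nf (swap B) 0 (u ^ 2) r (m ^ 2) := by
  unfold nf
  show _ = B.xb 0 * B.xa (rt (u ^ 2)) * B.zl r * B.zs (rt (m ^ 2))
  rw [rt_sq, rt_sq, B.xb_zero, mul_one, one_mul, mul_assoc, (B.zs_zl m r).eq, ← mul_assoc]

/-- the dual statement -/
theorem nb_mem_of (hK : KBase B K) {N : Subgroup G} (hU : ∀ v, IsU B v → v ∈ N) {u m r : F} (hu : u ≠ 0)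
    (hc : ∀ y ∈ K, Commute y (nf B u 0 m r) → y ∈ N) : B.nb ∈ N := by
  refine na_mem_of (B := swap B) (KBase.swap hK) (fun v hv => hU v (isU_swap.1 hv)) (s := u ^ 2) (m := r)
    (r := m ^ 2) (pow_ne_zero 2 hu) ?_
  rw [← swap_nf]
  exact hc

/-- an automorphism trivial on `U/Z` is trivial on `Z` -/
theorem comm_Z (hF : 4 ≤ Nat.card F) {x : G} (hx : ∀ v, IsU B v → ∃ m r, x * v * x⁻¹ = B.zs m * B.zl r * v) :
    (∀ m, Commute x (B.zs m)) ∧ ∀ r, Commute x (B.zl r) := by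
  have h1 : ∀ u s, x * nf B 0 0 (u * s) (u ^ 2 * s) * x⁻¹ = nf B 0 0 (u * s) (u ^ 2 * s) := by
    intro u s
    obtain ⟨m, r, e⟩ := hx _ (isU_xa u)
    obtain ⟨m', r', e'⟩ := hx _ (isU_xb s)
    have e1 : nf B 0 0 (u * s) (u ^ 2 * s) = B.xa u * B.xb s * (B.xa u)⁻¹ * (B.xb s)⁻¹ := by
      rw [xa_eq, xb_eq, nf_comm]
      congr 1 <;> ring
    have e2 : B.zs m * B.zl r * B.xa u * (B.zs m' * B.zl r' * B.xb s) * (B.zs m * B.zl r * B.xa u)⁻¹ *
        (B.zs m' * B.zl r' * B.xb s)⁻¹ = B.xa u * B.xb s * (B.xa u)⁻¹ * (B.xb s)⁻¹ := by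
      rw [z_eq, z_eq, xa_eq, xb_eq, nf_mul, nf_mul, nf_comm, nf_comm]
      congr 1 <;> ring
    calc x * nf B 0 0 (u * s) (u ^ 2 * s) * x⁻¹
        = (x * B.xa u * x⁻¹) * (x * B.xb s * x⁻¹) * (x * B.xa u * x⁻¹)⁻¹ * (x * B.xb s * x⁻¹)⁻¹ := by
          rw [e1]; group
      _ = _ := by rw [e, e', e2, ← e1]
  obtain ⟨c, hc0, hc1⟩ := exists_ne_ne hF (1 : F)
  have hc : (1 : F) + c ≠ 0 := fun h => hc1 (FieldAux.eq_of_add_eq_zero h).symm
  have hl : ∀ r, x * B.zl r * x⁻¹ = B.zl r := by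
    intro r
    have h2 := h1 1 (r * (1 + c)⁻¹)
    have h3 := h1 c (r * (1 + c)⁻¹ * c⁻¹)
    have e : B.zl r = nf B 0 0 (1 * (r * (1 + c)⁻¹)) (1 ^ 2 * (r * (1 + c)⁻¹)) *
        nf B 0 0 (c * (r * (1 + c)⁻¹ * c⁻¹)) (c ^ 2 * (r * (1 + c)⁻¹ * c⁻¹)) := by
      have h2 : (2 : F) = 0 := CharTwo.two_eq_zero
      rw [nf_mul, zl_eq]
      congr 1
      · ring
      · ring
      · field_simp
        linear_combination (-r) * h2
      · field_simp
        ring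
    rw [e, mul_conj, h2, h3]
  have hs : ∀ m, x * B.zs m * x⁻¹ = B.zs m := by
    intro m
    have h2 := h1 1 m
    have e : B.zs m = nf B 0 0 (1 * m) (1 ^ 2 * m) * B.zl m := by
      rw [zl_eq, nf_mul, zs_eq]
      congr 1
      · ring
      · ring
      · ring
      · rw [one_pow, one_mul, CharTwo.add_self_eq_zero]; ring
    rw [e, mul_conj, h2, hl]
  exact ⟨fun m => mul_inv_eq_iff_eq_mul.1 (hs m), fun r => mul_inv_eq_iff_eq_mul.1 (hl r)⟩

/-- the `C(K)`-component of an element of `R` lies in `Q` -/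
theorem mem_Q (h : Fr K L Q R) {x v c : G} (hx : x ∈ R) (hv : v ∈ K) (hc : c ∈ centralizer (K : Set G))
    (e : x = v * c) : c ∈ Q := by
  obtain ⟨k, hk⟩ := h.two hx
  refine mem_of_comm_syl h.fp.sylQ hc ⟨k, ?_⟩ ?_
  · exact pow_eq_one_of_decomp h.env.cen hv hc e hk
  · intro t ht
    exact comm_of_decomp hv e (h.fp.sylQ.le ht) (h.fp.comm t ht x hx).symm

/-- **the mixed case** -/
theorem typM_of (hF : 4 ≤ Nat.card F) (hK : KCent B K) (hA : KAut B K) (h : Fr K L Q R) {m n : F} (hm : m ≠ 0)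
    (hn : n ≠ 0) (hw : B.zs m * B.zl n ∈ centralizer (L : Set G)) (hc : ∀ x ∈ R, Commute x (B.zs m * B.zl n)) :
    TypM B Q R := by
  have hU : ∀ v, IsU B v → v ∈ normalizer (L : Set G) := fun v hv => memU h hm hw hv
  have hUK : ∀ {v}, IsU B v → v ∈ K := fun hv => P2_le hK.toKBase (SpFourPar.isU_mem hv)
  have hna := naN hF hK h hm hn hw
  have hnb := nbN hF hK h hm hn hw
  -- `U ∩ C(L) ≤ Z`
  have hZ : ∀ v, IsU B v → v ∈ centralizer (L : Set G) → ∃ m r, v = B.zs m * B.zl r := by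
    rintro _ ⟨u, s, m', r, rfl⟩ hv
    change nf B u s m' r ∈ _ at hv
    have hinv : ¬ (u ≠ 0 ∧ s ≠ 0) := by
      rintro ⟨hu, hs⟩
      obtain ⟨y, e, hy, he, hye⟩ := exists_comm_zl (B := B) (exists_ne_ne hF) m' r hu hs
      have h1 : nf B u s m' r * y * (nf B u s m' r)⁻¹ * y⁻¹ ∈ centralizer (L : Set G) := by
        have h2 := (centralizer (L : Set G)).mul_mem hv
          (centralizer_conj_mem (hU y hy) ((centralizer (L : Set G)).inv_mem hv))
        have e2 : nf B u s m' r * (y * (nf B u s m' r)⁻¹ * y⁻¹) = nf B u s m' r * y * (nf B u s m' r)⁻¹ * y⁻¹ := by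
          group
        rwa [e2] at h2
      rw [hye] at h1
      exact he (noL hF hK h hm hw h1)
    by_cases hs : s = 0
    · by_cases hu : u = 0
      · subst hs hu
        exact ⟨m', r, by rw [z_eq]; rfl⟩
      · exfalso
        subst hs
        apply hnb
        refine nb_mem_of hK.toKBase hU hu (m := m') (r := r) ?_
        intro y _ hy
        refine memN h hv (two_of_isU (isU_nf _ _ _ _)) ?_ hy
        intro h1; exact hu (nf_one h1).1
    · have hu : u = 0 := by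
        by_contra hu
        exact hinv ⟨hu, hs⟩
      exfalso
      subst hu
      apply hna
      refine na_mem_of hK.toKBase hU hs (m := m') (r := r) ?_
      intro y _ hy
      refine memN h hv (two_of_isU (isU_nf _ _ _ _)) ?_ hy
      intro h1; exact hs (nf_one h1).2.1
  -- action of `R` on `U`
  have hRU : ∀ x ∈ R, ∀ v, IsU B v → IsU B (x * v * x⁻¹) := by
    intro x hx v hv
    apply hK.cent_m _ ((mem_normalizer_iff.mp (h.leR hx) v).mp (hUK hv)) m n hm hn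
    have h1 := hc x hx
    have h2 := z_comm hv m n
    exact (h1.mul_left h2).mul_left h1.inv_left
  have hcomm : ∀ x ∈ R, ∀ v, IsU B v → v * x * v⁻¹ * x⁻¹ ∈ centralizer (L : Set G) ∧ IsU B (v * x * v⁻¹ * x⁻¹) := by
    intro x hx v hv
    obtain ⟨_, h2⟩ := commutator_mem (K := K) (L := L) (hUK hv) (hU v hv) (h.fp.sylU.le hx) (h.leR hx)
    refine ⟨h2, ?_⟩
    have h3 := IsU.mul hv (hRU x hx v⁻¹ (IsU.inv hv))
    have e : v * (x * v⁻¹ * x⁻¹) = v * x * v⁻¹ * x⁻¹ := by group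
    rwa [e] at h3
  intro x hx hx1
  have hxZ := comm_Z (B := B) hF (x := x) (by
    intro v hv
    obtain ⟨h1, h2⟩ := hcomm x hx v⁻¹ (IsU.inv hv)
    obtain ⟨m', r', e⟩ := hZ _ h2 h1
    refine ⟨m', r', ?_⟩
    have h3 := (z_comm hv m' r').eq
    calc x * v * x⁻¹ = v * (v⁻¹ * x * v⁻¹⁻¹ * x⁻¹) := by group
      _ = _ := by rw [e, h3])
  obtain ⟨u, s, m', r, hv⟩ := hA x (h.leR hx) hxZ.1 hxZ.2
  change ∀ y ∈ K, Commute ((nf B u s m' r)⁻¹ * x) y at hv
  obtain ⟨c, hcdef⟩ : ∃ c, c = (nf B u s m' r)⁻¹ * x := ⟨_, rfl⟩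
  rw [← hcdef] at hv
  have hcC : c ∈ centralizer (K : Set G) := by
    rw [mem_centralizer_iff]
    intro y hy
    exact (hv y hy).symm.eq
  have hxe : x = nf B u s m' r * c := by rw [hcdef]; group
  have hvK : nf B u s m' r ∈ K := hUK (isU_nf _ _ _ _)
  have hcQ := mem_Q h hx hvK hcC hxe
  -- elements of `K` commuting with `v` lie in `N(L)`
  have hcen : ∀ y ∈ K, Commute y (nf B u s m' r) → y ∈ normalizer (L : Set G) := by
    intro y hy hyv
    apply h.mem hx hx1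
    rw [hxe]
    exact (hyv.mul_right (hv y hy).symm).eq
  have hinv : ¬ (u ≠ 0 ∧ s ≠ 0) := by
    rintro ⟨hu, hs⟩
    obtain ⟨y, e, hy, he, hye⟩ := exists_comm_zl (B := B) (exists_ne_ne hF) m' r hu hs
    obtain ⟨h1, _⟩ := hcomm x hx y hy
    have h2 := (hv y (hUK hy)).eq
    have h3 : (y * x * y⁻¹ * x⁻¹)⁻¹ = B.zl e := by
      have h4 : c * y⁻¹ * c⁻¹ = y⁻¹ := by
        have : c * y⁻¹ = y⁻¹ * c := ((hv y (hUK hy)).inv_right).eq
        rw [this]; group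
      rw [← hye, hxe]
      calc (y * (nf B u s m' r * c) * y⁻¹ * (nf B u s m' r * c)⁻¹)⁻¹
          = (y * nf B u s m' r * (c * y⁻¹ * c⁻¹) * (nf B u s m' r)⁻¹)⁻¹ := by group
        _ = _ := by rw [h4]; group
    have h4 := (centralizer (L : Set G)).inv_mem h1
    rw [h3] at h4
    exact he (noL hF hK h hm hw h4)
  have hs0 : s = 0 := by
    by_contra hs
    have hu : u = 0 := by
      by_contra hu
      exact hinv ⟨hu, hs⟩
    subst hu
    exact hna (na_mem_of hK.toKBase hU hs hcen)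
  have hu0 : u = 0 := by
    by_contra hu
    subst hs0
    exact hnb (nb_mem_of hK.toKBase hU hu hcen)
  subst hs0 hu0
  have hz : nf B 0 0 m' r = B.zs m' * B.zl r := (z_eq m' r).symm
  have hr0 : r ≠ 0 := by
    rintro rfl
    by_cases hm0 : m' = 0
    · subst hm0
      rw [nf_zero, one_mul] at hxe
      exact hx1 (h.eq_one (hxe ▸ hcC) (h.fp.sylU.le hx) (h.two hx))
    · -- short root element
      have hP : P2 (swap B) ≤ normalizer (L : Set G) := by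
        intro p hp
        apply hcen p (P2_le (KBase.swap hK.toKBase) hp)
        have h1 := P2_comm (B := swap B) (m' ^ 2) p hp
        change Commute p (B.zs (rt (m' ^ 2))) at h1
        rw [rt_sq] at h1
        rw [← zs_eq]; exact h1
      obtain ⟨c', hc'⟩ := rootE (B := swap B) hF (KCent.swap hK) h hP
        (SpFourPar.isU_mem (isU_swap.2 (isU_z m n))) hw
      change _ = B.zs (rt c') at hc'
      rw [z_eq, zs_eq] at hc'
      exact hn (nf_inj hc').2.2.2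
  have hm0 : m' ≠ 0 := by
    rintro rfl
    have hP : P2 B ≤ normalizer (L : Set G) := by
      intro p hp
      apply hcen p (P2_le hK.toKBase hp)
      rw [← zl_eq]; exact P2_comm r p hp
    obtain ⟨c', hc'⟩ := rootE hF hK h hP (SpFourPar.isU_mem (isU_z m n)) hw
    rw [z_eq, zl_eq] at hc'
    exact hm (nf_inj hc').2.2.1
  refine ⟨c, hcQ, m', r, hm0, hr0, ?_⟩
  rw [hxe, hz]
  rw [hz] at hvK
  exact (hv _ hvK).symm.eq

/-- every involution of `K` is conjugate into `Z` -/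
theorem inv_conj (hK : KCent B K) {x : G} (hx : x ∈ K) (h2 : x * x = 1) (h1 : x ≠ 1) :
    ∃ k ∈ K, ∃ m r, (m ≠ 0 ∨ r ≠ 0) ∧ k * x * k⁻¹ = B.zs m * B.zl r := by
  have hne : ∀ {k : G} {m r : F}, k * x * k⁻¹ = B.zs m * B.zl r → m ≠ 0 ∨ r ≠ 0 := by
    intro k m r e
    by_contra hcon
    push Not at hcon
    obtain ⟨rfl, rfl⟩ := hcon
    rw [B.zs_zero, B.zl_zero, one_mul] at e
    apply h1
    calc x = k⁻¹ * (k * x * k⁻¹) * k := by group
      _ = 1 := by rw [e]; group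
  obtain ⟨k, hk, hkx⟩ := hK.syl (zpowers x) (by rw [zpowers_le]; exact hx)
    (isPGroup_zpowers ⟨1, by rw [pow_one, pow_two, h2]⟩)
  obtain ⟨u, s, m, r, e⟩ := hkx x (mem_zpowers x)
  change k * x * k⁻¹ = nf B u s m r at e
  have h3 : nf B u s m r * nf B u s m r = 1 := by
    rw [← e]
    calc k * x * k⁻¹ * (k * x * k⁻¹) = k * (x * x) * k⁻¹ := by group
      _ = 1 := by rw [h2]; group
  by_cases hs : s = 0
  · subst hs
    by_cases hu : u = 0
    · subst hu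
      rw [← z_eq] at e
      exact ⟨k, hk, m, r, hne e, e⟩
    · rw [swap_nf] at e
      obtain ⟨c, m', e'⟩ := exists_conj_V1 (B := swap B) r (m ^ 2) (pow_ne_zero 2 hu)
      have e2 : (B.nb * B.xb c) * k * x * (B.nb * B.xb c * k)⁻¹ = B.zs u * B.zl m' := by
        have e3 : B.nb * B.xb c * nf (swap B) 0 (u ^ 2) r (m ^ 2) * (B.nb * B.xb c)⁻¹ =
            B.zl m' * B.zs (rt (u ^ 2)) := e'
        rw [rt_sq, ← e] at e3
        rw [(B.zs_zl u m').eq, ← e3]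
        group
      exact ⟨B.nb * B.xb c * k, K.mul_mem (K.mul_mem hK.nb_mem (hK.xb_mem c)) hk, u, m', hne e2, e2⟩
  · have hu : u = 0 := by
      rcases inv_U h3 with h | h
      · exact h
      · exact absurd h hs
    subst hu
    obtain ⟨c, m', e'⟩ := exists_conj_V1 (B := B) m r hs
    have e2 : (B.na * B.xa c) * k * x * (B.na * B.xa c * k)⁻¹ = B.zs m' * B.zl s := by
      rw [← e', ← e]; group
    exact ⟨B.na * B.xa c * k, K.mul_mem (K.mul_mem hK.na_mem (hK.xa_mem c)) hk, m', s, hne e2, e2⟩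

/-- **frames with `R ∩ K ≠ 1`** -/
theorem hasTyp_of_inf (hF : 4 ≤ Nat.card F) (hK : KCent B K) (hA : KAut B K) (h : Fr K L Q R)
    (hne : ∃ x ∈ R, x ∈ K ∧ x ≠ 1) : HasTyp B K Q R := by
  obtain ⟨x, hxR, hxK, hx1⟩ := hne
  obtain ⟨w, ⟨hwR, hwK⟩, hw2, hwc⟩ := exists_central_invol (T := R) (N := R ⊓ K) h.fp.sylU.two inf_le_left
    (by
      intro h1
      apply hx1
      have : x ∈ R ⊓ K := ⟨hxR, hxK⟩
      rwa [h1, mem_bot] at this)
    (by
      rintro t ht n ⟨hn, hnK⟩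
      exact ⟨R.mul_mem (R.mul_mem ht hn) (R.inv_mem ht), (mem_normalizer_iff.mp (h.leR ht) n).mp hnK⟩)
  have hww : w * w = 1 := by rw [← pow_two, ← hw2, pow_orderOf_eq_one]
  have hw1 : w ≠ 1 := by
    rintro rfl
    rw [orderOf_one] at hw2
    exact absurd hw2 (by norm_num)
  obtain ⟨k, hk, m, r, hmr, e⟩ := inv_conj hK hwK hww hw1
  have h' := h.conj hk
  have hwJ : k * w * k⁻¹ ∈ centralizer ((cj k L : Subgroup G) : Set G) := h'.fp.sylU.le (mem_cj_mul hwR)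
  have hwc' : ∀ x ∈ cj k R, Commute x (k * w * k⁻¹) := by
    intro x hx
    rw [mem_cj] at hx
    have h1 := hwc _ hx
    show x * (k * w * k⁻¹) = k * w * k⁻¹ * x
    calc x * (k * w * k⁻¹) = k * ((k⁻¹ * x * k) * w) * k⁻¹ := by group
      _ = _ := by rw [h1]; group
  rw [e] at hwJ hwc'
  refine ⟨k, hk, ?_⟩
  by_cases hm : m = 0
  · exfalso
    subst hm
    rw [B.zs_zero, one_mul] at hwJ hwc'
    have hr : r ≠ 0 := by
      rcases hmr with h | h
      · exact absurd rfl h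
      · exact h
    exact root2 hF hK h' hr hwJ hwc'
  · by_cases hr : r = 0
    · exfalso
      subst hr
      rw [B.zl_zero, mul_one] at hwJ hwc'
      exact root2s hF hK h' hm hwJ hwc'
    · right; right
      exact typM_of hF hK hA h' hm hr hwJ hwc'

end Cfsg.Agent.OddHalf.D4.SpFourTOneA

end

-- merged: Cfsg.Agent.OddHalf.D4.SpFourFld
section

/-!
# ODD D4, `K = Sp₄(q)`: automorphisms of `K` normalising `U`

An element of `N(K) ∩ N(U)` preserves `{Z_s, Z_l}`; if it fixes `Z_s` and `Z_l` it acts semilinearly. One of the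
involutions of a four-group acting on `U`, all of whose involutions have the same centralizer in `U`, centralizes `Z`.
-/

set_option autoImplicit false
set_option linter.unusedSectionVars false

namespace Cfsg.Agent.OddHalf.D4.SpFourFld

open Cfsg.Agent.StdSpFour Subgroup Cfsg.Agent.OddHalf.D4 Cfsg.Agent.OddHalf.D4.Basic
open Cfsg.Agent.StdSpFour.Swap (rt rt_sq sq_rt rt_zero rt_eq_zero swap)
open Cfsg.Agent.OddHalf.D4.SpFourDefs Cfsg.Agent.OddHalf.D4.SpFourCent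
open Cfsg.Agent.OddHalf.D4.SpFourU Cfsg.Agent.OddHalf.D4.SpFourFr Cfsg.Agent.OddHalf.D4.SpFourTyp
open Cfsg.Agent.OddHalf.D4.SpFourPar (P2 P2_le P2_comm mem_P2 exists_ne_ne P2_perfect P2_two P2_V2 exists_zs
  comm_of_comm_mem le_of_P2_P1)

variable {F G : Type*} [Field F] [CharP F 2] [Finite F] [Group G]

/-- elements of `N(K) ∩ N(U)` -/
structure NU (B : Base F G) (K : Subgroup G) (θ : G) : Prop where
  mem : ∀ x, x ∈ K ↔ θ * x * θ⁻¹ ∈ K
  u : ∀ v, IsU B v ↔ IsU B (θ * v * θ⁻¹)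

variable {B : Base F G} {K : Subgroup G} {θ θ' : G}

theorem NU.inv (h : NU B K θ) : NU B K θ⁻¹ where
  mem := by
    intro x
    rw [h.mem (θ⁻¹ * x * θ⁻¹⁻¹)]
    have e : θ * (θ⁻¹ * x * θ⁻¹⁻¹) * θ⁻¹ = x := by group
    rw [e]
  u := by
    intro x
    rw [h.u (θ⁻¹ * x * θ⁻¹⁻¹)]
    have e : θ * (θ⁻¹ * x * θ⁻¹⁻¹) * θ⁻¹ = x := by group
    rw [e]

theorem NU.mul (h : NU B K θ) (h' : NU B K θ') : NU B K (θ * θ') where
  mem := by
    intro x
    rw [h'.mem x, h.mem]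
    have e : θ * (θ' * x * θ'⁻¹) * θ⁻¹ = θ * θ' * x * (θ * θ')⁻¹ := by group
    rw [e]
  u := by
    intro x
    rw [h'.u x, h.u]
    have e : θ * (θ' * x * θ'⁻¹) * θ⁻¹ = θ * θ' * x * (θ * θ')⁻¹ := by group
    rw [e]

theorem NU.swap (h : NU B K θ) : NU (swap B) K θ :=
  ⟨h.mem, fun v => by rw [isU_swap, isU_swap]; exact h.u v⟩

theorem comm_conj {x y : G} (h : Commute x y) : Commute (θ * x * θ⁻¹) (θ * y * θ⁻¹) := by
  show θ * x * θ⁻¹ * (θ * y * θ⁻¹) = θ * y * θ⁻¹ * (θ * x * θ⁻¹)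
  calc θ * x * θ⁻¹ * (θ * y * θ⁻¹) = θ * (x * y) * θ⁻¹ := by group
    _ = _ := by rw [h.eq]; group

/-- `Z` is invariant -/
theorem NU.z (h : NU B K θ) (m r : F) : ∃ m' r', θ * (B.zs m * B.zl r) * θ⁻¹ = B.zs m' * B.zl r' := by
  have h1 : ∀ v, IsU B v → Commute (θ * (B.zs m * B.zl r) * θ⁻¹) v := by
    intro v hv
    have h2 : IsU B (θ⁻¹ * v * θ⁻¹⁻¹) := (h.inv.u v).1 hv
    have h3 := comm_conj (θ := θ) (z_comm h2 m r).symm
    have e : θ * (θ⁻¹ * v * θ⁻¹⁻¹) * θ⁻¹ = v := by group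
    rwa [e] at h3
  exact center_U ((h.u _).1 (isU_z m r)) (h1 _ (isU_xa 1)) (h1 _ (isU_xb 1))

theorem na_notU (hK : KCent B K) : ¬ IsU B B.na := by
  intro h
  have h1 := hK.na_xa 1 (IsU.mul (IsU.mul h (isU_xa 1)) (IsU.inv h))
  exact one_ne_zero h1

/-- `Z_s ∪ Z_l` is invariant, first half -/
theorem NU.zs_or (h : NU B K θ) (hK : KCent B K) (m : F) :
    (∃ m', θ * B.zs m * θ⁻¹ = B.zs m') ∨ ∃ r', θ * B.zs m * θ⁻¹ = B.zl r' := by
  obtain ⟨m', r', e⟩ := h.z m 0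
  rw [B.zl_zero, mul_one] at e
  by_cases hm : m' = 0
  · right
    subst hm
    exact ⟨r', by rw [e, B.zs_zero, one_mul]⟩
  · by_cases hr : r' = 0
    · left
      subst hr
      exact ⟨m', by rw [e, B.zl_zero, mul_one]⟩
    · exfalso
      apply na_notU hK
      rw [h.u]
      apply hK.cent_m _ ((h.mem _).1 hK.na_mem) m' r' hm hr
      rw [← e]
      exact comm_conj (B.na_zs m)

theorem zs_inj {m m' : F} (h : B.zs m = B.zs m') : m = m' := by
  rw [zs_eq, zs_eq] at h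
  exact (nf_inj h).2.2.1

theorem zl_inj {m m' : F} (h : B.zl m = B.zl m') : m = m' := by
  rw [zl_eq, zl_eq] at h
  exact (nf_inj h).2.2.2

theorem zs_zl_eq {m m' : F} (h : B.zs m = B.zl m') : m = 0 ∧ m' = 0 := by
  rw [zs_eq, zl_eq] at h
  exact ⟨(nf_inj h).2.2.1, (nf_inj h).2.2.2.symm⟩

/-- `Z_s` is mapped onto `Z_s` or `Z_l` -/
theorem NU.perm_s (h : NU B K θ) (hK : KCent B K) :
    (∀ m, ∃ m', θ * B.zs m * θ⁻¹ = B.zs m') ∨ ∀ m, ∃ r', θ * B.zs m * θ⁻¹ = B.zl r' := by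
  by_contra hcon
  push Not at hcon
  obtain ⟨⟨m1, h1⟩, ⟨m2, h2⟩⟩ := hcon
  obtain ⟨r1, e1⟩ : ∃ r', θ * B.zs m1 * θ⁻¹ = B.zl r' := by
    rcases h.zs_or hK m1 with ⟨m', e⟩ | e
    · exact absurd e (h1 m')
    · exact e
  obtain ⟨m2', e2⟩ : ∃ m', θ * B.zs m2 * θ⁻¹ = B.zs m' := by
    rcases h.zs_or hK m2 with e | ⟨r', e⟩
    · exact e
    · exact absurd e (h2 r')
  have hr1 : r1 ≠ 0 := by
    rintro rfl
    apply h1 0
    rw [e1, B.zl_zero, B.zs_zero]
  have hm2 : m2' ≠ 0 := by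
    rintro rfl
    apply h2 0
    rw [e2, B.zl_zero, B.zs_zero]
  have e3 : θ * B.zs (m2 + m1) * θ⁻¹ = B.zs m2' * B.zl r1 := by
    rw [B.zs_add, mul_conj, e1, e2]
  rcases h.zs_or hK (m2 + m1) with ⟨m', e⟩ | ⟨m', e⟩
  · rw [e3, z_eq, zs_eq] at e
    exact hr1 (nf_inj e).2.2.2
  · rw [e3, z_eq, zl_eq] at e
    exact hm2 (nf_inj e).2.2.1

theorem NU.perm_l (h : NU B K θ) (hK : KCent B K) :
    (∀ m, ∃ m', θ * B.zl m * θ⁻¹ = B.zl m') ∨ ∀ m, ∃ r', θ * B.zl m * θ⁻¹ = B.zs r' := by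
  rcases h.swap.perm_s (KCent.swap hK) with h1 | h1
  · exact Or.inl h1
  · right
    intro m
    obtain ⟨r', e⟩ := h1 m
    exact ⟨rt r', e⟩

/-- `θ` fixes `Z_s` and `Z_l` -/
def Pres (B : Base F G) (θ : G) : Prop :=
  (∀ m, ∃ m', θ * B.zs m * θ⁻¹ = B.zs m') ∧ ∀ m, ∃ m', θ * B.zl m * θ⁻¹ = B.zl m'

/-- `θ` interchanges `Z_s` and `Z_l` -/
def Swp (B : Base F G) (θ : G) : Prop :=
  (∀ m, ∃ m', θ * B.zs m * θ⁻¹ = B.zl m') ∧ ∀ m, ∃ m', θ * B.zl m * θ⁻¹ = B.zs m'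

theorem NU.perm (h : NU B K θ) (hK : KCent B K) : Pres B θ ∨ Swp B θ := by
  rcases h.perm_s hK with h1 | h1
  · rcases h.perm_l hK with h2 | h2
    · exact Or.inl ⟨h1, h2⟩
    · exfalso
      obtain ⟨b, hb⟩ := h2 1
      obtain ⟨a, ha⟩ := h1 1
      have ha' : θ⁻¹ * B.zs a * θ⁻¹⁻¹ = B.zs 1 := by rw [← ha]; group
      have hb' : θ⁻¹ * B.zs b * θ⁻¹⁻¹ = B.zl 1 := by rw [← hb]; group
      rcases h.inv.perm_s hK with h3 | h3
      · obtain ⟨c, hc⟩ := h3 b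
        rw [hb'] at hc
        exact one_ne_zero (zs_zl_eq hc.symm).2
      · obtain ⟨c, hc⟩ := h3 a
        rw [ha'] at hc
        exact one_ne_zero (zs_zl_eq hc).1
  · rcases h.perm_l hK with h2 | h2
    · exfalso
      obtain ⟨b, hb⟩ := h2 1
      obtain ⟨a, ha⟩ := h1 1
      have ha' : θ⁻¹ * B.zl a * θ⁻¹⁻¹ = B.zs 1 := by rw [← ha]; group
      have hb' : θ⁻¹ * B.zl b * θ⁻¹⁻¹ = B.zl 1 := by rw [← hb]; group
      rcases h.inv.perm_l hK with h3 | h3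
      · obtain ⟨c, hc⟩ := h3 a
        rw [ha'] at hc
        exact one_ne_zero (zs_zl_eq hc).1
      · obtain ⟨c, hc⟩ := h3 b
        rw [hb'] at hc
        exact one_ne_zero (zs_zl_eq hc.symm).2
    · exact Or.inr ⟨h1, h2⟩

theorem Pres.mul (h : Pres B θ) (h' : Pres B θ') : Pres B (θ * θ') := by
  constructor
  · intro m
    obtain ⟨m1, e1⟩ := h'.1 m
    obtain ⟨m2, e2⟩ := h.1 m1
    refine ⟨m2, ?_⟩
    rw [← e2, ← e1]; group
  · intro m
    obtain ⟨m1, e1⟩ := h'.2 m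
    obtain ⟨m2, e2⟩ := h.2 m1
    refine ⟨m2, ?_⟩
    rw [← e2, ← e1]; group

theorem Swp.mul (h : Swp B θ) (h' : Swp B θ') : Pres B (θ * θ') := by
  constructor
  · intro m
    obtain ⟨m1, e1⟩ := h'.1 m
    obtain ⟨m2, e2⟩ := h.2 m1
    refine ⟨m2, ?_⟩
    rw [← e2, ← e1]; group
  · intro m
    obtain ⟨m1, e1⟩ := h'.2 m
    obtain ⟨m2, e2⟩ := h.1 m1
    refine ⟨m2, ?_⟩
    rw [← e2, ← e1]; group

/-- the inverse fixes `Z_l` -/
theorem Pres.inv_l (h : Pres B θ) (r : F) : ∃ r', θ⁻¹ * B.zl r * θ⁻¹⁻¹ = B.zl r' := by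
  choose f hf using h.2
  have hinj : Function.Injective f := by
    intro a b hab
    apply zl_inj (B := B)
    have e1 := hf a
    rw [hab, ← hf b] at e1
    calc B.zl a = θ⁻¹ * (θ * B.zl a * θ⁻¹) * θ := by group
      _ = B.zl b := by rw [e1]; group
  obtain ⟨r', hr'⟩ := (Finite.injective_iff_surjective.1 hinj) r
  refine ⟨r', ?_⟩
  rw [← hr', ← hf r']; group

/-- `V₂` is invariant -/
theorem NU.v2 (h : NU B K θ) (hK : KCent B K) (hP : Pres B θ) (u : F) :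
    ∃ u' m r, θ * B.xa u * θ⁻¹ = nf B u' 0 m r := by
  obtain ⟨u', s', m, r, e⟩ := (h.u _).1 (isU_xa (B := B) u)
  change θ * B.xa u * θ⁻¹ = nf B u' s' m r at e
  obtain ⟨r1, hr1⟩ := hP.inv_l 1
  have hr0 : r1 ≠ 0 := by
    rintro rfl
    rw [B.zl_zero] at hr1
    apply one_ne_zero (α := F)
    apply zl_inj (B := B)
    rw [B.zl_zero]
    calc B.zl 1 = θ * (θ⁻¹ * B.zl 1 * θ⁻¹⁻¹) * θ⁻¹ := by group
      _ = 1 := by rw [hr1]; group
  have h1 : θ⁻¹ * B.nb * θ⁻¹⁻¹ ∈ P2 B := by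
    apply mem_P2 hK ((h.inv.mem _).1 hK.nb_mem) hr0
    rw [← hr1]
    exact comm_conj (B.nb_zl 1)
  obtain ⟨u2, m2, r2, e2⟩ := P2_V2 _ h1 u 0 0
  rw [← xa_eq] at e2
  have h3 : IsU B (θ * (θ⁻¹ * B.nb * θ⁻¹⁻¹ * B.xa u * (θ⁻¹ * B.nb * θ⁻¹⁻¹)⁻¹) * θ⁻¹) := by
    rw [← h.u, e2]; exact isU_nf _ _ _ _
  have e3 : θ * (θ⁻¹ * B.nb * θ⁻¹⁻¹ * B.xa u * (θ⁻¹ * B.nb * θ⁻¹⁻¹)⁻¹) * θ⁻¹ =
      B.nb * (θ * B.xa u * θ⁻¹) * B.nb⁻¹ := by group
  rw [e3, e] at h3
  have e4 : B.nb * nf B u' s' m r * B.nb⁻¹ = B.zs u' * (B.nb * B.xb s' * B.nb⁻¹) * (B.xa m * B.zl r) := by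
    unfold nf
    rw [mul_conj, mul_conj, mul_conj, nb_xa', nb_zs', nb_zl']
    group
  rw [e4] at h3
  have h5 : IsU B (B.nb * B.xb s' * B.nb⁻¹) := by
    have h6 := IsU.mul (IsU.mul (IsU.inv (isU_zs (B := B) u')) h3) (IsU.inv (IsU.mul (isU_xa (B := B) m) (isU_zl r)))
    have e6 : (B.zs u')⁻¹ * (B.zs u' * (B.nb * B.xb s' * B.nb⁻¹) * (B.xa m * B.zl r)) * (B.xa m * B.zl r)⁻¹ =
        B.nb * B.xb s' * B.nb⁻¹ := by group
    rwa [e6] at h6
  have hs := hK.nb_xb s' h5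
  subst hs
  exact ⟨u', m, r, e⟩

theorem Pres.swap (h : Pres B θ) : Pres (swap B) θ := by
  refine ⟨h.2, ?_⟩
  intro m
  obtain ⟨m', e⟩ := h.1 (rt m)
  refine ⟨m' ^ 2, ?_⟩
  show θ * B.zs (rt m) * θ⁻¹ = B.zs (rt (m' ^ 2))
  rw [rt_sq]; exact e

theorem NU.v1 (h : NU B K θ) (hK : KCent B K) (hP : Pres B θ) (s : F) :
    ∃ s' m r, θ * B.xb s * θ⁻¹ = nf B 0 s' m r := by
  obtain ⟨u', m, r, e⟩ := h.swap.v2 (KCent.swap hK) hP.swap s
  refine ⟨u', rt r, m, ?_⟩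
  change θ * B.xb s * θ⁻¹ = B.xb u' * B.xa (rt 0) * B.zl m * B.zs (rt r) at e
  rw [e, rt_zero, B.xa_zero, mul_one, mul_assoc, ← (B.zs_zl (rt r) m).eq]
  unfold nf
  rw [B.xa_zero, one_mul, mul_assoc]

/-- **semilinearity** -/
theorem NU.exists_sigma (h : NU B K θ) (hK : KCent B K) (hP : Pres B θ) : ∃ (σ : F ≃+* F) (a b : F),
    a ≠ 0 ∧ b ≠ 0 ∧ (∀ m, θ * B.zs m * θ⁻¹ = B.zs (a * b * σ m)) ∧
      ∀ r, θ * B.zl r * θ⁻¹ = B.zl (a ^ 2 * b * σ r) := by
  choose α hα using hP.1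
  choose β hβ using hP.2
  choose a m1 r1 ha using h.v2 hK hP
  choose b m2 r2 hb using h.v1 hK hP
  -- the commutator relation
  have hrel : ∀ u s, α (u * s) = a u * b s ∧ β (u ^ 2 * s) = a u ^ 2 * b s := by
    intro u s
    have e1 : B.xa u * B.xb s * (B.xa u)⁻¹ * (B.xb s)⁻¹ = B.zs (u * s) * B.zl (u ^ 2 * s) := by
      rw [xa_eq, xb_eq, nf_comm, z_eq]
      congr 1 <;> ring
    have e2 : θ * (B.xa u * B.xb s * (B.xa u)⁻¹ * (B.xb s)⁻¹) * θ⁻¹ =
        (θ * B.xa u * θ⁻¹) * (θ * B.xb s * θ⁻¹) * (θ * B.xa u * θ⁻¹)⁻¹ * (θ * B.xb s * θ⁻¹)⁻¹ := by group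
    rw [ha, hb, nf_comm, e1, mul_conj, hα, hβ, z_eq] at e2
    have h3 := nf_inj e2
    refine ⟨?_, ?_⟩
    · rw [h3.2.2.1]; ring
    · rw [h3.2.2.2]; ring
  have hadd : ∀ m m', α (m + m') = α m + α m' := by
    intro m m'
    apply zs_inj (B := B)
    rw [← hα, B.zs_add, mul_conj, hα, hα, B.zs_add]
  have hαinj : Function.Injective α := by
    intro m m' hmm
    apply zs_inj (B := B)
    have e1 := hα m
    rw [hmm, ← hα m'] at e1
    calc B.zs m = θ⁻¹ * (θ * B.zs m * θ⁻¹) * θ := by group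
      _ = B.zs m' := by rw [e1]; group
  have hα0 : α 0 = 0 := by
    have := hadd 0 0
    rw [add_zero] at this
    exact (left_eq_add.1 this)
  have h11 : α 1 = a 1 * b 1 := by
    have := (hrel 1 1).1
    rwa [mul_one] at this
  have hα1 : α 1 ≠ 0 := by
    intro h0
    rw [← hα0] at h0
    exact one_ne_zero (hαinj h0)
  have ha1 : a 1 ≠ 0 := fun h0 => hα1 (by rw [h11, h0, zero_mul])
  have hb1 : b 1 ≠ 0 := fun h0 => hα1 (by rw [h11, h0, mul_zero])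
  have hau : ∀ u, α u = a u * b 1 := by
    intro u
    have := (hrel u 1).1
    rwa [mul_one] at this
  have hbs : ∀ s, α s = a 1 * b s := by
    intro s
    have := (hrel 1 s).1
    rwa [one_mul] at this
  let f : F →+* F :=
    { toFun := fun x => α x * (α 1)⁻¹
      map_one' := mul_inv_cancel₀ hα1
      map_zero' := by rw [hα0, zero_mul]
      map_add' := by intro x y; rw [hadd, add_mul]
      map_mul' := by
        intro x y
        rw [(hrel x y).1, hau x, hbs y, h11]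
        field_simp }
  have hf : Function.Bijective f := by
    apply Finite.injective_iff_bijective.1
    exact f.injective
  let σ : F ≃+* F := RingEquiv.ofBijective f hf
  have hσ : ∀ x, α x = α 1 * σ x := by
    intro x
    show α x = α 1 * (α x * (α 1)⁻¹)
    field_simp
  refine ⟨σ, a 1, b 1, ha1, hb1, ?_, ?_⟩
  · intro m
    rw [hα, hσ, h11]
  · intro r
    rw [hβ]
    have h2 : β r = a 1 ^ 2 * b r := by
      have := (hrel 1 r).2
      rwa [one_pow, one_mul] at this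
    have h3 : b r = b 1 * σ r := by
      have h4 := hbs r
      rw [hσ, h11] at h4
      apply mul_left_cancel₀ ha1
      rw [← h4]; ring
    rw [h2, h3]
    congr 1
    ring

/-- an involution acting as scalars on `Z_s` and `Z_l` centralizes them -/
theorem comm_of_scalar {k l : F} (h2 : θ * θ = 1) (hs : ∀ m, θ * B.zs m * θ⁻¹ = B.zs (k * m))
    (hl : ∀ m, θ * B.zl m * θ⁻¹ = B.zl (l * m)) :
    (∀ m, Commute θ (B.zs m)) ∧ ∀ m, Commute θ (B.zl m) := by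
  have hsq : ∀ {k : F}, k * k = 1 → k = 1 := by
    intro k hk
    have h4 : (k + 1) * (k + 1) = 0 := by
      have h2 : (2 : F) = 0 := CharTwo.two_eq_zero
      linear_combination hk + (k + 1) * h2
    exact FieldAux.eq_of_add_eq_zero (mul_self_eq_zero.1 h4)
  have hk : k = 1 := by
    apply hsq
    apply zs_inj (B := B)
    have h3 := hs 1
    have h4 := hs (k * 1)
    rw [← h3] at h4
    have e : θ * (θ * B.zs 1 * θ⁻¹) * θ⁻¹ = (θ * θ) * B.zs 1 * (θ * θ)⁻¹ := by group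
    rw [e, h2, inv_one, mul_one, one_mul, mul_one] at h4
    exact h4.symm
  have hl1 : l = 1 := by
    apply hsq
    apply zl_inj (B := B)
    have h3 := hl 1
    have h4 := hl (l * 1)
    rw [← h3] at h4
    have e : θ * (θ * B.zl 1 * θ⁻¹) * θ⁻¹ = (θ * θ) * B.zl 1 * (θ * θ)⁻¹ := by group
    rw [e, h2, inv_one, mul_one, one_mul, mul_one] at h4
    exact h4.symm
  subst hk hl1
  constructor
  · intro m
    have := hs m
    rw [one_mul] at this
    exact mul_inv_eq_iff_eq_mul.1 this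
  · intro m
    have := hl m
    rw [one_mul] at this
    exact mul_inv_eq_iff_eq_mul.1 this

/-- one of the involutions of a four-group fixing `Z_s` and `Z_l` centralizes `Z` -/
theorem exists_comm_of_pres (hK : KCent B K) {x y : G} (hx : NU B K x) (hy : NU B K y) (hPx : Pres B x)
    (hPy : Pres B y) (hx2 : x * x = 1) (hy2 : y * y = 1) (hxy : x * y = y * x) :
    ∃ θ, (θ = x ∨ θ = y ∨ θ = x * y) ∧ (∀ m, Commute θ (B.zs m)) ∧ ∀ m, Commute θ (B.zl m) := by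
  obtain ⟨σ, a, b, ha, hb, h1, h2⟩ := hx.exists_sigma hK hPx
  obtain ⟨τ, a', b', ha', hb', h1', h2'⟩ := hy.exists_sigma hK hPy
  have inv2 : ∀ {θ : G} {σ : F ≃+* F} {k : F}, k ≠ 0 → θ * θ = 1 → (∀ m, θ * B.zs m * θ⁻¹ = B.zs (k * σ m)) →
      σ * σ = 1 := by
    intro θ σ k hk h2 h
    have h3 : ∀ m, m = k * σ (k * σ m) := by
      intro m
      apply zs_inj (B := B)
      rw [← h, ← h]
      have e : θ * (θ * B.zs m * θ⁻¹) * θ⁻¹ = (θ * θ) * B.zs m * (θ * θ)⁻¹ := by group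
      rw [e, h2]; group
    have h4 : k * σ k = 1 := by
      have := h3 1
      rw [map_one, mul_one] at this
      exact this.symm
    ext m
    have h5 := h3 m
    rw [map_mul, ← mul_assoc, h4, one_mul] at h5
    exact h5.symm
  have hσ := inv2 (mul_ne_zero ha hb) hx2 h1
  have hτ := inv2 (mul_ne_zero ha' hb') hy2 h1'
  by_cases hσ1 : σ = 1
  · refine ⟨x, Or.inl rfl, ?_⟩
    subst hσ1
    exact comm_of_scalar hx2 h1 h2
  by_cases hτ1 : τ = 1
  · refine ⟨y, Or.inr (Or.inl rfl), ?_⟩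
    subst hτ1
    exact comm_of_scalar hy2 h1' h2'
  have hστ : σ = τ := Cfsg.Agent.StdRank2.OutField.unique_invol hσ hτ hσ1 hτ1
  subst hστ
  refine ⟨x * y, Or.inr (Or.inr rfl), ?_⟩
  refine comm_of_scalar (k := a * b * σ (a' * b')) (l := a ^ 2 * b * σ (a' ^ 2 * b')) ?_ ?_ ?_
  · calc x * y * (x * y) = x * (y * x) * y := by group
      _ = (x * x) * (y * y) := by rw [← hxy]; group
      _ = 1 := by rw [hx2, hy2, one_mul]
  · intro m
    have e : x * y * B.zs m * (x * y)⁻¹ = x * (y * B.zs m * y⁻¹) * x⁻¹ := by group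
    have hσσ : σ (σ m) = m := Cfsg.Agent.StdRank2.OutField.invol_apply hσ m
    rw [e, h1', h1, map_mul, hσσ]
    congr 1
    ring
  · intro m
    have e : x * y * B.zl m * (x * y)⁻¹ = x * (y * B.zl m * y⁻¹) * x⁻¹ := by group
    have hσσ : σ (σ m) = m := Cfsg.Agent.StdRank2.OutField.invol_apply hσ m
    rw [e, h2', h2, map_mul, hσσ]
    congr 1
    ring

/-- **(H3)** -/
theorem exists_comm (hK : KCent B K) {R : Subgroup G} (hR : ∀ x ∈ R, NU B K x)
    (hc : ∀ x ∈ R, x ≠ 1 → ∀ v, IsU B v → Commute v x → ∀ r ∈ R, Commute v r) {x y : G} (hxR : x ∈ R) (hyR : y ∈ R)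
    (hx2 : x * x = 1) (hy2 : y * y = 1) (hxy : x * y = y * x) (hx1 : x ≠ 1) (hy1 : y ≠ 1) (hne : x ≠ y) :
    (∀ θ ∈ R, ∀ m, Commute θ (B.zs m)) ∧ ∀ θ ∈ R, ∀ m, Commute θ (B.zl m) := by
  have hxy1 : x * y ≠ 1 := by
    intro h
    apply hne
    calc x = x * (y * y) := by rw [hy2, mul_one]
      _ = y := by rw [← mul_assoc, h, one_mul]
  have hxy2 : x * y * (x * y) = 1 := by
    calc x * y * (x * y) = x * (y * x) * y := by group
      _ = (x * x) * (y * y) := by rw [← hxy]; group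
      _ = 1 := by rw [hx2, hy2, one_mul]
  -- it suffices to find one element centralizing `Z`
  suffices hex : ∃ θ ∈ R, θ ≠ 1 ∧ (∀ m, Commute θ (B.zs m)) ∧ ∀ m, Commute θ (B.zl m) by
    obtain ⟨θ, hθ, hθ1, h1, h2⟩ := hex
    exact ⟨fun r hr m => (hc θ hθ hθ1 _ (isU_zs m) (h1 m).symm r hr).symm,
      fun r hr m => (hc θ hθ hθ1 _ (isU_zl m) (h2 m).symm r hr).symm⟩
  -- a preserving and a swapping involution
  have hmix : ∀ x ∈ R, ∀ y ∈ R, x * x = 1 → x ≠ 1 → Pres B x → Swp B y → False := by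
    intro x hx y hy hx2 hx1 hPx hSy
    obtain ⟨m, hm, hcm⟩ : ∃ m, m ≠ 0 ∧ Commute x (B.zs m) := by
      obtain ⟨m', e⟩ := hPx.1 1
      by_cases h1 : (1 : F) + m' = 0
      · have h2 : m' = 1 := (FieldAux.eq_of_add_eq_zero h1).symm
        subst h2
        exact ⟨1, one_ne_zero, mul_inv_eq_iff_eq_mul.1 e⟩
      · refine ⟨1 + m', h1, mul_inv_eq_iff_eq_mul.1 ?_⟩
        have e2 : x * B.zs m' * x⁻¹ = B.zs 1 := by
          rw [← e]
          calc x * (x * B.zs 1 * x⁻¹) * x⁻¹ = (x * x) * B.zs 1 * (x * x)⁻¹ := by group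
            _ = B.zs 1 := by rw [hx2]; group
        rw [B.zs_add, mul_conj, e, e2, ← B.zs_add, add_comm m', B.zs_add]
    have h1 := hc x hx hx1 _ (isU_zs m) hcm.symm y hy
    obtain ⟨r, e⟩ := hSy.1 m
    have e2 : y * B.zs m * y⁻¹ = B.zs m := by rw [← h1.eq]; group
    rw [e2] at e
    exact hm (zs_zl_eq e).1
  rcases (hR x hxR).perm hK with hPx | hSx
  · rcases (hR y hyR).perm hK with hPy | hSy
    · obtain ⟨θ, hθ, h1, h2⟩ := exists_comm_of_pres hK (hR x hxR) (hR y hyR) hPx hPy hx2 hy2 hxy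
      rcases hθ with rfl | rfl | rfl
      · exact ⟨_, hxR, hx1, h1, h2⟩
      · exact ⟨_, hyR, hy1, h1, h2⟩
      · exact ⟨_, R.mul_mem hxR hyR, hxy1, h1, h2⟩
    · exact (hmix x hxR y hyR hx2 hx1 hPx hSy).elim
  · rcases (hR y hyR).perm hK with hPy | hSy
    · exact (hmix y hyR x hxR hy2 hy1 hPy hSx).elim
    · exact (hmix (x * y) (R.mul_mem hxR hyR) x hxR hxy2 hxy1 (hSx.mul hSy) hSx).elim

end Cfsg.Agent.OddHalf.D4.SpFourFld

end

-- merged: Cfsg.Agent.OddHalf.D4.SpFourTOne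
section

/-!
# ODD D4, `K = Sp₄(q)`: the types of a frame (T1)

`hasTyp`: every frame has, after conjugation in `K`, one of the types `TypL`, `TypS`, `TypM`.
-/

set_option autoImplicit false
set_option linter.unusedSectionVars false
set_option linter.unusedVariables false

namespace Cfsg.Agent.OddHalf.D4.SpFourTOne

open Cfsg.Agent.StdSpFour Subgroup Cfsg.Agent.OddHalf.D4 Cfsg.Agent.OddHalf.D4.Basic
open Cfsg.Agent.StdSpFour.Swap (rt rt_sq sq_rt rt_zero rt_eq_zero swap)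
open Cfsg.Agent.OddHalf.D4.SpFourDefs Cfsg.Agent.OddHalf.D4.SpFourCent
open Cfsg.Agent.OddHalf.D4.SpFourU Cfsg.Agent.OddHalf.D4.SpFourFr Cfsg.Agent.OddHalf.D4.SpFourTyp
open Cfsg.Agent.OddHalf.D4.SpFourTOneA Cfsg.Agent.OddHalf.D4.SpFourFld
open Cfsg.Agent.OddHalf.D4.SpFourPar (P2 P2_le P2_comm mem_P2 exists_ne_ne P2_perfect P2_two P2_V2 exists_zs
  comm_of_comm_mem le_of_P2_P1)
open Cfsg.Agent.OddHalf.D4.CommConj (cj mem_cj mem_cj_mul card_cj cj_eq_of_mem_normalizer)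

variable {F G : Type*} [Field F] [CharP F 2] [Finite F] [Group G] [Finite G]
variable {B : Base F G} {K L Q R : Subgroup G}

theorem isU_memK (hK : KBase B K) {v : G} (hv : IsU B v) : v ∈ K := P2_le hK (SpFourPar.isU_mem hv)

/-- after conjugation in `K`, `R` normalizes `U` -/
theorem exists_normU (hK : KCent B K) (h : Fr K L Q R) :
    ∃ k ∈ K, ∀ x ∈ cj k R, ∀ v, IsU B v → IsU B (x * v * x⁻¹) := by
  obtain ⟨S, hS, hRS⟩ := h.exists_syl
  obtain ⟨k, hk, hkS⟩ := hK.syl S hS.le hS.two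
  refine ⟨k, hk, ?_⟩
  have h1 : UU B ≤ cj k S := by
    have h2 : IsSyl (cj k S) K := by
      have h3 := hS.cj k
      rwa [cj_eq_of_mem_normalizer (le_normalizer (H := K) hk)] at h3
    apply h2.max _ isPGroup_UU
    · intro x hx
      rw [mem_cj] at hx
      obtain ⟨u, s, m, r, e⟩ := hkS _ hx
      have e2 : k * (k⁻¹ * x * k) * k⁻¹ = x := by group
      rw [e2] at e
      exact ⟨u, s, m, r, e⟩
    · intro v hv
      exact isU_memK hK.toKBase hv
  intro x hx v hv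
  have h2 := h1 hv
  rw [mem_cj] at hx h2
  have h3 := hRS _ hx _ h2
  obtain ⟨u, s, m, r, e⟩ := hkS _ h3
  refine ⟨u, s, m, r, ?_⟩
  rw [← e]; group

/-- `C_U(x) = C_U(R)` for `1 ≠ x ∈ R` if `R ∩ K = 1` -/
theorem centU (hK : KCent B K) (h : Fr K L Q R) (hRK : ∀ x ∈ R, x ∈ K → x = 1)
    (hn : ∀ x ∈ R, ∀ v, IsU B v → IsU B (x * v * x⁻¹)) {x : G} (hx : x ∈ R) (hx1 : x ≠ 1) {v : G} (hv : IsU B v)
    (hvx : Commute v x) {r : G} (hr : r ∈ R) : Commute v r := by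
  have hvN : v ∈ normalizer (L : Set G) := h.mem hx hx1 hvx.eq
  obtain ⟨h1, h2⟩ := commutator_mem (K := K) (L := L) (isU_memK hK.toKBase hv) hvN (h.fp.sylU.le hr) (h.leR hr)
  have h3 : IsU B (v * r * v⁻¹ * r⁻¹) := by
    have h4 := IsU.mul hv (hn r hr v⁻¹ (IsU.inv hv))
    have e : v * (r * v⁻¹ * r⁻¹) = v * r * v⁻¹ * r⁻¹ := by group
    rwa [e] at h4
  have h4 := h.eq_one_of_inf hRK h1 h2 (two_of_isU h3)
  show v * r = r * v
  calc v * r = (v * r * v⁻¹ * r⁻¹) * (r * v) := by group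
    _ = r * v := by rw [h4, one_mul]

/-- elements of `R` normalise `K` and `U` -/
theorem nU (h : Fr K L Q R) (hn : ∀ x ∈ R, ∀ v, IsU B v → IsU B (x * v * x⁻¹)) {x : G} (hx : x ∈ R) :
    NU B K x where
  mem := fun y => mem_normalizer_iff.mp (h.leR hx) y
  u := by
    intro v
    refine ⟨hn x hx v, fun hv => ?_⟩
    have h1 := hn x⁻¹ (R.inv_mem hx) _ hv
    have e : x⁻¹ * (x * v * x⁻¹) * x⁻¹⁻¹ = v := by group
    rwa [e] at h1

/-- the case `z₀` a long root element -/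
theorem endL (hF : 4 ≤ Nat.card F) (hK : KCent B K) (h : Fr K L Q R) (hRK : ∀ x ∈ R, x ∈ K → x = 1)
    (hdec : ∀ x ∈ R, ∃ v ∈ K, ∃ c ∈ centralizer (K : Set G), x = v * c) {r : F} (hr : r ≠ 0) {c₀ : G}
    (hc₀ : c₀ ∈ centralizer (K : Set G)) (hx₀ : B.zl r * c₀ ∈ R)
    (hcen : ∀ x ∈ R, x * (B.zl r * c₀) = B.zl r * c₀ * x) : TypL B K Q R := by
  refine ⟨?_, hRK⟩
  have hzK : B.zl r ∈ K := hK.zl_mem r
  have hx1 : B.zl r * c₀ ≠ 1 := by
    intro h1
    apply zl_ne (B := B) hr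
    apply h.env.cen _ hzK
    have e : B.zl r = c₀⁻¹ := mul_eq_one_iff_eq_inv.1 h1
    rw [e]; exact (centralizer (K : Set G)).inv_mem hc₀
  have hP : P2 B ≤ normalizer (L : Set G) := by
    intro p hp
    apply h.mem hx₀ hx1
    exact ((P2_comm r p hp).mul_right (mem_centralizer_iff.mp hc₀ p (P2_le hK.toKBase hp))).eq
  intro x hx
  obtain ⟨v, hv, c, hc, e⟩ := hdec x hx
  have hcQ := mem_Q h hx hv hc e
  have hvz : Commute v (B.zl r) := by
    have h1 := hcen x hx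
    have h2 : v * B.zl r * (c * c₀) = B.zl r * v * (c₀ * c) := by
      have e1 : c * B.zl r = B.zl r * c := (mem_centralizer_iff.mp hc _ hzK).symm
      have e2 : c₀ * v = v * c₀ := (mem_centralizer_iff.mp hc₀ _ hv).symm
      calc v * B.zl r * (c * c₀) = v * (B.zl r * c) * c₀ := by group
        _ = x * (B.zl r * c₀) := by rw [← e1, e]; group
        _ = B.zl r * (c₀ * v) * c := by rw [h1, e]; group
        _ = _ := by rw [e2]; group
    exact (decomp_unique h.env.cen (K.mul_mem hv hzK) ((centralizer (K : Set G)).mul_mem hc hc₀) (K.mul_mem hzK hv)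
      ((centralizer (K : Set G)).mul_mem hc₀ hc) h2).1
  -- `v` centralizes `P₂`
  have hvP : ∀ y ∈ P2 B, Commute v y := by
    intro y hy
    have hyK := P2_le hK.toKBase hy
    obtain ⟨h1, h2⟩ := commutator_mem (K := K) (L := L) hyK (hP hy) (h.fp.sylU.le hx) (h.leR hx)
    have e1 : y * x * y⁻¹ * x⁻¹ = y * v * y⁻¹ * v⁻¹ := by
      have e2 : c * y⁻¹ * c⁻¹ = y⁻¹ := by
        have : c * y⁻¹ = y⁻¹ * c := (mem_centralizer_iff.mp hc _ (K.inv_mem hyK)).symm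
        rw [this]; group
      rw [e]
      calc y * (v * c) * y⁻¹ * (v * c)⁻¹ = y * v * (c * y⁻¹ * c⁻¹) * v⁻¹ := by group
        _ = _ := by rw [e2]
    rw [e1] at h1 h2
    have h3 : y * v * y⁻¹ * v⁻¹ ∈ P2 B := mem_P2 hK h1 hr
      ((((P2_comm r y hy).mul_left hvz).mul_left (P2_comm r y hy).inv_left).mul_left hvz.inv_left)
    -- it centralizes `V₂`
    have h4 : ∀ a b c, Commute (y * v * y⁻¹ * v⁻¹) (nf B a 0 b c) := by
      intro a b d
      obtain ⟨w, hw⟩ : ∃ w, w = y * v * y⁻¹ * v⁻¹ := ⟨_, rfl⟩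
      rw [← hw] at h2 h3 ⊢
      obtain ⟨a', b', d', e3⟩ := P2_V2 w h3 a b d
      have h5 : w * nf B a 0 b d * w⁻¹ * (nf B a 0 b d)⁻¹ ∈ centralizer (L : Set G) := by
        have h6 := (centralizer (L : Set G)).mul_mem h2 (centralizer_conj_mem
          (hP (SpFourPar.isU_mem (isU_nf a 0 b d))) ((centralizer (L : Set G)).inv_mem h2))
        have e4 : w * (nf B a 0 b d * w⁻¹ * (nf B a 0 b d)⁻¹) = w * nf B a 0 b d * w⁻¹ * (nf B a 0 b d)⁻¹ := by
          group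
        rwa [e4] at h6
      have h6 : IsU B (w * nf B a 0 b d * w⁻¹ * (nf B a 0 b d)⁻¹) := by
        rw [e3]; exact IsU.mul (isU_nf _ _ _ _) (IsU.inv (isU_nf _ _ _ _))
      have h7 := h.eq_one_of_inf hRK (isU_memK hK.toKBase h6) h5 (two_of_isU h6)
      show w * nf B a 0 b d = nf B a 0 b d * w
      calc w * nf B a 0 b d = (w * nf B a 0 b d * w⁻¹ * (nf B a 0 b d)⁻¹) * (nf B a 0 b d * w) := by group
        _ = _ := by rw [h7, one_mul]
    have h5 : IsU B (y * v * y⁻¹ * v⁻¹) := by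
      apply hK.cent_m _ h1 1 1 one_ne_zero one_ne_zero
      rw [z_eq]; exact h4 0 1 1
    have h6 := h.eq_one_of_inf hRK h1 h2 (two_of_isU h5)
    show v * y = y * v
    calc v * y = (y * v * y⁻¹ * v⁻¹)⁻¹ * (y * v) := by group
      _ = y * v := by rw [h6, inv_one, one_mul]
  have hvU : IsU B v := by
    apply hK.cent_m _ hv 1 1 one_ne_zero one_ne_zero
    exact hvP _ (SpFourPar.isU_mem (isU_z 1 1))
  obtain ⟨m', r', e1⟩ := center_U hvU (hvP _ (SpFourPar.xa_mem 1)) (hvP _ (SpFourPar.xb_mem 1))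
  have hm' : m' = 0 := by
    have h1 := hvP _ (SpFourPar.nb_mem (B := B))
    rw [e1] at h1
    have h2 : B.nb * (B.zs m' * B.zl r') * B.nb⁻¹ = B.zs m' * B.zl r' := by rw [← h1.eq]; group
    rw [mul_conj, nb_zs', nb_zl', z_eq, xa_eq, zl_eq, nf_mul] at h2
    have h3 := (nf_inj h2).1
    rw [add_zero] at h3
    exact h3
  subst hm'
  rw [B.zs_zero, one_mul] at e1
  refine ⟨c, hcQ, r', ?_⟩
  rw [e, e1]
  exact mem_centralizer_iff.mp hc _ (hK.zl_mem r')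

/-- the case `z₀` a short root element -/
theorem endS (hF : 4 ≤ Nat.card F) (hK : KCent B K) (h : Fr K L Q R) (hRK : ∀ x ∈ R, x ∈ K → x = 1)
    (hdec : ∀ x ∈ R, ∃ v ∈ K, ∃ c ∈ centralizer (K : Set G), x = v * c) {r : F} (hr : r ≠ 0) {c₀ : G}
    (hc₀ : c₀ ∈ centralizer (K : Set G)) (hx₀ : B.zs r * c₀ ∈ R)
    (hcen : ∀ x ∈ R, x * (B.zs r * c₀) = B.zs r * c₀ * x) : TypS B K Q R := by
  have e : (swap B).zl (r ^ 2) = B.zs r := by
    show B.zs (rt (r ^ 2)) = _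
    rw [rt_sq]
  obtain ⟨h1, h2⟩ := endL (B := swap B) hF (KCent.swap hK) h hRK hdec (r := r ^ 2) (pow_ne_zero 2 hr) hc₀
    (by rw [e]; exact hx₀) (by rw [e]; exact hcen)
  refine ⟨?_, h2⟩
  intro x hx
  obtain ⟨t, ht, r', e'⟩ := h1 x hx
  exact ⟨t, ht, rt r', e'⟩

/-- **frames with `R ∩ K = 1`**, `R` centralizing `Z` -/
theorem hasTyp_of_comm (hF : 4 ≤ Nat.card F) (hK : KCent B K) (hA : KAut B K) (h : Fr K L Q R)
    (hRK : ∀ x ∈ R, x ∈ K → x = 1) (hs : ∀ x ∈ R, ∀ m, Commute x (B.zs m)) (hl : ∀ x ∈ R, ∀ m, Commute x (B.zl m)) :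
    HasTyp B K Q R := by
  have hdec : ∀ x ∈ R, ∃ v ∈ K, ∃ c ∈ centralizer (K : Set G), x = v * c := by
    intro x hx
    obtain ⟨u, s, m', r, hv⟩ := hA x (h.leR hx) (hs x hx) (hl x hx)
    change ∀ y ∈ K, Commute ((nf B u s m' r)⁻¹ * x) y at hv
    refine ⟨nf B u s m' r, isU_memK hK.toKBase (isU_nf _ _ _ _), (nf B u s m' r)⁻¹ * x, ?_, by group⟩
    rw [mem_centralizer_iff]
    intro y hy
    exact (hv y hy).symm.eq
  -- a central involution
  obtain ⟨x₀, hx₀, hx2, hxc⟩ := exists_central_invol (T := R) (N := R) h.fp.sylU.two le_rfl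
    (by
      intro h1
      obtain ⟨x, hx, _, _, _, _, _, hx1, _⟩ := h.exists_four
      apply hx1
      rwa [h1, mem_bot] at hx)
    (by
      intro t ht n hn
      exact R.mul_mem (R.mul_mem ht hn) (R.inv_mem ht))
  have hxx : x₀ * x₀ = 1 := by rw [← pow_two, ← hx2, pow_orderOf_eq_one]
  have hx1 : x₀ ≠ 1 := by
    rintro rfl
    rw [orderOf_one] at hx2
    exact absurd hx2 (by norm_num)
  obtain ⟨v₀, hv₀, c₀, hc₀, e₀⟩ := hdec x₀ hx₀
  have hvc : v₀ * c₀ = c₀ * v₀ := mem_centralizer_iff.mp hc₀ v₀ hv₀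
  have hvv : v₀ * v₀ = 1 := by
    apply h.env.cen _ (K.mul_mem hv₀ hv₀)
    have e : v₀ * v₀ = (c₀ * c₀)⁻¹ := by
      apply eq_inv_of_mul_eq_one_left
      calc v₀ * v₀ * (c₀ * c₀) = v₀ * (v₀ * c₀) * c₀ := by group
        _ = v₀ * (c₀ * v₀) * c₀ := by rw [hvc]
        _ = (v₀ * c₀) * (v₀ * c₀) := by group
        _ = 1 := by rw [← e₀, hxx]
    rw [e]
    exact (centralizer (K : Set G)).inv_mem ((centralizer (K : Set G)).mul_mem hc₀ hc₀)
  have hv1 : v₀ ≠ 1 := by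
    rintro rfl
    rw [one_mul] at e₀
    exact hx1 (h.eq_one (e₀ ▸ hc₀) (h.fp.sylU.le hx₀) (h.two hx₀))
  obtain ⟨k, hk, m, r, hmr, e⟩ := inv_conj hK hv₀ hvv hv1
  have h' := h.conj hk
  refine ⟨k, hk, ?_⟩
  -- transport
  have hRK' : ∀ x ∈ cj k R, x ∈ K → x = 1 := by
    intro x hx hxK
    rw [mem_cj] at hx
    have h1 := hRK _ hx (K.mul_mem (K.mul_mem (K.inv_mem hk) hxK) hk)
    calc x = k * (k⁻¹ * x * k) * k⁻¹ := by group
      _ = 1 := by rw [h1]; group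
  have hdec' : ∀ x ∈ cj k R, ∃ v ∈ K, ∃ c ∈ centralizer (K : Set G), x = v * c := by
    intro x hx
    rw [mem_cj] at hx
    obtain ⟨v, hv, c, hc, e⟩ := hdec _ hx
    refine ⟨k * v * k⁻¹, K.mul_mem (K.mul_mem hk hv) (K.inv_mem hk), c, hc, ?_⟩
    have h1 : k⁻¹ * c = c * k⁻¹ := mem_centralizer_iff.mp hc _ (K.inv_mem hk)
    calc x = k * (k⁻¹ * x * k) * k⁻¹ := by group
      _ = k * v * (c * k⁻¹) := by rw [e]; group
      _ = _ := by rw [← h1]; group
  have hx₀' : B.zs m * B.zl r * c₀ ∈ cj k R := by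
    rw [mem_cj]
    have h1 : c₀ * k = k * c₀ := (mem_centralizer_iff.mp hc₀ _ hk).symm
    have e1 : k⁻¹ * (B.zs m * B.zl r * c₀) * k = x₀ := by
      rw [← e, e₀]
      calc k⁻¹ * (k * v₀ * k⁻¹ * c₀) * k = v₀ * k⁻¹ * (c₀ * k) := by group
        _ = _ := by rw [h1]; group
    rw [e1]; exact hx₀
  have hcen' : ∀ x ∈ cj k R, x * (B.zs m * B.zl r * c₀) = B.zs m * B.zl r * c₀ * x := by
    intro x hx
    rw [mem_cj] at hx
    have h2 := hxc _ hx
    have h1 : k⁻¹ * c₀ = c₀ * k⁻¹ := mem_centralizer_iff.mp hc₀ _ (K.inv_mem hk)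
    have e1 : B.zs m * B.zl r * c₀ = k * x₀ * k⁻¹ := by
      rw [← e, e₀]
      calc k * v₀ * k⁻¹ * c₀ = k * v₀ * (k⁻¹ * c₀) := by group
        _ = _ := by rw [h1]; group
    rw [e1]
    calc x * (k * x₀ * k⁻¹) = k * ((k⁻¹ * x * k) * x₀) * k⁻¹ := by group
      _ = _ := by rw [h2]; group
  generalize cj k L = L' at h' hx₀' hcen' hRK' hdec'
  generalize cj k R = R' at h' hx₀' hcen' hRK' hdec' ⊢
  by_cases hm : m = 0
  · left
    subst hm
    rw [B.zs_zero, one_mul] at hx₀' hcen'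
    have hr : r ≠ 0 := by
      rcases hmr with h | h
      · exact absurd rfl h
      · exact h
    exact endL hF hK h' hRK' hdec' hr hc₀ hx₀' hcen'
  by_cases hr : r = 0
  · right; left
    subst hr
    rw [B.zl_zero, mul_one] at hx₀' hcen'
    exact endS hF hK h' hRK' hdec' hm hc₀ hx₀' hcen'
  -- the mixed case
  have hz : IsU B (B.zs m * B.zl r) := isU_z m r
  have hzK := isU_memK hK.toKBase hz
  have hx1' : B.zs m * B.zl r * c₀ ≠ 1 := by
    intro h1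
    have h2 : B.zs m * B.zl r = 1 := by
      apply h.env.cen _ hzK
      have e : B.zs m * B.zl r = c₀⁻¹ := mul_eq_one_iff_eq_inv.1 h1
      rw [e]; exact (centralizer (K : Set G)).inv_mem hc₀
    rw [z_eq] at h2
    exact hm (nf_one h2).2.2.1
  have hRZ : ∀ x ∈ R', ∃ m' r', ∃ c ∈ centralizer (K : Set G), x = B.zs m' * B.zl r' * c := by
    intro x hx
    obtain ⟨v, hv, c, hc, e⟩ := hdec' x hx
    have hvz : Commute v (B.zs m * B.zl r) := by
      have h1 := hcen' x hx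
      have h2 : v * (B.zs m * B.zl r) * (c * c₀) = B.zs m * B.zl r * v * (c₀ * c) := by
        have e1 : c * (B.zs m * B.zl r) = B.zs m * B.zl r * c := (mem_centralizer_iff.mp hc _ hzK).symm
        have e2 : c₀ * v = v * c₀ := (mem_centralizer_iff.mp hc₀ _ hv).symm
        calc v * (B.zs m * B.zl r) * (c * c₀) = v * (B.zs m * B.zl r * c) * c₀ := by group
          _ = x * (B.zs m * B.zl r * c₀) := by rw [← e1, e]; group
          _ = B.zs m * B.zl r * (c₀ * v) * c := by rw [h1, e]; group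
          _ = _ := by rw [e2]; group
      exact (decomp_unique h.env.cen (K.mul_mem hv hzK) ((centralizer (K : Set G)).mul_mem hc hc₀)
        (K.mul_mem hzK hv) ((centralizer (K : Set G)).mul_mem hc₀ hc) h2).1
    have hvU : IsU B v := hK.cent_m v hv m r hm hr hvz
    have hcU : ∀ y, IsU B y → Commute v y := by
      intro y hy
      have hyK := isU_memK hK.toKBase hy
      have hyN : y ∈ normalizer (L' : Set G) := by
        apply h'.mem hx₀' hx1'
        exact ((z_comm hy m r).mul_right (mem_centralizer_iff.mp hc₀ y hyK)).eq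
      obtain ⟨h1, h2⟩ := commutator_mem (K := K) (L := L') hyK hyN (h'.fp.sylU.le hx) (h'.leR hx)
      have e1 : y * x * y⁻¹ * x⁻¹ = y * v * y⁻¹ * v⁻¹ := by
        have e2 : c * y⁻¹ * c⁻¹ = y⁻¹ := by
          have : c * y⁻¹ = y⁻¹ * c := (mem_centralizer_iff.mp hc _ (K.inv_mem hyK)).symm
          rw [this]; group
        rw [e]
        calc y * (v * c) * y⁻¹ * (v * c)⁻¹ = y * v * (c * y⁻¹ * c⁻¹) * v⁻¹ := by group
          _ = _ := by rw [e2]
      rw [e1] at h1 h2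
      have h5 : IsU B (y * v * y⁻¹ * v⁻¹) := IsU.mul (IsU.mul (IsU.mul hy hvU) (IsU.inv hy)) (IsU.inv hvU)
      have h6 := h'.eq_one_of_inf hRK' h1 h2 (two_of_isU h5)
      show v * y = y * v
      calc v * y = (y * v * y⁻¹ * v⁻¹)⁻¹ * (y * v) := by group
        _ = y * v := by rw [h6, inv_one, one_mul]
    obtain ⟨m', r', e1⟩ := center_U hvU (hcU _ (isU_xa 1)) (hcU _ (isU_xb 1))
    exact ⟨m', r', c, hc, by rw [e, e1]⟩
  -- `R'` is abelian
  have hab : ∀ x ∈ R', ∀ y ∈ R', x * y = y * x := by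
    intro x hx y hy
    obtain ⟨m1, r1, c1, hc1, e1⟩ := hRZ x hx
    obtain ⟨m2, r2, c2, hc2, e2⟩ := hRZ y hy
    have hz1 := isU_memK hK.toKBase (isU_z (B := B) m1 r1)
    have hz2 := isU_memK hK.toKBase (isU_z (B := B) m2 r2)
    have hcomm : x * y * x⁻¹ * y⁻¹ = c1 * c2 * c1⁻¹ * c2⁻¹ := by
      have a1 : Commute (B.zs m1 * B.zl r1) (B.zs m2 * B.zl r2) := z_comm (isU_z m1 r1) m2 r2
      have a2 : Commute (B.zs m1 * B.zl r1) c2 := mem_centralizer_iff.mp hc2 _ hz1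
      have a3 : Commute (B.zs m1 * B.zl r1) c1 := mem_centralizer_iff.mp hc1 _ hz1
      have a4 : Commute (B.zs m2 * B.zl r2) c1 := mem_centralizer_iff.mp hc1 _ hz2
      have a5 : Commute (B.zs m2 * B.zl r2) c2 := mem_centralizer_iff.mp hc2 _ hz2
      have b1 : Commute (B.zs m1 * B.zl r1) y := by rw [e2]; exact a1.mul_right a2
      have b2 : Commute (B.zs m2 * B.zl r2) c1 := a4
      calc x * y * x⁻¹ * y⁻¹ = (B.zs m1 * B.zl r1) * (c1 * y * c1⁻¹) * (B.zs m1 * B.zl r1)⁻¹ * y⁻¹ := by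
            rw [e1]; group
        _ = (c1 * y * c1⁻¹) * y⁻¹ := by
            have b3 : Commute (B.zs m1 * B.zl r1) (c1 * y * c1⁻¹) := (a3.mul_right b1).mul_right a3.inv_right
            rw [b3.eq]; group
        _ = c1 * (B.zs m2 * B.zl r2) * c2 * c1⁻¹ * c2⁻¹ * (B.zs m2 * B.zl r2)⁻¹ := by rw [e2]; group
        _ = (B.zs m2 * B.zl r2) * (c1 * c2 * c1⁻¹ * c2⁻¹) * (B.zs m2 * B.zl r2)⁻¹ := by rw [← b2.eq]; group
        _ = _ := by
            have b4 : Commute (B.zs m2 * B.zl r2) (c1 * c2 * c1⁻¹ * c2⁻¹) :=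
              ((a4.mul_right a5).mul_right a4.inv_right).mul_right a5.inv_right
            rw [b4.eq]; group
    have h1 : x * y * x⁻¹ * y⁻¹ ∈ R' :=
      R'.mul_mem (R'.mul_mem (R'.mul_mem hx hy) (R'.inv_mem hx)) (R'.inv_mem hy)
    have h2 : x * y * x⁻¹ * y⁻¹ = 1 := by
      apply h'.eq_one _ (h'.fp.sylU.le h1) (h'.two h1)
      rw [hcomm]
      exact (centralizer (K : Set G)).mul_mem ((centralizer (K : Set G)).mul_mem
        ((centralizer (K : Set G)).mul_mem hc1 hc2) ((centralizer (K : Set G)).inv_mem hc1))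
        ((centralizer (K : Set G)).inv_mem hc2)
    calc x * y = (x * y * x⁻¹ * y⁻¹) * (y * x) := by group
      _ = y * x := by rw [h2, one_mul]
  by_cases hexL : ∃ r' c, r' ≠ 0 ∧ c ∈ centralizer (K : Set G) ∧ B.zl r' * c ∈ R'
  · obtain ⟨r', c, hr', hc, hx⟩ := hexL
    exact Or.inl (endL hF hK h' hRK' hdec' hr' hc hx (fun x hx' => hab x hx' _ hx))
  by_cases hexS : ∃ r' c, r' ≠ 0 ∧ c ∈ centralizer (K : Set G) ∧ B.zs r' * c ∈ R'
  · obtain ⟨r', c, hr', hc, hx⟩ := hexS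
    exact Or.inr (Or.inl (endS hF hK h' hRK' hdec' hr' hc hx (fun x hx' => hab x hx' _ hx)))
  right; right
  intro x hx hx1
  obtain ⟨m', r', c, hc, e1⟩ := hRZ x hx
  have hzK' := isU_memK hK.toKBase (isU_z (B := B) m' r')
  have hcQ := mem_Q h' hx hzK' hc e1
  have hr0 : r' ≠ 0 := by
    rintro rfl
    by_cases hm0 : m' = 0
    · subst hm0
      rw [B.zs_zero, B.zl_zero, one_mul, one_mul] at e1
      exact hx1 (h'.eq_one (e1 ▸ hc) (h'.fp.sylU.le hx) (h'.two hx))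
    · apply hexS
      rw [B.zl_zero, mul_one] at e1
      exact ⟨m', c, hm0, hc, e1 ▸ hx⟩
  have hm0 : m' ≠ 0 := by
    rintro rfl
    apply hexL
    rw [B.zs_zero, one_mul] at e1
    exact ⟨r', c, hr0, hc, e1 ▸ hx⟩
  refine ⟨c, hcQ, m', r', hm0, hr0, ?_⟩
  rw [e1]
  exact mem_centralizer_iff.mp hc _ hzK'

/-- **(T1)** -/
theorem hasTyp (hF : 4 ≤ Nat.card F) (hK : KCent B K) (hA : KAut B K) (h : Fr K L Q R) : HasTyp B K Q R := by
  by_cases hne : ∃ x ∈ R, x ∈ K ∧ x ≠ 1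
  · exact hasTyp_of_inf hF hK hA h hne
  push Not at hne
  obtain ⟨k, hk, hn⟩ := exists_normU hK h
  have h' := h.conj hk
  have hRK' : ∀ x ∈ cj k R, x ∈ K → x = 1 := by
    intro x hx hxK
    rw [mem_cj] at hx
    have h1 := hne _ hx (K.mul_mem (K.mul_mem (K.inv_mem hk) hxK) hk)
    calc x = k * (k⁻¹ * x * k) * k⁻¹ := by group
      _ = 1 := by rw [h1]; group
  obtain ⟨x, hx, y, hy, hx2, hy2, hxy, hx1, hy1, hxyne⟩ := h'.exists_four
  obtain ⟨h1, h2⟩ := exists_comm hK (R := cj k R) (fun x hx => nU h' hn hx)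
    (fun x hx hx1 v hv hvx r hr => centU hK h' hRK' hn hx hx1 hv hvx hr) hx hy hx2 hy2 hxy hx1 hy1 hxyne
  obtain ⟨k', hk', hT⟩ := hasTyp_of_comm hF hK hA h' hRK' h1 h2
  refine ⟨k' * k, K.mul_mem hk' hk, ?_⟩
  rw [CommConj.cj_mul]
  exact hT

end Cfsg.Agent.OddHalf.D4.SpFourTOne

end

-- merged: Cfsg.Agent.OddHalf.D4.SpFourWord
section

/-!
# ODD D4, `K = Sp₄(q)`: centralisers from the Bruhat words

`KE B K`: Weyl relations and Bruhat decomposition of `K` in the words in `na`, `nb`; `KE.swap`; the centralisers in `K`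
of the elements of `Z = Z_s Z_l` (the proofs of `StdSpFour/EnvFacts` without the conditions on `C(t)`).
-/

set_option autoImplicit false
set_option linter.unusedSectionVars false

namespace Cfsg.Agent.OddHalf.D4.SpFourWord

open Cfsg.Agent.StdSpFour Subgroup
open Cfsg.Agent.StdSpFour.Swap Cfsg.Agent.StdSpFour.Env Cfsg.Agent.StdSpFour.EnvSwap

variable {F G : Type*} [Field F] [Group G]

/-- Weyl relations and Bruhat decomposition -/
structure KE (B : Base F G) (A : Subgroup G) : Prop where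
  weyl : Weyl B
  bruhat : ∀ g ∈ A, ∃ u, IsU B u ∧ ∃ α β n, IsW B n ∧ ∃ u', IsU B u' ∧ g = u * B.h α β * n * u'

variable [CharP F 2] [Finite F] {B : Base F G} {A : Subgroup G}

theorem KE.swap (hE : KE B A) : KE (swap B) A where
  weyl := weyl_swap hE.weyl
  bruhat := by
    intro g hg
    obtain ⟨u, hu, α, β, n, hn, u', hu', h⟩ := hE.bruhat g hg
    refine ⟨u, isU_swap.2 hu, β, α ^ 2, n, isW_swap hE.weyl hn, u', isU_swap.2 hu', ?_⟩
    rw [h]
    show _ = u * B.h (rtU (α ^ 2)) β * n * u'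
    rw [rtU_sq]

section weyl

variable (W : Weyl B)
include W

theorem na_inv : B.na⁻¹ = B.na := inv_eq_of_mul_eq_one_right W.na_sq

theorem nb_inv : B.nb⁻¹ = B.nb := inv_eq_of_mul_eq_one_right W.nb_sq

/-- `na = x_a(1) (na x_a(1) na) x_a(1)` -/
theorem na_eq : B.na = B.xa 1 * (B.na * B.xa 1 * B.na⁻¹) * B.xa 1 := by
  have h := W.na_xa
  have h1 : (B.na * B.xa 1 * B.na) * (B.xa 1 * B.na * B.xa 1) = 1 := by
    rw [← h, pow_succ, pow_two]; group
  have h2 : (B.na * B.xa 1 * B.na) = (B.xa 1 * B.na * B.xa 1)⁻¹ := eq_inv_of_mul_eq_one_left h1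
  rw [na_inv W, h2, mul_inv_rev, mul_inv_rev, B.xa_inv, na_inv W]
  calc B.na = (B.xa 1 * B.xa 1) * B.na * (B.xa 1 * B.xa 1) := by rw [B.xa_xa, one_mul, mul_one]
    _ = _ := by group

omit W in
/-- `h(α,1)` moves `na x_a(u) na⁻¹` to `na x_a(α⁻¹u) na⁻¹`. -/
theorem conj_xma (α β : Fˣ) (u : F) : B.h α β * (B.na * B.xa u * B.na⁻¹) * (B.h α β)⁻¹ =
    B.na * B.xa ((α⁻¹ : Fˣ) * u) * B.na⁻¹ := by
  have h1 : B.h α β * B.na = B.na * B.h α⁻¹ (α ^ 2 * β) := by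
    rw [B.na_h, inv_inv]; congr 2
    rw [inv_pow, inv_mul_cancel_left]
  have h2 : B.na⁻¹ * (B.h α β)⁻¹ = (B.h α⁻¹ (α ^ 2 * β))⁻¹ * B.na⁻¹ := by
    rw [← mul_inv_rev, h1, mul_inv_rev]
  calc B.h α β * (B.na * B.xa u * B.na⁻¹) * (B.h α β)⁻¹
      = (B.h α β * B.na) * B.xa u * (B.na⁻¹ * (B.h α β)⁻¹) := by group
    _ = B.na * (B.h α⁻¹ (α ^ 2 * β) * B.xa u) * (B.h α⁻¹ (α ^ 2 * β))⁻¹ * B.na⁻¹ := by rw [h1, h2]; group
    _ = _ := by rw [B.h_xa]; group

theorem not_isU_xma {u : F} (hu : u ≠ 0) : ¬ IsU B (B.na * B.xa u * B.na⁻¹) := by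
  intro h
  have h1 := h.conj_h (Units.mk0 u hu) 1
  rw [conj_xma] at h1
  have e : ((Units.mk0 u hu)⁻¹ : Fˣ) * u = 1 := by
    rw [Units.val_inv_eq_inv_val, Units.val_mk0, inv_mul_cancel₀ hu]
  rw [e] at h1
  apply not_isU_na (B := B)
  rw [na_eq W]
  exact ((IsU.xa 1).mul h1).mul (IsU.xa 1)

theorem not_isU_xmb {u : F} (hu : u ≠ 0) : ¬ IsU B (B.nb * B.xb u * B.nb⁻¹) := by
  intro h
  exact not_isU_xma (weyl_swap W) hu (isU_swap.2 h)

/-- the torus of `L₁` -/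
theorem tor (α : Fˣ) : B.h α α⁻¹ ∈ closure ({B.na} ∪ Set.range B.xa : Set G) := by
  obtain ⟨β, hβ⟩ : ∃ β : Fˣ, β ^ 2 = α := ⟨Swap.rtU α, Swap.sq_rtU α⟩
  have h1 : B.h β 1 * B.na * (B.h β 1)⁻¹ = B.h (β ^ 2) (β ^ 2)⁻¹ * B.na := by
    rw [B.h_inv, mul_assoc, B.na_h, ← mul_assoc, ← B.h_mul]
    congr 2
    · rw [inv_inv, sq]
    · rw [inv_one, mul_one, one_mul, inv_pow]
  have h2 : B.h β 1 * B.na * (B.h β 1)⁻¹ = B.xa β * (B.na * B.xa ((β⁻¹ : Fˣ) : F) * B.na⁻¹) * B.xa β := by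
    have h3 := conj_xma (B := B) β 1 1
    rw [mul_one] at h3
    have h4 : B.h β 1 * B.xa 1 * (B.h β 1)⁻¹ = B.xa β := by rw [B.h_xa, mul_one]; group
    conv_lhs => rw [na_eq W]
    calc B.h β 1 * (B.xa 1 * (B.na * B.xa 1 * B.na⁻¹) * B.xa 1) * (B.h β 1)⁻¹
        = (B.h β 1 * B.xa 1 * (B.h β 1)⁻¹) * (B.h β 1 * (B.na * B.xa 1 * B.na⁻¹) * (B.h β 1)⁻¹) *
          (B.h β 1 * B.xa 1 * (B.h β 1)⁻¹) := by group
      _ = _ := by rw [h4, ← h3]
  rw [← hβ]
  have h5 : B.h (β ^ 2) (β ^ 2)⁻¹ = B.xa β * (B.na * B.xa ((β⁻¹ : Fˣ) : F) * B.na⁻¹) * B.xa β * B.na⁻¹ := by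
    rw [← h2, h1]; group
  rw [h5]
  have hn : B.na ∈ closure ({B.na} ∪ Set.range B.xa : Set G) := subset_closure (Or.inl rfl)
  have hx : ∀ u, B.xa u ∈ closure ({B.na} ∪ Set.range B.xa : Set G) := fun u => subset_closure (Or.inr ⟨u, rfl⟩)
  exact mul_mem (mul_mem (mul_mem (hx _) (mul_mem (mul_mem hn (hx _)) (inv_mem hn))) (hx _)) (inv_mem hn)

end weyl

/-! ### Centralisers -/

/-- Central elements under a Bruhat word. -/
theorem word_eq {g u u' n : G} {α β : Fˣ} (hu : IsU B u) (hu' : IsU B u') (hg : g = u * B.h α β * n * u') {w w' : F}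
    (hc : Commute g (B.zs w * B.zl w')) :
    n * (B.zs w * B.zl w') * n⁻¹ =
      B.zs ((((α * β)⁻¹ : Fˣ) : F) * w) * B.zl ((((α ^ 2 * β)⁻¹ : Fˣ) : F) * w') := by
  have h1 : (B.h α β)⁻¹ * (B.zs w * B.zl w') * B.h α β =
      B.zs ((((α * β)⁻¹ : Fˣ) : F) * w) * B.zl ((((α ^ 2 * β)⁻¹ : Fˣ) : F) * w') := by
    rw [EnvFacts.zz_v1, B.h_inv, B.h_v1, mul_assoc, ← B.h_mul, inv_mul_cancel, inv_mul_cancel, B.h_one, mul_one,
      mul_zero, EnvFacts.zz_v1]
    congr 1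
    · push_cast; rw [← mul_inv]
    · push_cast; rw [inv_pow, ← mul_inv]
  have hu1 : Commute u (B.zs w * B.zl w') := by rw [EnvFacts.zz_v1]; exact hu.comm_z w w'
  have hu2 : Commute u' (B.zs w * B.zl w') := by rw [EnvFacts.zz_v1]; exact hu'.comm_z w w'
  rw [← h1]
  have h2 : u' * (B.zs w * B.zl w') * u'⁻¹ = B.zs w * B.zl w' := by rw [hu2.eq]; group
  have h3 : u⁻¹ * (B.zs w * B.zl w') * u = B.zs w * B.zl w' := by rw [mul_assoc, ← hu1.eq]; group
  have h4 : g * (B.zs w * B.zl w') * g⁻¹ = B.zs w * B.zl w' := by rw [hc.eq]; group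
  calc n * (B.zs w * B.zl w') * n⁻¹
      = (B.h α β)⁻¹ * (u⁻¹ * (u * B.h α β * n * u' * (u'⁻¹ * (B.zs w * B.zl w') * u') *
        (u * B.h α β * n * u')⁻¹) * u) * B.h α β := by group
    _ = (B.h α β)⁻¹ * (u⁻¹ * (g * (B.zs w * B.zl w') * g⁻¹) * u) * B.h α β := by
        rw [← hg, mul_assoc u'⁻¹, ← hu2.eq, inv_mul_cancel_left]
    _ = _ := by rw [h4, h3]

/-- moving `U` to the left of the torus -/
theorem move_h {u u' : G} (hu : IsU B u) (hu' : IsU B u') (α β : Fˣ) :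
    ∃ v, IsU B v ∧ u * B.h α β * u' = v * B.h α β :=
  ⟨u * (B.h α β * u' * (B.h α β)⁻¹), hu.mul (hu'.conj_h α β), by group⟩

/-- moving `V₁` to the left of `na` -/
theorem move_na {u u' : G} (hu : IsU B u) (hu' : IsU B u') (α β : Fˣ) :
    ∃ v, IsU B v ∧ ∃ c, u * B.h α β * B.na * u' = v * B.h α β * B.na * B.xa c := by
  obtain ⟨c, s, m, r, rfl⟩ := hu'
  refine ⟨u * (B.h α β * B.v1 (r + c ^ 2 * s) (m + c * s) s * (B.h α β)⁻¹),
    hu.mul ((IsU.v1 _ _ _).conj_h α β), c, ?_⟩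
  rw [B.xa_v1]
  have h1 := B.na_v1 s (m + c * s) (r + c ^ 2 * s)
  calc u * B.h α β * B.na * (B.v1 s (m + c * s) (r + c ^ 2 * s) * B.xa c)
      = u * B.h α β * (B.na * B.v1 s (m + c * s) (r + c ^ 2 * s)) * B.xa c := by group
    _ = _ := by rw [h1]; group

/-- `C_A(z_s(w))` -/
theorem KE.cent_zs (hE : KE B A) {g : G} (hg : g ∈ A) {w : F} (hw : w ≠ 0) (hc : Commute g (B.zs w)) :
    (∃ v, IsU B v ∧ ∃ α : Fˣ, g = v * B.h α α⁻¹) ∨
      ∃ v, IsU B v ∧ ∃ α : Fˣ, ∃ c, g = v * B.h α α⁻¹ * B.na * B.xa c := by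
  have W := hE.weyl
  obtain ⟨u, hu, α, β, n, hn, u', hu', h⟩ := hE.bruhat g hg
  have hc' : Commute g (B.zs w * B.zl 0) := by rw [B.zl_zero, mul_one]; exact hc
  have h1 := word_eq hu hu' h hc'
  rw [mul_zero, B.zl_zero, mul_one, mul_one] at h1
  set w1 : F := (((α * β)⁻¹ : Fˣ) : F) * w with hw1
  have hnb : B.nb * B.zs w * B.nb⁻¹ = B.xa w := by rw [B.nb_zs]; group
  have hna : B.na * B.zs w * B.na⁻¹ = B.zs w := by rw [B.na_zs]; group
  have hxz : ∀ {v : F}, B.xa w = B.zs v → False := by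
    intro v h2
    have h3 : B.xa w * B.v1 0 0 0 = B.xa 0 * B.v1 0 v 0 := by
      rw [B.v1_zero, mul_one, B.xa_zero, one_mul, Base.v1_zs, h2]
    exact hw (nf_inj h3).1
  have hxm : ∀ {v : F}, B.na * B.xa w * B.na⁻¹ = B.zs v → False := by
    intro v h2
    exact not_isU_xma W hw (by rw [h2]; exact EnvFacts.IsU.zs v)
  have key : w = w1 → β = α⁻¹ := by
    intro h2
    have h3 : (((α * β)⁻¹ : Fˣ) : F) = 1 := mul_right_cancel₀ hw (by rw [one_mul]; exact h2.symm)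
    have h4 : (α * β)⁻¹ = 1 := Units.ext (by rw [h3, Units.val_one])
    rw [inv_eq_one] at h4
    exact eq_inv_of_mul_eq_one_right h4
  have hwv : B.zs w = B.zs w1 → w = w1 := by
    intro h2
    rw [← Base.v1_zs, ← Base.v1_zs] at h2
    exact (B.v1_inj h2).2.1
  rcases hn with rfl | rfl | rfl | rfl | rfl | rfl | rfl | rfl
  · rw [one_mul, inv_one, mul_one] at h1
    have hβ := key (hwv h1)
    subst hβ
    obtain ⟨v, hv, e⟩ := move_h hu hu' α α⁻¹
    exact Or.inl ⟨v, hv, α, by rw [h, mul_one, e]⟩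
  · rw [hna] at h1
    have hβ := key (hwv h1)
    subst hβ
    obtain ⟨v, hv, c, e⟩ := move_na hu hu' α α⁻¹
    exact Or.inr ⟨v, hv, α, c, by rw [h, e]⟩
  · rw [hnb] at h1
    exact (hxz h1).elim
  · rw [show B.na * B.nb * B.zs w * (B.na * B.nb)⁻¹ = B.na * (B.nb * B.zs w * B.nb⁻¹) * B.na⁻¹ by group, hnb] at h1
    exact (hxm h1).elim
  · rw [show B.nb * B.na * B.zs w * (B.nb * B.na)⁻¹ = B.nb * (B.na * B.zs w * B.na⁻¹) * B.nb⁻¹ by group, hna,
      hnb] at h1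
    exact (hxz h1).elim
  · rw [show B.na * B.nb * B.na * B.zs w * (B.na * B.nb * B.na)⁻¹ =
      B.na * (B.nb * (B.na * B.zs w * B.na⁻¹) * B.nb⁻¹) * B.na⁻¹ by group, hna, hnb] at h1
    exact (hxm h1).elim
  · rw [show B.nb * B.na * B.nb * B.zs w * (B.nb * B.na * B.nb)⁻¹ =
      B.nb * (B.na * (B.nb * B.zs w * B.nb⁻¹) * B.na⁻¹) * B.nb⁻¹ by group, hnb] at h1
    exfalso
    apply not_isU_xma W hw
    have h2 : B.na * B.xa w * B.na⁻¹ = B.xa w1 := by
      calc B.na * B.xa w * B.na⁻¹ = B.nb⁻¹ * (B.nb * (B.na * B.xa w * B.na⁻¹) * B.nb⁻¹) * B.nb := by group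
        _ = B.nb⁻¹ * B.zs w1 * B.nb := by rw [h1]
        _ = B.nb * B.zs w1 * B.nb⁻¹ := by rw [nb_inv W]
        _ = B.xa w1 := by rw [B.nb_zs]; group
    rw [h2]; exact IsU.xa _
  · rw [show B.na * B.nb * B.na * B.nb * B.zs w * (B.na * B.nb * B.na * B.nb)⁻¹ =
      B.na * (B.nb * (B.na * (B.nb * B.zs w * B.nb⁻¹) * B.na⁻¹) * B.nb⁻¹) * B.na⁻¹ by group, hnb] at h1
    exfalso
    apply not_isU_xma W hw
    have h2 : B.na * B.xa w * B.na⁻¹ = B.xa w1 := by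
      calc B.na * B.xa w * B.na⁻¹ = B.nb⁻¹ * (B.na⁻¹ * (B.na * (B.nb * (B.na * B.xa w * B.na⁻¹) * B.nb⁻¹) * B.na⁻¹)
            * B.na) * B.nb := by group
        _ = B.nb⁻¹ * (B.na⁻¹ * B.zs w1 * B.na) * B.nb := by rw [h1]
        _ = B.nb * (B.na * B.zs w1 * B.na⁻¹) * B.nb⁻¹ := by rw [nb_inv W, na_inv W]
        _ = B.nb * B.zs w1 * B.nb⁻¹ := by rw [B.na_zs]; group
        _ = B.xa w1 := by rw [B.nb_zs]; group
    rw [h2]; exact IsU.xa _

/-- `C_A(z_s(w) z_l(w')) ≤ U` for `w, w' ≠ 0` -/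
theorem KE.cent_mixed (hE : KE B A) (hF : 4 ≤ Nat.card F) {g : G} (hg : g ∈ A) {w w' : F} (hw : w ≠ 0)
    (hw' : w' ≠ 0) (hc : Commute g (B.zs w * B.zl w')) : IsU B g := by
  have W := hE.weyl
  obtain ⟨u, hu, α, β, n, hn, u', hu', h⟩ := hE.bruhat g hg
  have h1 := word_eq hu hu' h hc
  set w1 : F := (((α * β)⁻¹ : Fˣ) : F) * w with hw1
  set w2 : F := (((α ^ 2 * β)⁻¹ : Fˣ) : F) * w' with hw2
  have hw20 : w2 ≠ 0 := mul_ne_zero (Units.ne_zero _) hw'
  have cs : ∀ x : F, B.nb * B.zs x * B.nb⁻¹ = B.xa x := fun x => by rw [B.nb_zs]; group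
  have cl : ∀ x : F, B.nb * B.zl x * B.nb⁻¹ = B.zl x := fun x => by rw [B.nb_zl]; group
  have as : ∀ x : F, B.na * B.zs x * B.na⁻¹ = B.zs x := fun x => by rw [B.na_zs]; group
  have al : ∀ x : F, B.na * B.zl x * B.na⁻¹ = B.xb x := fun x => by rw [B.na_zl]; group
  have cm : ∀ n x y : G, n * (x * y) * n⁻¹ = (n * x * n⁻¹) * (n * y * n⁻¹) := fun n x y => by group
  have cjj : ∀ n n' x : G, (n * n') * x * (n * n')⁻¹ = n * (n' * x * n'⁻¹) * n⁻¹ := fun n n' x => by group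
  have a1 : B.na * (B.zs w * B.zl w') * B.na⁻¹ = B.zs w * B.xb w' := by rw [cm, as, al]
  have b1 : B.nb * (B.zs w * B.zl w') * B.nb⁻¹ = B.xa w * B.zl w' := by rw [cm, cs, cl]
  have ba : B.nb * (B.zs w * B.xb w') * B.nb⁻¹ = B.xa w * (B.nb * B.xb w' * B.nb⁻¹) := by rw [cm, cs]
  have ab' : B.na * (B.xa w * B.zl w') * B.na⁻¹ = B.na * B.xa w * B.na⁻¹ * B.xb w' := by rw [cm, al]
  have hUz : IsU B (B.zs w1 * B.zl w2) := (EnvFacts.IsU.zs _).mul (EnvFacts.IsU.zl _)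
  -- the inverse actions
  have backa : ∀ {x : G}, B.na * x * B.na⁻¹ = B.zs w1 * B.zl w2 → x = B.zs w1 * B.xb w2 := by
    intro x h2
    calc x = B.na⁻¹ * (B.na * x * B.na⁻¹) * B.na := by group
      _ = B.na * (B.zs w1 * B.zl w2) * B.na⁻¹ := by rw [h2, na_inv W]
      _ = _ := by rw [cm, as, al]
  have backb : ∀ {x : G}, B.nb * x * B.nb⁻¹ = B.zs w1 * B.zl w2 → x = B.xa w1 * B.zl w2 := by
    intro x h2
    calc x = B.nb⁻¹ * (B.nb * x * B.nb⁻¹) * B.nb := by group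
      _ = B.nb * (B.zs w1 * B.zl w2) * B.nb⁻¹ := by rw [h2, nb_inv W]
      _ = _ := by rw [cm, cs, cl]
  rcases hn with rfl | rfl | rfl | rfl | rfl | rfl | rfl | rfl
  · rw [one_mul, inv_one, mul_one, EnvFacts.zz_v1, EnvFacts.zz_v1] at h1
    obtain ⟨-, h2, h3⟩ := B.v1_inj h1
    have h4 : (α * β)⁻¹ = 1 := Units.ext (mul_right_cancel₀ hw (by rw [← hw1, Units.val_one, one_mul, h2]))
    have h5 : (α ^ 2 * β)⁻¹ = 1 := Units.ext (mul_right_cancel₀ hw' (by rw [← hw2, Units.val_one, one_mul, h3]))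
    rw [inv_eq_one] at h4 h5
    have h6 : α = 1 := by
      have : α * (α * β) = 1 := by rw [← h5, sq, mul_assoc]
      rwa [h4, mul_one] at this
    have h7 : β = 1 := by rwa [h6, one_mul] at h4
    rw [h, h6, h7, B.h_one, mul_one, mul_one]
    exact hu.mul hu'
  · exfalso
    rw [cm, as, al, EnvFacts.zz_v1] at h1
    have h2 : B.v1 w' w 0 = B.v1 0 w1 w2 := by rw [← h1, Base.v1, B.zl_zero, mul_one, (B.xb_zs w' w).eq]
    exact hw' (B.v1_inj h2).1
  · exfalso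
    rw [cm, cs, cl, EnvFacts.zz_v1] at h1
    have h2 : B.xa w * B.v1 0 0 w' = B.xa 0 * B.v1 0 w1 w2 := by rw [Base.v1_zl, h1, B.xa_zero, one_mul]
    exact hw (nf_inj h2).1
  · exfalso
    rw [cjj, b1, ab'] at h1
    apply not_isU_xma W hw
    apply EnvFacts.isU_of_mul_right (EnvFacts.IsU.xb w')
    rw [h1]; exact hUz
  · exfalso
    rw [cjj, a1, ba] at h1
    apply not_isU_xmb W hw'
    apply EnvFacts.isU_of_mul_left (IsU.xa w)
    rw [h1]; exact hUz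
  · exfalso
    rw [cjj, cjj, a1, ba] at h1
    have h2 := backa h1
    apply not_isU_xmb W hw'
    apply EnvFacts.isU_of_mul_left (IsU.xa w)
    rw [h2]; exact (EnvFacts.IsU.zs _).mul (EnvFacts.IsU.xb _)
  · exfalso
    rw [cjj, cjj, b1, ab'] at h1
    have h2 := backb h1
    apply not_isU_xma W hw
    apply EnvFacts.isU_of_mul_right (EnvFacts.IsU.xb w')
    rw [h2]; exact (IsU.xa _).mul (EnvFacts.IsU.zl _)
  · exfalso
    rw [cjj, cjj, cjj, b1, ab'] at h1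
    have h2 := backa h1
    -- `(na xa w na⁻¹) xb w' = xa w1 (nb⁻¹ xb w2 nb)`
    have h3 : B.na * B.xa w * B.na⁻¹ * B.xb w' = B.xa w1 * (B.nb * B.xb w2 * B.nb⁻¹) := by
      calc B.na * B.xa w * B.na⁻¹ * B.xb w'
          = B.nb⁻¹ * (B.nb * (B.na * B.xa w * B.na⁻¹ * B.xb w') * B.nb⁻¹) * B.nb := by group
        _ = B.nb * (B.zs w1 * B.xb w2) * B.nb⁻¹ := by rw [h2, nb_inv W]
        _ = _ := by rw [cm, cs]
    have := Fintype.ofFinite F
    rw [Nat.card_eq_fintype_card] at hF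
    obtain ⟨γ, hγ⟩ := Base.exists_unit_ne hF
    -- conjugate by `h(1,γ)`
    have c1 : B.h 1 γ * (B.na * B.xa w * B.na⁻¹) * (B.h 1 γ)⁻¹ = B.na * B.xa w * B.na⁻¹ := by
      rw [conj_xma, inv_one, Units.val_one, one_mul]
    have c2 : B.h 1 γ * B.xb w' * (B.h 1 γ)⁻¹ = B.xb (γ * w') := by rw [B.h_xb]; group
    have c3 : B.h 1 γ * B.xa w1 * (B.h 1 γ)⁻¹ = B.xa w1 := by rw [B.h_xa, Units.val_one, one_mul]; group
    have c4 : B.h 1 γ * (B.nb * B.xb w2 * B.nb⁻¹) * (B.h 1 γ)⁻¹ =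
        B.nb * B.xb (((γ⁻¹ : Fˣ) : F) * w2) * B.nb⁻¹ := by
      have h4 := conj_xma (B := Swap.swap B) γ 1 w2
      change B.h (rtU 1) γ * (B.nb * B.xb w2 * B.nb⁻¹) * (B.h (rtU 1) γ)⁻¹ =
        B.nb * B.xb (((γ⁻¹ : Fˣ) : F) * w2) * B.nb⁻¹ at h4
      rwa [map_one] at h4
    have h5 : B.na * B.xa w * B.na⁻¹ * B.xb (γ * w') =
        B.xa w1 * (B.nb * B.xb (((γ⁻¹ : Fˣ) : F) * w2) * B.nb⁻¹) := by
      have h6 : B.h 1 γ * (B.na * B.xa w * B.na⁻¹ * B.xb w') * (B.h 1 γ)⁻¹ =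
        B.h 1 γ * (B.xa w1 * (B.nb * B.xb w2 * B.nb⁻¹)) * (B.h 1 γ)⁻¹ := by rw [h3]
      rwa [cm _ (B.na * B.xa w * B.na⁻¹) (B.xb w'), cm _ (B.xa w1) (B.nb * B.xb w2 * B.nb⁻¹), c1, c2, c3, c4] at h6
    apply not_isU_xmb W (u := w2 + ((γ⁻¹ : Fˣ) : F) * w2)
    · intro h6
      have h7 : w2 = ((γ⁻¹ : Fˣ) : F) * w2 := FieldAux.eq_of_add_eq_zero h6
      have h8 : γ⁻¹ = 1 := Units.ext (mul_right_cancel₀ hw20 (by rw [Units.val_one, one_mul, ← h7]))
      exact hγ (inv_eq_one.1 h8)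
    · have h9 : B.nb * B.xb (w2 + ((γ⁻¹ : Fˣ) : F) * w2) * B.nb⁻¹ = B.xb w' * B.xb (γ * w') := by
        have h10 : (B.na * B.xa w * B.na⁻¹ * B.xb w')⁻¹ * (B.na * B.xa w * B.na⁻¹ * B.xb (γ * w')) =
          (B.xa w1 * (B.nb * B.xb w2 * B.nb⁻¹))⁻¹ *
            (B.xa w1 * (B.nb * B.xb (((γ⁻¹ : Fˣ) : F) * w2) * B.nb⁻¹)) := by rw [h3, h5]
        have h11 : (B.na * B.xa w * B.na⁻¹ * B.xb w')⁻¹ * (B.na * B.xa w * B.na⁻¹ * B.xb (γ * w')) =
          B.xb w' * B.xb (γ * w') := by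
            rw [mul_inv_rev, B.xb_inv]; group
        have h12 : (B.xa w1 * (B.nb * B.xb w2 * B.nb⁻¹))⁻¹ *
            (B.xa w1 * (B.nb * B.xb (((γ⁻¹ : Fˣ) : F) * w2) * B.nb⁻¹)) =
            B.nb * B.xb (w2 + ((γ⁻¹ : Fˣ) : F) * w2) * B.nb⁻¹ := by
            rw [B.xb_add, mul_inv_rev, mul_inv_rev, mul_inv_rev, B.xb_inv]; group
        rw [← h11, h10, h12]
      rw [h9]
      exact (EnvFacts.IsU.xb _).mul (EnvFacts.IsU.xb _)

end Cfsg.Agent.OddHalf.D4.SpFourWord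

end

-- merged: Cfsg.Agent.OddHalf.D4.SpFourK
section

/-!
# ODD D4, `K = Sp₄(q)`: `KCent` and `KAut` for the package `Std (stdSp F) A`
-/

set_option autoImplicit false
set_option linter.unusedSectionVars false

namespace Cfsg.Agent.OddHalf.D4.SpFourK

open Subgroup
open Cfsg.Agent.TitsThree.B2Pkg Cfsg.Agent.TitsThree.RankTwoIdentB2
  Cfsg.Agent.TitsThree.CoreB2 Cfsg.Agent.TitsThree.RankTwoIdx Cfsg.Agent.TitsThree.RankTwoRGD
  Cfsg.Agent.TitsThree.StdData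
open Cfsg.Agent.StdRank2 Cfsg.Agent.StdRank2.OddLift Cfsg.Agent.StdRank2.B2Lift Cfsg.Agent.StdRank2.B2Std
  Cfsg.Agent.StdRank2.B2Torus Cfsg.Agent.StdRank2.B2Act Cfsg.Agent.StdRank2.B2Act.Std
  Cfsg.Agent.StdRank2.B2Par Cfsg.Agent.StdRank2.B2Par.Std
  Cfsg.Agent.StdRank2.B2Amb Cfsg.Agent.StdRank2.SpFrame Cfsg.Agent.StdRank2.SpSelf
open Cfsg.Agent.StdSpFour Cfsg.Agent.OddHalf.D4.SpFourDefs Cfsg.Agent.OddHalf.D4.SpFourWord
open Cfsg.Agent.StdSpFour.Swap Cfsg.Agent.StdSpFour.Env Cfsg.Agent.StdSpFour.EnvSwap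

universe u

variable {F : Type*} [Field F] [Finite F] [CharP F 2]
variable {G : Type u} [Group G] {A : Subgroup G} (S : Std (stdSp F) ↥A)
  (hZ : center ↥A = ⊥) {t : G} (htt : t * t = 1) (htA : t ∈ centralizer (A : Set G)) (htn : t ∉ A)

/-- the two forms of `U` -/
theorem isU_iff' {B : Base F G} {g : G} : SpFourCent.IsU B g ↔ Env.IsU B g := by
  constructor
  · rintro ⟨u, s, m, r, rfl⟩
    exact ⟨u, s, m, r, by rw [Base.v1]; group⟩
  · rintro ⟨u, s, m, r, rfl⟩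
    exact ⟨u, s, m, r, by rw [Base.v1]; group⟩

include S in
theorem ke : KE (SpFrame.base S hZ htt htA htn) A where
  weyl := Weyl.base S hZ htt htA htn
  bruhat := by
    intro g hg
    have hW := Weyl.base S hZ htt htA htn
    have hbr : SpFrame.na S * SpFrame.nb S * SpFrame.na S * SpFrame.nb S =
        SpFrame.nb S * SpFrame.na S * SpFrame.nb S * SpFrame.na S :=
      A.subtype_injective (EnvSwap.braid' hW)
    obtain ⟨u, hu, α, β, n, hn, u', hu', e⟩ := SpEnv.bruhat hZ hbr (⟨g, hg⟩ : ↥A)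
    refine ⟨u, (SpEnv.isU_iff S hZ htt htA htn).2 ⟨u, hu, rfl⟩, α, β, n, ?_, u',
      (SpEnv.isU_iff S hZ htt htA htn).2 ⟨u', hu', rfl⟩, congrArg Subtype.val e⟩
    rcases hn with rfl | rfl | rfl | rfl | rfl | rfl | rfl | rfl
    · exact Or.inl rfl
    · exact Or.inr (Or.inl rfl)
    · exact Or.inr (Or.inr (Or.inl rfl))
    · exact Or.inr (Or.inr (Or.inr (Or.inl rfl)))
    · exact Or.inr (Or.inr (Or.inr (Or.inr (Or.inl rfl))))
    · exact Or.inr (Or.inr (Or.inr (Or.inr (Or.inr (Or.inl rfl)))))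
    · exact Or.inr (Or.inr (Or.inr (Or.inr (Or.inr (Or.inr (Or.inl rfl))))))
    · exact Or.inr (Or.inr (Or.inr (Or.inr (Or.inr (Or.inr (Or.inr rfl))))))

/-- `B = U H` in coordinates -/
theorem mem_B' {g : ↥A} (hg : g ∈ S.U ⊔ S.H) : ∃ u s m r : F, ∃ α β : Fˣ,
    (g : G) = (SpFrame.base S hZ htt htA htn).xa u * (SpFrame.base S hZ htt htA htn).xb s *
      (SpFrame.base S hZ htt htA htn).zs m * (SpFrame.base S hZ htt htA htn).zl r *
      (SpFrame.base S hZ htt htA htn).h α β := by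
  obtain ⟨u, hu, h, hh, rfl⟩ := mem_B.1 hg
  obtain ⟨α, β, rfl⟩ := SpEnv.exists_h S hZ hh
  obtain ⟨u', s, m, r, e⟩ := isU_iff'.2 ((SpEnv.isU_iff S hZ htt htA htn).2 ⟨u, hu, rfl⟩)
  exact ⟨u', s, m, r, α, β, by rw [← e]; rfl⟩

include hZ in
/-- the reflection `nII p₀` -/
theorem nII_eq : ∃ α β : Fˣ, S.m.nII S.p₀ = SpFrame.h S α β * SpFrame.nb S := by
  obtain ⟨α0, β0, h0⟩ := SpEnv.exists_h S hZ (hII_mem (m := S.m) S.hp₀ one_c)
  exact ⟨α0, β0, by rw [← h0]; unfold nb; group⟩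

/-- `Z` lies in a subgroup containing `X_a`, `X_b`. -/
theorem zz_mem {B : Base F G} {D : Subgroup G} (hF : 4 ≤ Nat.card F) (hxa : ∀ u, B.xa u ∈ D)
    (hxb : ∀ u, B.xb u ∈ D) : (∀ u, B.zs u ∈ D) ∧ ∀ u, B.zl u ∈ D := by
  have h1 : ∀ u s, B.zs (u * s) * B.zl (u ^ 2 * s) ∈ D := by
    intro u s
    have h2 : B.zs (u * s) * B.zl (u ^ 2 * s) = (B.xb s * B.xa u)⁻¹ * (B.xa u * B.xb s) := by
      rw [B.xa_xb]; group
    rw [h2]
    exact mul_mem (inv_mem (mul_mem (hxb _) (hxa _))) (mul_mem (hxa _) (hxb _))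
  have := Fintype.ofFinite F
  rw [Nat.card_eq_fintype_card] at hF
  obtain ⟨γ, hγ⟩ := Base.exists_unit_ne hF
  have hγ' : (γ : F) + 1 ≠ 0 := by
    intro h
    exact hγ (Units.ext (by rw [Units.val_one]; exact FieldAux.eq_of_add_eq_zero h))
  have hl : ∀ w, B.zl w ∈ D := by
    intro w
    set v := ((γ : F) + 1)⁻¹ * w with hv
    have h2 := h1 γ (((γ⁻¹ : Fˣ) : F) * v)
    have h3 := h1 1 v
    have e1 : (γ : F) * (((γ⁻¹ : Fˣ) : F) * v) = v := by
      rw [← mul_assoc, Units.mul_inv, one_mul]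
    have e2 : (γ : F) ^ 2 * (((γ⁻¹ : Fˣ) : F) * v) = γ * v := by
      rw [pow_two, mul_assoc, e1]
    rw [e1, e2] at h2
    rw [one_mul, one_pow, one_mul] at h3
    have h4 := mul_mem h2 h3
    have h5 : B.zs v * B.zl (γ * v) * (B.zs v * B.zl v) = B.zl w := by
      calc B.zs v * B.zl (γ * v) * (B.zs v * B.zl v)
          = B.zs v * (B.zl (γ * v) * B.zs v) * B.zl v := by group
        _ = (B.zs v * B.zs v) * (B.zl (γ * v) * B.zl v) := by rw [← (B.zs_zl v (γ * v)).eq]; group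
        _ = B.zl w := by
            rw [← B.zs_add, ← B.zl_add, CharTwo.add_self_eq_zero, B.zs_zero, one_mul]
            congr 1
            rw [hv]
            field_simp
    rwa [h5] at h4
  refine ⟨fun w => ?_, hl⟩
  have h2 := h1 1 w
  rw [one_mul, one_pow, one_mul] at h2
  have h3 := mul_mem h2 (inv_mem (hl w))
  rwa [mul_inv_cancel_right] at h3

theorem B_le (hF : 4 ≤ Nat.card F) {D : Subgroup G}
    (hxa : ∀ u, (SpFrame.base S hZ htt htA htn).xa u ∈ D) (hxb : ∀ u, (SpFrame.base S hZ htt htA htn).xb u ∈ D)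
    (hh : ∀ α β, (SpFrame.base S hZ htt htA htn).h α β ∈ D) : S.U ⊔ S.H ≤ D.subgroupOf A := by
  intro g hg
  obtain ⟨u, s, m, r, α, β, e⟩ := mem_B' S hZ htt htA htn hg
  rw [mem_subgroupOf, e]
  obtain ⟨h1, h2⟩ := zz_mem hF hxa hxb
  exact mul_mem (mul_mem (mul_mem (mul_mem (hxa u) (hxb s)) (h1 m)) (h2 r)) (hh α β)

theorem bruhat_a (hF : 4 ≤ Nat.card F) {D : Subgroup G} (hDA : D ≤ A)
    (hxa : ∀ u, (SpFrame.base S hZ htt htA htn).xa u ∈ D) (hxb : ∀ u, (SpFrame.base S hZ htt htA htn).xb u ∈ D)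
    (hh : ∀ α β, (SpFrame.base S hZ htt htA htn).h α β ∈ D) (hn : (SpFrame.base S hZ htt htA htn).nb ∉ D)
    {g : G} (hg : g ∈ D) :
    (∃ u s m r α β, g = (SpFrame.base S hZ htt htA htn).xa u * (SpFrame.base S hZ htt htA htn).xb s *
      (SpFrame.base S hZ htt htA htn).zs m * (SpFrame.base S hZ htt htA htn).zl r *
      (SpFrame.base S hZ htt htA htn).h α β) ∨
    ∃ u s m r α β k, g = (SpFrame.base S hZ htt htA htn).xa u * (SpFrame.base S hZ htt htA htn).xb s *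
      (SpFrame.base S hZ htt htA htn).zs m * (SpFrame.base S hZ htt htA htn).zl r *
      (SpFrame.base S hZ htt htA htn).h α β * (SpFrame.base S hZ htt htA htn).na *
      (SpFrame.base S hZ htt htA htn).xa k := by
  have hle := B_le S hZ htt htA htn hF hxa hxb hh
  have h1 := mem_or S.r2.core (by norm_num) (S := D.subgroupOf A)
    (by rw [S.core_G]; exact le_top) (by rw [core_D]; exact hle) ?_ (g := ⟨g, hDA hg⟩) (mem_subgroupOf.2 hg)
  · rw [core_D, core_nI] at h1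
    rcases h1 with h1 | ⟨b, hb, a, ha, e⟩
    · left
      exact mem_B' S hZ htt htA htn h1
    · right
      obtain ⟨c, rfl⟩ := core_AI ha
      obtain ⟨u, s, m, r, α, β, e'⟩ := mem_B' S hZ htt htA htn hb
      refine ⟨u, s, m, r, α, β, c, ?_⟩
      rw [← e']
      exact congrArg Subtype.val e
  · rw [core_nJ]
    intro hJ
    apply hn
    obtain ⟨α, β, e⟩ := nII_eq S hZ
    rw [e, mem_subgroupOf] at hJ
    have h2 : (SpFrame.base S hZ htt htA htn).h α β * (SpFrame.base S hZ htt htA htn).nb ∈ D := hJ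
    have h3 := mul_mem (inv_mem (hh α β)) h2
    rwa [inv_mul_cancel_left] at h3

theorem bruhat_b (hF : 4 ≤ Nat.card F) {D : Subgroup G} (hDA : D ≤ A)
    (hxa : ∀ u, (SpFrame.base S hZ htt htA htn).xa u ∈ D) (hxb : ∀ u, (SpFrame.base S hZ htt htA htn).xb u ∈ D)
    (hh : ∀ α β, (SpFrame.base S hZ htt htA htn).h α β ∈ D) (hn : (SpFrame.base S hZ htt htA htn).na ∉ D)
    {g : G} (hg : g ∈ D) :
    (∃ u s m r α β, g = (SpFrame.base S hZ htt htA htn).xa u * (SpFrame.base S hZ htt htA htn).xb s *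
      (SpFrame.base S hZ htt htA htn).zs m * (SpFrame.base S hZ htt htA htn).zl r *
      (SpFrame.base S hZ htt htA htn).h α β) ∨
    ∃ u s m r α β k, g = (SpFrame.base S hZ htt htA htn).xa u * (SpFrame.base S hZ htt htA htn).xb s *
      (SpFrame.base S hZ htt htA htn).zs m * (SpFrame.base S hZ htt htA htn).zl r *
      (SpFrame.base S hZ htt htA htn).h α β * (SpFrame.base S hZ htt htA htn).nb *
      (SpFrame.base S hZ htt htA htn).xb k := by
  have hle := B_le S hZ htt htA htn hF hxa hxb hh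
  have e1 : S.r2.core.symm.D = S.U ⊔ S.H := core_D
  have h1 := mem_or S.r2.core.symm (by norm_num) (S := D.subgroupOf A)
    (by
      have : S.r2.core.symm.G = ⊤ := by
        rw [eq_top_iff, ← S.core_G]
        unfold Core.G
        refine sup_le le_sup_left (sup_le ?_ ?_)
        · exact le_trans (le_sup_right (a := S.r2.core.AJ')) le_sup_right
        · exact le_trans (le_sup_left (b := S.r2.core.AI')) le_sup_right
      rw [this]; exact le_top)
    (by rw [e1]; exact hle) ?_ (g := ⟨g, hDA hg⟩) (mem_subgroupOf.2 hg)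
  · rw [e1] at h1
    rcases h1 with h1 | ⟨b, hb, a, ha, e⟩
    · left
      exact mem_B' S hZ htt htA htn h1
    · right
      obtain ⟨c, rfl⟩ := core_AJ ha
      obtain ⟨α0, β0, e0⟩ := nII_eq S hZ
      have hb' : b * SpFrame.h S α0 β0 ∈ S.U ⊔ S.H := mul_mem hb (le_sup_right (a := S.U) (SpFrame.h_mem S α0 β0))
      obtain ⟨u, s, m, r, α, β, e'⟩ := mem_B' S hZ htt htA htn hb'
      refine ⟨u, s, m, r, α, β, c.c, ?_⟩
      rw [← e']
      have e2 : (⟨g, hDA hg⟩ : ↥A) = b * SpFrame.h S α0 β0 * SpFrame.nb S * S.m.z₂ c := by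
        rw [e]
        show b * S.m.nII S.p₀ * S.m.z₂ c = _
        rw [e0]; group
      exact congrArg Subtype.val e2
  · have e1 : S.r2.core.symm.nJ = S.m.nI := core_nI
    rw [e1]
    intro hJ
    exact hn (mem_subgroupOf.1 hJ)


/-! ### Generation -/

section gen

variable {B : Base F G} {K : Subgroup G}

/-- the generating set -/
abbrev GS (B : Base F G) : Set G := {B.na, B.nb} ∪ (Set.range B.xa ∪ Set.range B.xb)

theorem tor_b (W : Weyl B) (α : Fˣ) : B.h α (α ^ 2)⁻¹ ∈ closure ({B.nb} ∪ Set.range B.xb : Set G) := by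
  have h1 := tor (weyl_swap W) (α ^ 2)⁻¹
  change B.h (rtU ((α ^ 2)⁻¹)⁻¹) (α ^ 2)⁻¹ ∈ closure ({B.nb} ∪ Set.range B.xb : Set G) at h1
  rwa [inv_inv, rtU_sq] at h1

theorem isU_gen {g : G} (hg : Env.IsU B g) : g ∈ closure (GS B) := by
  have hna : B.na ∈ closure (GS B) := subset_closure (Or.inl (Or.inl rfl))
  have hnb : B.nb ∈ closure (GS B) := subset_closure (Or.inl (Or.inr rfl))
  have hxa : ∀ u, B.xa u ∈ closure (GS B) := fun u => subset_closure (Or.inr (Or.inl ⟨u, rfl⟩))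
  have hxb : ∀ u, B.xb u ∈ closure (GS B) := fun u => subset_closure (Or.inr (Or.inr ⟨u, rfl⟩))
  have hzs : ∀ u, B.zs u ∈ closure (GS B) := by
    intro u
    have h1 : B.nb * B.xa u * B.nb⁻¹ = B.zs u := by rw [B.nb_xa]; group
    rw [← h1]
    exact mul_mem (mul_mem hnb (hxa u)) (inv_mem hnb)
  have hzl : ∀ u, B.zl u ∈ closure (GS B) := by
    intro u
    have h1 : B.na * B.xb u * B.na⁻¹ = B.zl u := by rw [B.na_xb]; group
    rw [← h1]
    exact mul_mem (mul_mem hna (hxb u)) (inv_mem hna)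
  obtain ⟨u, s, m, r, rfl⟩ := hg
  exact mul_mem (hxa u) (mul_mem (mul_mem (hxb s) (hzs m)) (hzl r))

theorem KE.gen (hE : KE B K) : K ≤ closure (GS B) := by
  have W := hE.weyl
  intro g hg
  obtain ⟨u, hu, α, β, n, hn, u', hu', rfl⟩ := hE.bruhat g hg
  have hna : B.na ∈ closure (GS B) := subset_closure (Or.inl (Or.inl rfl))
  have hnb : B.nb ∈ closure (GS B) := subset_closure (Or.inl (Or.inr rfl))
  have ha : ∀ α : Fˣ, B.h α α⁻¹ ∈ closure (GS B) := by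
    intro α
    refine closure_mono ?_ (tor W α)
    rintro x (hx | hx)
    · exact Or.inl (Or.inl hx)
    · exact Or.inr (Or.inl hx)
  have hb : ∀ α : Fˣ, B.h α (α ^ 2)⁻¹ ∈ closure (GS B) := by
    intro α
    refine closure_mono ?_ (tor_b W α)
    rintro x (hx | hx)
    · exact Or.inl (Or.inr hx)
    · exact Or.inr (Or.inr hx)
  have hh : B.h α β ∈ closure (GS B) := by
    have h1 : B.h α β = B.h (α ^ 2 * β) (α ^ 2 * β)⁻¹ * B.h (α * β)⁻¹ (((α * β)⁻¹) ^ 2)⁻¹ := by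
      rw [← B.h_mul]
      congr 1
      · rw [pow_two, mul_assoc α α β, mul_inv_cancel_right]
      · rw [inv_pow, inv_inv, mul_pow α β 2, pow_two β, ← mul_assoc (α ^ 2) β β, inv_mul_cancel_left]
    rw [h1]
    exact mul_mem (ha _) (hb _)
  refine mul_mem (mul_mem (mul_mem (isU_gen hu) hh) ?_) (isU_gen hu')
  rcases hn with rfl | rfl | rfl | rfl | rfl | rfl | rfl | rfl
  · exact one_mem _
  · exact hna
  · exact hnb
  · exact mul_mem hna hnb
  · exact mul_mem hnb hna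
  · exact mul_mem (mul_mem hna hnb) hna
  · exact mul_mem (mul_mem hnb hna) hnb
  · exact mul_mem (mul_mem (mul_mem hna hnb) hna) hnb

end gen

/-! ### The instance -/

variable [Finite ↥A]

theorem syl (P : Subgroup G) (hPA : P ≤ A) (hP : IsPGroup 2 P) :
    ∃ k ∈ A, ∀ x ∈ P, Env.IsU (SpFrame.base S hZ htt htA htn) (k * x * k⁻¹) := by
  have : Fact (Nat.Prime 2) := ⟨Nat.prime_two⟩
  obtain ⟨R, hR⟩ := B2Torus.Std.exists_sylow S scal_Sp (by rw [hZ, Subgroup.card_bot]; exact odd_one)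
  have h1 : IsPGroup 2 ↥(P.subgroupOf A) := by
    rintro ⟨y, hy⟩
    obtain ⟨k, hk⟩ := hP ⟨y, mem_subgroupOf.1 hy⟩
    refine ⟨k, Subtype.ext (Subtype.ext ?_)⟩
    have h2 : (y : G) ^ 2 ^ k = 1 := congrArg Subtype.val hk
    simpa using h2
  obtain ⟨Q, hQ⟩ := h1.exists_le_sylow
  obtain ⟨g, hg⟩ := MulAction.exists_smul_eq ↥A Q R
  refine ⟨g, g.2, fun x hx => ?_⟩
  have h3 : g * ⟨x, hPA hx⟩ * g⁻¹ ∈ (R : Subgroup ↥A) := by
    rw [← hg, Sylow.coe_subgroup_smul]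
    exact ⟨⟨x, hPA hx⟩, hQ (mem_subgroupOf.2 hx), rfl⟩
  rw [hR] at h3
  exact (SpEnv.isU_iff S hZ htt htA htn).2 ⟨_, h3, rfl⟩

/-- **`KBase`** -/
theorem kBase (hF : 4 ≤ Nat.card F) : KBase (SpFrame.base S hZ htt htA htn) A where
  xa_mem u := (S.m.x u).2
  xb_mem u := (S.m.z₂ (tt u)).2
  zs_mem u := (S.m.y u).2
  zl_mem u := (S.m.z₁ (tt u)).2
  h_mem α β := (SpFrame.h S α β).2
  na_mem := (SpFrame.na S).2
  nb_mem := (SpFrame.nb S).2
  na_sq := (Weyl.base S hZ htt htA htn).na_sq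
  nb_sq := (Weyl.base S hZ htt htA htn).nb_sq
  na_eq := na_eq (Weyl.base S hZ htt htA htn)
  nb_eq := na_eq (weyl_swap (Weyl.base S hZ htt htA htn))
  tor_a := tor (Weyl.base S hZ htt htA htn)
  tor_b := tor_b (Weyl.base S hZ htt htA htn)
  gen := KE.gen (ke S hZ htt htA htn)
  bruhat_a := fun D hD h1 h2 h3 h4 g hg => bruhat_a S hZ htt htA htn hF hD h1 h2 h3 h4 hg
  bruhat_b := fun D hD h1 h2 h3 h4 g hg => bruhat_b S hZ htt htA htn hF hD h1 h2 h3 h4 hg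
  syl := by
    intro P hP h2
    obtain ⟨k, hk, h⟩ := syl S hZ htt htA htn P hP h2
    exact ⟨k, hk, fun x hx => isU_iff'.2 (h x hx)⟩
  center := by
    intro g hg hc
    have h1 : (⟨g, hg⟩ : ↥A) ∈ center ↥A := by
      rw [mem_center_iff]
      intro x
      exact Subtype.ext (hc x x.2).symm.eq
    rw [hZ, mem_bot] at h1
    exact congrArg Subtype.val h1

/-- **`KCent`** -/
theorem kCent (hF : 4 ≤ Nat.card F) : SpFourCent.KCent (SpFrame.base S hZ htt htA htn) A where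
  toKBase := kBase S hZ htt htA htn hF
  cent_s := by
    intro g hg m hm hc
    rcases KE.cent_zs (ke S hZ htt htA htn) hg hm hc with ⟨v, hv, α, e⟩ | ⟨v, hv, α, c, e⟩
    · exact Or.inl ⟨v, isU_iff'.2 hv, α, e⟩
    · exact Or.inr ⟨v, isU_iff'.2 hv, α, c, e⟩
  cent_l := by
    intro g hg m hm hc
    rcases KE.cent_zs (KE.swap (ke S hZ htt htA htn)) hg hm hc with ⟨v, hv, α, e⟩ | ⟨v, hv, α, c, e⟩
    · refine Or.inl ⟨v, isU_iff'.2 (isU_swap.1 hv), rtU α⁻¹, ?_⟩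
      rw [sq_rtU, inv_inv]
      exact e
    · refine Or.inr ⟨v, isU_iff'.2 (isU_swap.1 hv), rtU α⁻¹, c, ?_⟩
      rw [sq_rtU, inv_inv]
      exact e
  cent_m := fun g hg m n hm hn hc => isU_iff'.2 (KE.cent_mixed (ke S hZ htt htA htn) hF hg hm hn hc)
  na_xa := by
    intro c hc
    by_contra h
    exact not_isU_xma (Weyl.base S hZ htt htA htn) h (isU_iff'.1 hc)
  nb_xb := by
    intro c hc
    by_contra h
    exact not_isU_xmb (Weyl.base S hZ htt htA htn) h (isU_iff'.1 hc)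

/-- **`KAut`** -/
theorem kAut (hF : 4 ≤ Nat.card F) : KAut (SpFrame.base S hZ htt htA htn) A := by
  intro g hg hs hl
  obtain ⟨lam, h0, h1⟩ := B2Inst.exists_ne (F := F) (by omega)
  have L := lam_Sp h0 h1
  let φ : MulAut ↥A := A.normalizerMonoidHom ⟨g, hg⟩
  have hφ : ∀ x : ↥A, ((φ x : ↥A) : G) = g * x * g⁻¹ := fun x => rfl
  obtain ⟨u, hu, e⟩ := inner_of_Z S L hZ (φ := φ)
    (fun b => Subtype.ext (mul_inv_eq_iff_eq_mul.2 (hs b).eq))
    (fun c => Subtype.ext (mul_inv_eq_iff_eq_mul.2 (hl c).eq))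
  obtain ⟨a, s, m, r, e1⟩ := isU_iff'.2 ((SpEnv.isU_iff S hZ htt htA htn).2 ⟨u, hu, rfl⟩)
  refine ⟨a, s, m, r, fun x hx => ?_⟩
  rw [← e1]
  have h2 : (u : G) * x * (u : G)⁻¹ = g * x * g⁻¹ := by
    rw [← hφ ⟨x, hx⟩, e]; rfl
  show (u : G)⁻¹ * g * x = x * ((u : G)⁻¹ * g)
  calc (u : G)⁻¹ * g * x = (u : G)⁻¹ * (g * x * g⁻¹) * g := by group
    _ = (u : G)⁻¹ * (u * x * (u : G)⁻¹) * g := by rw [h2]
    _ = _ := by group

end Cfsg.Agent.OddHalf.D4.SpFourK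

end

-- merged: Cfsg.Agent.OddHalf.D4.SpFourSetup
section

/-!
# ODD D4, `K = Sp₄(q)`: `Env K`, coordinates, existence of a frame
-/

set_option autoImplicit false
set_option linter.unusedSectionVars false

namespace Cfsg.Agent.OddHalf.D4.SpFourSetup

open Cfsg.Agent.StdSpFour Subgroup Cfsg.Agent.OddHalf.D4 Cfsg.Agent.OddHalf.D4.Basic
open Cfsg.Agent.OddHalf.D4.SpFourDefs Cfsg.Agent.OddHalf.D4.SpFourCent
open Cfsg.Agent.OddHalf.D4.SpFourU Cfsg.Agent.OddHalf.D4.SpFourFr Cfsg.Agent.OddHalf.D4.SpFourTyp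
open Cfsg.Agent.OddHalf.D4.SpFourTOne
open Cfsg.Agent.StdSpFour.Swap (swap)
open Cfsg.Agent.OddHalf.D4.CommConj (cj mem_cj mem_cj_mul card_cj cj_eq_of_mem_normalizer mem_normalizer_of_cj_eq
  Tight MaxE)

universe u

/-! ### `Env K` -/

theorem env_of_std {G : Type u} [Group G] [Finite G] {K : Subgroup G} (hK : Cfsg.IsStandardSubgroup K)
    [hs : IsSimpleGroup ↥K] (hsch : Cfsg.Agent.Schreier.Basic.Sch ↥K)
    (hrk : ¬ Cfsg.PRankLE 2 1 ↥(centralizer (K : Set G))) : Env K := by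
  have ht := EvenPair.tight_of_standard hK
  have hna : ∃ a b : ↥K, a * b ≠ b * a := by
    by_contra hcon
    push Not at hcon
    have h1 : ⁅(⊤ : Subgroup ↥K), (⊤ : Subgroup ↥K)⁆ = ⊤ := hK.1.1.commutator_eq_top
    have h2 : ⁅(⊤ : Subgroup ↥K), (⊤ : Subgroup ↥K)⁆ = ⊥ := by
      rw [commutator_eq_bot_iff_le_centralizer]
      intro x _
      rw [mem_centralizer_iff]
      intro y _
      exact hcon y x
    rw [h1] at h2
    exact (top_ne_bot (α := Subgroup ↥K)) h2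
  have hcen : ∀ x ∈ K, x ∈ centralizer (K : Set G) → x = 1 := by
    intro x hx hxc
    have h1 : (⟨x, hx⟩ : ↥K) ∈ center ↥K := by
      rw [mem_center_iff]
      intro y
      exact Subtype.ext (mem_centralizer_iff.mp hxc y y.2)
    rcases (inferInstance : (center ↥K).Normal).eq_bot_or_eq_top with h2 | h2
    · rw [h2, mem_bot] at h1
      exact congrArg Subtype.val h1
    · exfalso
      obtain ⟨a, b, hab⟩ := hna
      apply hab
      have h3 : b ∈ center ↥K := by rw [h2]; exact mem_top b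
      exact mem_center_iff.mp h3 a
  refine ⟨ht, hcen, ?_, ?_, ?_, ?_, EvenPair.exists_two_of_not_pRankLE hrk⟩
  · intro N hN hn
    have h1 : (N.subgroupOf K).Normal := by
      refine ⟨?_⟩
      intro n hn' g
      rw [mem_subgroupOf] at hn' ⊢
      exact hn g g.2 n hn'
    rcases h1.eq_bot_or_eq_top with h2 | h2
    · left
      rw [eq_bot_iff_forall]
      intro x hx
      have h3 : (⟨x, hN hx⟩ : ↥K) ∈ N.subgroupOf K := mem_subgroupOf.mpr hx
      rw [h2, mem_bot] at h3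
      exact congrArg Subtype.val h3
    · right
      apply le_antisymm hN
      intro x hx
      have h3 : (⟨x, hx⟩ : ↥K) ∈ N.subgroupOf K := by rw [h2]; exact mem_top _
      exact mem_subgroupOf.mp h3
  · rintro rfl
    have := hs.toNontrivial
    exact not_subsingleton ↥(⊥ : Subgroup G) inferInstance
  · intro g hg hcon
    have h1 : K.map (MulAut.conj g).toMonoidHom ≠ K := fun h => hg (mem_normalizer_of_cj_eq h)
    apply hK.2.2.1 g h1
    rw [commutator_eq_bot_iff_le_centralizer]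
    intro a ha
    rw [mem_centralizer_iff]
    rintro _ ⟨b, hb, rfl⟩
    exact (hcon a ha b hb).symm
  · intro P hP hPP
    let f : ↥P →* MulAut ↥K := K.normalizerMonoidHom.comp (inclusion hP)
    have h1 : ⁅f.range, f.range⁆ = f.range := by
      rw [MonoidHom.range_eq_map, ← Subgroup.map_commutator]
      congr 1
      apply Subgroup.map_injective P.subtype_injective
      rw [Subgroup.map_commutator, ← MonoidHom.range_eq_map, Subgroup.range_subtype, hPP]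
    have h2 := hsch f.range h1
    intro p hp
    obtain ⟨k, hk⟩ := h2 ⟨⟨p, hp⟩, rfl⟩
    have h3 : ∀ x ∈ K, p * x * p⁻¹ = (k : G) * x * (k : G)⁻¹ := by
      intro x hx
      have h4 := congrArg (fun f : MulAut ↥K => ((f ⟨x, hx⟩ : ↥K) : G)) hk
      exact h4.symm
    have h4 : (k : G)⁻¹ * p ∈ centralizer (K : Set G) := by
      rw [mem_centralizer_iff]
      intro x hx
      have h5 := h3 x hx
      calc x * ((k : G)⁻¹ * p) = (k : G)⁻¹ * ((k : G) * x * (k : G)⁻¹) * p := by group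
        _ = (k : G)⁻¹ * (p * x * p⁻¹) * p := by rw [h5]
        _ = _ := by group
    have e : p = (k : G) * ((k : G)⁻¹ * p) := by group
    rw [e]
    exact mul_mem_sup k.2 h4

/-! ### Coordinates -/

theorem exists_base {F : Type*} [Field F] [Finite F] [CharP F 2] (hF : 4 ≤ Nat.card F) {G : Type u} [Group G]
    [Finite G] {K : Subgroup G} [IsSimpleGroup ↥K] (hK : Cfsg.IsStandardSubgroup K) (e : ↥K ≃* Cfsg.PSp 2 F)
    {t : G} (ht2 : orderOf t = 2) (ht : t ∈ centralizer (K : Set G)) (htK : t ∉ K) :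
    ∃ B : Base F G, B.t = t ∧ KCent B K ∧ KAut B K := by
  obtain ⟨S⟩ := Cfsg.Agent.StdRank2.B2Inst.exists_std_Sp (F := F) (by omega)
  have hcom : _root_.commutator ↥K = ⊤ := hK.1.1.commutator_eq_top
  have hZ : center ↥K = ⊥ := by
    rcases (inferInstance : (center ↥K).Normal).eq_bot_or_eq_top with h2 | h2
    · exact h2
    · exfalso
      have h3 : _root_.commutator ↥K = ⊥ := by
        rw [_root_.commutator_def, commutator_eq_bot_iff_le_centralizer]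
        intro x _
        rw [mem_centralizer_iff]
        intro y _
        have h4 : x ∈ center ↥K := by rw [h2]; exact mem_top x
        exact mem_center_iff.mp h4 y
      rw [hcom] at h3
      exact (top_ne_bot (α := Subgroup ↥K)) h3
  have e' : ↥K ⧸ center ↥K ≃* Cfsg.PSp 2 F :=
    ((QuotientGroup.quotientMulEquivOfEq hZ).trans QuotientGroup.quotientBot).trans e
  obtain ⟨S', -⟩ := Cfsg.Agent.StdRank2.B2Inst.exists_frame hcom (by rw [hZ, card_bot]; exact odd_one) e' S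
  have htt : t * t = 1 := by rw [← pow_two, ← ht2, pow_orderOf_eq_one]
  exact ⟨_, rfl, SpFourK.kCent S' hZ htt ht htK hF, SpFourK.kAut S' hZ htt ht htK hF⟩

variable {F : Type*} [Field F] [CharP F 2] [Finite F] {G : Type u} [Group G] [Finite G]
variable {B : Base F G} {K L Q R : Subgroup G}

/-- (F1) -/
theorem inner (hK : KCent B K) (hA : KAut B K) {T : Subgroup G} (hT : IsSyl T (normalizer (K : Set G))) {y : G}
    (hy : y ∈ T) (hc : ∀ s ∈ T, s ∈ K → s * y = y * s) :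
    ∃ k ∈ centralizer (K : Set G), ∃ s ∈ T, s ∈ K ∧ (∀ u ∈ T, u ∈ K → u * s = s * u) ∧ y = k * s := by
  have hS : IsSyl (T ⊓ K) K := hT.inf le_normalizer hT.le
  obtain ⟨k, hk, hkS⟩ := hK.syl (T ⊓ K) inf_le_right hS.two
  have h1 : ∀ v, IsU B v → k⁻¹ * v * k ∈ T ⊓ K := by
    have h2 : IsSyl (cj k (T ⊓ K)) K := by
      have h3 := hS.cj k
      rwa [cj_eq_of_mem_normalizer (le_normalizer (H := K) hk)] at h3
    have h3 : UU B ≤ cj k (T ⊓ K) := by
      apply h2.max _ isPGroup_UU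
      · intro x hx
        rw [mem_cj] at hx
        obtain ⟨u, s, m, r, e⟩ := hkS _ hx
        have e2 : k * (k⁻¹ * x * k) * k⁻¹ = x := by group
        rw [e2] at e
        exact ⟨u, s, m, r, e⟩
      · intro v hv
        exact isU_memK hK.toKBase hv
    intro v hv
    exact mem_cj.mp (h3 hv)
  have hyU : ∀ v, IsU B v → Commute (k * y * k⁻¹) v := by
    intro v hv
    have h2 := hc _ (h1 v hv).1 (h1 v hv).2
    show k * y * k⁻¹ * v = v * (k * y * k⁻¹)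
    calc k * y * k⁻¹ * v = k * (y * (k⁻¹ * v * k)) * k⁻¹ := by group
      _ = _ := by rw [← h2]; group
  have hyN : k * y * k⁻¹ ∈ normalizer (K : Set G) :=
    mul_mem (mul_mem (le_normalizer (H := K) hk) (hT.le hy)) (inv_mem (le_normalizer (H := K) hk))
  obtain ⟨u, s, m, r, hv⟩ := hA _ hyN (fun w => hyU _ (isU_zs w)) (fun w => hyU _ (isU_zl w))
  change ∀ x ∈ K, Commute ((nf B u s m r)⁻¹ * (k * y * k⁻¹)) x at hv
  have hvU : IsU B (nf B u s m r) := isU_nf _ _ _ _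
  have hvK := isU_memK hK.toKBase hvU
  have hvc : ∀ w, IsU B w → Commute (nf B u s m r) w := by
    intro w hw
    have hv' : Commute ((nf B u s m r)⁻¹ * (k * y * k⁻¹)) w := hv w (isU_memK hK.toKBase hw)
    have h2 := (hyU w hw).mul_left hv'.inv_left
    have e2 : k * y * k⁻¹ * ((nf B u s m r)⁻¹ * (k * y * k⁻¹))⁻¹ = nf B u s m r := by group
    rwa [e2] at h2
  refine ⟨(nf B u s m r)⁻¹ * (k * y * k⁻¹), ?_, k⁻¹ * nf B u s m r * k, (h1 _ hvU).1, (h1 _ hvU).2, ?_, ?_⟩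
  · rw [mem_centralizer_iff]
    intro x hx
    exact (hv x hx).symm.eq
  · intro w hw hwK
    have h2 : IsU B (k * w * k⁻¹) := by
      obtain ⟨u, s, m, r, e⟩ := hkS w ⟨hw, hwK⟩
      exact ⟨u, s, m, r, e⟩
    have h3 := (hvc _ h2).eq
    calc w * (k⁻¹ * nf B u s m r * k) = k⁻¹ * (k * w * k⁻¹ * nf B u s m r) * k := by group
      _ = _ := by rw [← h3]; group
  · have h2 := (hv k hk).eq
    have h3 := (hv _ (K.mul_mem (K.mul_mem (K.inv_mem hk) hvK) hk)).eq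
    rw [h3]
    calc y = k⁻¹ * (k * y * k⁻¹) * k := by group
      _ = k⁻¹ * nf B u s m r * ((nf B u s m r)⁻¹ * (k * y * k⁻¹) * k) := by group
      _ = _ := by rw [h2]; group

end Cfsg.Agent.OddHalf.D4.SpFourSetup

end
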