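import Mathlib
import Cfsg.Agent.OddHalf.D4.NoGraph
import Cfsg.Agent.OddHalf.D4.BFacts
import Cfsg.Agent.OddHalf.D4.Exists
import Cfsg.Agent.OddHalf.D4.KPairG
import Cfsg.Agent.OddHalf.D4.Start
import Cfsg.Agent.OddHalf.D4.Spor.Row
import Cfsg.Agent.OddHalf.DblR.InpEnd

-- merged: Cfsg.Agent.OddHalf.D4.Graph
section

/-!
# ODD, D4, (1B): `F` may induce graph automorphisms

`F` a maximal 2-subgroup with `N(F) ≰ N(K)` and maximal `K`-part, `U = S ∩ K` with a filtration generated by relative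
lines with base points fixed by `F` modulo the next term, `P` the normal subgroup of `N(K)` of the elements without
field part (`F ∩ P = C_F(Z(U))`), `F ∩ P` centralizes the lines modulo the next term. Then `F ∩ P` is normal in `N(F)`,
and the barycentre lemma gives a contradiction, if the involutions of `Z(F ∩ P)` in conjugates of `C(K)` are inner.
-/

set_option autoImplicit false

namespace Cfsg.Agent.OddHalf.D4.Graph

open Cfsg Subgroup Cfsg.Agent.OddHalf.D4 Cfsg.Agent.OddHalf.D4.Basic Cfsg.Agent.OddHalf.D4.BaryEnd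
open Cfsg.Agent.OddHalf.D4.Line Cfsg.Agent.OddHalf.D4.BaryGen Cfsg.Agent.OddHalf.D4.KMax
open Cfsg.Agent.OddHalf.D4.LineR Cfsg.Agent.OddHalf.D4.NoGraph
open Cfsg.Agent.OddHalf.D4.CommConj (Tight MaxE cj mem_cj mem_cj_mul)

variable {G : Type*} [Group G] [Finite G] {K F Q S P : Subgroup G}

/-- **(1B) with graph part.** -/
theorem core (ht : TightAt K) (hcen : ∀ x ∈ K, x ∈ centralizer (K : Set G) → x = 1) (h : KMaxE K F)
    (hQ : IsSyl Q (centralizer (K : Set G))) (hQF : Q ≤ F) (hS : IsPGroup 2 ↥S)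
    (hSM : S ≤ normalizer (K : Set G)) (hFS : F ≤ S)
    {U : ℕ → Subgroup G} {L : ℕ → Set (Subgroup G)} (hU : Flt K S F U L)
    (hPM : ∀ m ∈ normalizer (K : Set G), ∀ x ∈ P, m * x * m⁻¹ ∈ P) (hCP : centralizer (K : Set G) ≤ P) (hKP : K ≤ P)
    (hZ : ∀ e ∈ F, (∀ z ∈ zc K S, e * z = z * e) ↔ e ∈ P)
    (hUP : ∀ j, ∀ l ∈ L j, ∀ x ∈ l, ∀ e ∈ F, e ∈ P → e * x * e⁻¹ * x⁻¹ ∈ U (j + 1))
    (hinn : ∃ n ∈ normalizer (F : Set G), n ∉ normalizer (K : Set G) ∧ ∃ v ∈ F, orderOf v = 2 ∧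
      n⁻¹ * v * n ∈ centralizer (K : Set G) ∧ (∀ e ∈ F, e * v = v * e) ∧
      ∃ c ∈ centralizer (K : Set G), ∃ k ∈ K, v = c * k)
    (hA : ∀ j, U (j + 1) ≤ F → zc K S ≤ F → ∀ n ∈ normalizer (F : Set G), n ∉ normalizer (K : Set G) →
      ∀ z ∈ zc K S, ∀ u ∈ U (j + 1), u * (n * z * n⁻¹) = n * z * n⁻¹ * u)
    (hG1 : ∀ D l : Subgroup G, IsLineR (S ⊓ K) D l → IsPGroup 2 ↥l → l ≤ K →
      l ≤ normalizer ((F ⊓ P : Subgroup G) : Set G) → (∀ t ∈ l, t ∈ F → t ∈ D) → D ≤ F ⊓ P →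
      ∀ n ∈ normalizer ((F ⊓ P : Subgroup G) : Set G), n ∉ normalizer (K : Set G) →
      ∀ v ∈ omegaZ (F ⊓ P) (centralizer (K : Set G)),
      ∃ c ∈ centralizer (K : Set G), ∃ k ∈ K, n * v * n⁻¹ = c * k)
    (hUF : ¬ S ⊓ K ≤ F) : False := by
  classical
  set M := normalizer (K : Set G) with hM
  set C := centralizer (K : Set G) with hC
  set N := normalizer (F : Set G) with hN
  have hF2 : IsPGroup 2 ↥F := h.maxE.isPGroup
  have hcomm : ∀ k ∈ K, ∀ c ∈ C, k * c = c * k := fun k hk c hc => mem_centralizer_iff.mp hc k hk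
  have hcjF : ∀ n ∈ N, ∀ x ∈ F, n⁻¹ * x * n ∈ F := fun n hn x hx => (mem_normalizer_iff''.mp hn x).mp hx
  have hcjF' : ∀ n ∈ N, ∀ x ∈ F, n * x * n⁻¹ ∈ F := fun n hn x hx => (mem_normalizer_iff.mp hn x).mp hx
  obtain ⟨n₀, hn₀, hn₀M, v, hvF, hv2, hvC, hvc, c₀, hc₀, k₀, hk₀, hvck⟩ := hinn
  have hSF : ∀ n ∈ N, n ∉ M → ∀ s ∈ S, n⁻¹ * s * n ∈ M → s ∈ F := fun n hn hnM s hs hns =>
    mem_of_conj h.maxE hS hSM hFS hn hnM hs hns
  have hc₀Q : c₀ ∈ Q := comp_mem_Q hcen hF2 hQ hQF hc₀ hk₀ (by rw [← hvck]; exact hvF)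
  have hk₀F : k₀ ∈ F := by
    have e : k₀ = c₀⁻¹ * v := by rw [hvck]; group
    rw [e]; exact mul_mem (inv_mem (hQF hc₀Q)) hvF
  have hk₀U : k₀ ∈ S ⊓ K := ⟨hFS hk₀F, hk₀⟩
  -- commuting with `k₀` gives membership in `F`
  have hkF : ∀ x ∈ S, x ∈ K → x * k₀ = k₀ * x → x ∈ F := by
    intro x hxS hxK hx
    have h1 : x * v = v * x := by
      rw [hvck]
      calc x * (c₀ * k₀) = (x * c₀) * k₀ := by group
        _ = (c₀ * x) * k₀ := by rw [hcomm x hxK c₀ hc₀]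
        _ = c₀ * (x * k₀) := by group
        _ = c₀ * (k₀ * x) := by rw [hx]
        _ = c₀ * k₀ * x := by group
    exact hSF n₀ hn₀ hn₀M x hxS (Tight.mem_of_comm ht hvC hv2 h1)
  have hZF : zc K S ≤ F := by
    intro z hz
    rw [mem_zc] at hz
    exact hkF z hz.1.1 hz.1.2 (hz.2 k₀ hk₀U).symm
  -- the level
  have hex : ∃ j, U j ≤ F := by
    obtain ⟨n, hn⟩ := hU.bot
    exact ⟨n, by rw [hn]; exact bot_le⟩
  have h1 := Nat.find_spec hex
  have h2 : Nat.find hex ≠ 0 := by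
    intro h0
    rw [h0, hU.zero] at h1
    exact hUF h1
  obtain ⟨i, hi⟩ := Nat.exists_eq_succ_of_ne_zero h2
  rw [hi] at h1
  have h3 : ¬ U i ≤ F := Nat.find_min hex (by omega)
  obtain ⟨l, hlL, hlF⟩ : ∃ l ∈ L i, ¬ l ≤ F := by
    by_contra hcon
    push Not at hcon
    apply h3
    intro u hu
    have h5 := hU.gen i u hu
    have h6 : closure ({x | ∃ l ∈ L i, x ∈ l} ∪ (U (i + 1) : Set G)) ≤ F := by
      rw [closure_le]
      rintro x (⟨l, hl, hx⟩ | hx)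
      · exact hcon l hl hx
      · exact h1 hx
    exact h6 h5
  have hlU : l ≤ U i := hU.line_le i l hlL
  have hlS : l ≤ S ⊓ K := hlU.trans (hU.le_zero i)
  have hline := hU.line i l hlL
  obtain ⟨b, hbl, hb1, hbF⟩ := hU.base i l hlL
  have hbS : b ∈ S ⊓ K := hlS hbl
  have hbK : b ∈ K := hbS.2
  have hl2 : IsPGroup 2 ↥l := hS.to_le (hlS.trans inf_le_left)
  have hb2 : ∃ k : ℕ, b ^ 2 ^ k = 1 := by
    obtain ⟨k, hk⟩ := hl2 ⟨b, hbl⟩
    exact ⟨k, congrArg Subtype.val hk⟩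
  have hlFD : ∀ t ∈ l, t ∈ F → t ∈ U (i + 1) := by
    intro t htl htF
    by_contra htU
    apply hlF
    intro x hx
    have htK : t ∈ K := (hlS htl).2
    have h5 : t * k₀ = k₀ * t := by
      have h6 := hvc t htF
      rw [hvck] at h6
      have h7 : c₀ * (t * k₀) = c₀ * (k₀ * t) := by
        calc c₀ * (t * k₀) = (c₀ * t) * k₀ := by group
          _ = t * c₀ * k₀ := by rw [hcomm t htK c₀ hc₀]
          _ = t * (c₀ * k₀) := by group
          _ = c₀ * k₀ * t := h6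
          _ = c₀ * (k₀ * t) := by group
      exact mul_left_cancel h7
    exact hkF x (hlS hx).1 (hlS hx).2 (hline.star k₀ hk₀U t htl htU h5 x hx)
  have hbnF : b ∉ F := fun hbF' => hb1 (hlFD b hbl hbF')
  have hbN : b ∈ N := by
    apply mem_normalizer_fintype
    intro e he
    have h5 := h1 (hbF e he)
    have e1 : b * e * b⁻¹ = (e * b * e⁻¹ * b⁻¹)⁻¹ * e := by group
    rw [e1]
    exact mul_mem (inv_mem h5) he
  have hbM : b ∈ M := le_normalizer hbK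
  -- commutators with `b⁻¹`
  have hbF' : ∀ e ∈ F, e * b⁻¹ * e⁻¹ * b ∈ U (i + 1) := by
    intro e he
    have h5 := hbF e he
    have h6 := hU.comm (i + 1) _ h5 b⁻¹ (inv_mem hbS)
    have h7 := hU.le (i + 1) h6
    have h8 : b⁻¹ * (e * b * e⁻¹ * b⁻¹) * b ∈ U (i + 1) := by
      have h9 := mul_mem h7 h5
      have e1 : b⁻¹ * (e * b * e⁻¹ * b⁻¹) * b⁻¹⁻¹ * (e * b * e⁻¹ * b⁻¹)⁻¹ * (e * b * e⁻¹ * b⁻¹) =
          b⁻¹ * (e * b * e⁻¹ * b⁻¹) * b := by group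
      rwa [e1] at h9
    have h9 := inv_mem h8
    have e1 : (b⁻¹ * (e * b * e⁻¹ * b⁻¹) * b)⁻¹ = e * b⁻¹ * e⁻¹ * b := by group
    rwa [e1] at h9
  -- the predicate
  let R : G → G → Prop := fun n e => e ∈ F ∧ ∀ z ∈ zc K S, e * (n * z * n⁻¹) = n * z * n⁻¹ * e
  have hRmul : ∀ g ∈ N, ∀ n e, R (g * n) e ↔ R n (g⁻¹ * e * g) := by
    intro g hg n e
    constructor
    · rintro ⟨he, hz⟩
      refine ⟨hcjF g hg e he, fun z hz' => ?_⟩
      have h5 := hz z hz'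
      calc g⁻¹ * e * g * (n * z * n⁻¹) = g⁻¹ * (e * (g * n * z * (g * n)⁻¹)) * g := by group
        _ = g⁻¹ * (g * n * z * (g * n)⁻¹ * e) * g := by rw [h5]
        _ = n * z * n⁻¹ * (g⁻¹ * e * g) := by group
    · rintro ⟨he, hz⟩
      have he' : e ∈ F := by
        have h5 := hcjF' g hg _ he
        have e1 : g * (g⁻¹ * e * g) * g⁻¹ = e := by group
        rwa [e1] at h5
      refine ⟨he', fun z hz' => ?_⟩
      have h5 := hz z hz'
      calc e * (g * n * z * (g * n)⁻¹) = g * (g⁻¹ * e * g * (n * z * n⁻¹)) * g⁻¹ := by group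
        _ = g * (n * z * n⁻¹ * (g⁻¹ * e * g)) * g⁻¹ := by rw [h5]
        _ = g * n * z * (g * n)⁻¹ * e := by group
  have hR1 : ∀ e, R 1 e ↔ e ∈ F ⊓ P := by
    intro e
    constructor
    · rintro ⟨he, hz⟩
      refine ⟨he, (hZ e he).mp fun z hz' => ?_⟩
      simpa using hz z hz'
    · rintro ⟨he, hep⟩
      refine ⟨he, fun z hz' => ?_⟩
      simpa using (hZ e he).mpr hep z hz'
  have hinnM : ∀ m ∈ N, m ∈ M → ∀ e ∈ F ⊓ P, m⁻¹ * e * m ∈ F ⊓ P := by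
    rintro m hm hmM e ⟨he, hep⟩
    refine ⟨hcjF m hm _ he, ?_⟩
    have h5 := hPM m⁻¹ (inv_mem hmM) e hep
    rwa [inv_inv] at h5
  have hRM : ∀ m ∈ N, m ∈ M → ∀ e, R m e ↔ R 1 e := by
    intro m hm hmM e
    have h5 := hRmul m hm 1 e
    rw [mul_one] at h5
    rw [h5, hR1, hR1]
    constructor
    · intro h6
      have h7 := hinnM m⁻¹ (inv_mem hm) (inv_mem hmM) _ h6
      have e1 : m⁻¹⁻¹ * (m⁻¹ * e * m) * m⁻¹ = e := by group
      rwa [e1] at h7
    · exact hinnM m hm hmM e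
  -- `b` preserves the predicate
  have hRb : ∀ n ∈ N, ∀ e, R (b * n) e ↔ R n e := by
    intro n hn e
    by_cases hnM : n ∈ M
    · rw [hRM _ (mul_mem hbN hn) (mul_mem hbM hnM), hRM n hn hnM]
    · rw [hRmul b hbN n e]
      have key : ∀ u ∈ U (i + 1), ∀ e ∈ F, (∀ z ∈ zc K S, e * (n * z * n⁻¹) = n * z * n⁻¹ * e) →
          ∀ z ∈ zc K S, e * u * (n * z * n⁻¹) = n * z * n⁻¹ * (e * u) := by
        intro u hu e _ hz z hz'
        have h6 := hA i h1 hZF n hn hnM z hz' _ hu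
        have h7 := hz z hz'
        calc e * u * (n * z * n⁻¹) = e * (u * (n * z * n⁻¹)) := by group
          _ = e * (n * z * n⁻¹ * u) := by rw [h6]
          _ = (e * (n * z * n⁻¹)) * u := by group
          _ = (n * z * n⁻¹ * e) * u := by rw [h7]
          _ = n * z * n⁻¹ * (e * u) := by group
      constructor
      · rintro ⟨he, hz⟩
        have he' : e ∈ F := by
          have h5 := hcjF' b hbN _ he
          have e1 : b * (b⁻¹ * e * b) * b⁻¹ = e := by group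
          rwa [e1] at h5
        refine ⟨he', fun z hz' => ?_⟩
        have h4 : b⁻¹ * e * b ∈ F := he
        have h5 := key _ (hbF (b⁻¹ * e * b)⁻¹ (inv_mem h4)) _ he hz z hz'
        have e1 : b⁻¹ * e * b * ((b⁻¹ * e * b)⁻¹ * b * (b⁻¹ * e * b)⁻¹⁻¹ * b⁻¹) = e := by group
        rwa [e1] at h5
      · rintro ⟨he, hz⟩
        refine ⟨hcjF b hbN e he, fun z hz' => ?_⟩
        have h5 := key _ (hbF' e⁻¹ (inv_mem he)) e he hz z hz'
        have e1 : e * (e⁻¹ * b⁻¹ * e⁻¹⁻¹ * b) = b⁻¹ * e * b := by group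
        rwa [e1] at h5
  -- the stabilizer of the predicate
  let H : Subgroup ↥N :=
    { carrier := {x | ∀ n ∈ N, ∀ e, R (x * n) e ↔ R n e}
      one_mem' := by
        intro n _ e
        simp
      mul_mem' := by
        intro x y hx hy n hn e
        have e1 : ((x * y : ↥N) : G) * n = x * (y * n) := by push_cast; group
        rw [e1, hx _ (mul_mem y.2 hn), hy n hn]
      inv_mem' := by
        intro x hx n hn e
        have h5 := hx ((x⁻¹ : ↥N) * n) (mul_mem (x⁻¹ : ↥N).2 hn) e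
        have e1 : (x : G) * (((x⁻¹ : ↥N) : G) * n) = n := by push_cast; group
        rw [e1] at h5
        exact h5.symm }
  have hHn : H.Normal := by
    refine ⟨?_⟩
    intro x hx g n hn e
    have e1 : ((g * x * g⁻¹ : ↥N) : G) * n = g * (x * ((g : G)⁻¹ * n)) := by push_cast; group
    rw [e1, hRmul g g.2, hx _ (mul_mem (inv_mem g.2) hn), ← hRmul g g.2]
    have e2 : (g : G) * ((g : G)⁻¹ * n) = n := by group
    rw [e2]
  have hbH : (⟨b, hbN⟩ : ↥N) ∈ H := fun n hn e => hRb n hn e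
  have htrans := fun g : ↥N => gleason (Y := M.subgroupOf N) (B := H) hHn hbH (mem_subgroupOf.mpr hbM)
    (by obtain ⟨k, hk⟩ := hb2; exact ⟨k, Subtype.ext hk⟩) (by
      intro g hg hgb
      apply hbnF
      exact h.maxE.mem_of_conj g.2 (fun h' => hg (mem_subgroupOf.mpr h')) hbN hbM hb2 (mem_subgroupOf.mp hgb)) g
  have hRall : ∀ g ∈ N, ∀ e, R g e ↔ R 1 e := by
    intro g hg e
    obtain ⟨x, hx, hxg⟩ := htrans ⟨g, hg⟩
    have h5 : (x : G)⁻¹ * g ∈ M := mem_subgroupOf.mp hxg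
    have h6 : (x : G)⁻¹ * g ∈ N := mul_mem (inv_mem x.2) hg
    have h7 := hx _ h6 e
    have e1 : (x : G) * ((x : G)⁻¹ * g) = g := by group
    rw [e1] at h7
    rw [h7]
    exact hRM _ h6 h5 e
  -- `N(F)` normalizes `F ⊓ P`
  have hNE : N ≤ normalizer ((F ⊓ P : Subgroup G) : Set G) := by
    intro g hg
    apply mem_normalizer_fintype
    intro e he
    have h5 := hRmul g⁻¹ (inv_mem hg) 1 e
    rw [mul_one, inv_inv] at h5
    exact (hR1 _).mp (h5.mp ((hRall _ (inv_mem hg) e).mpr ((hR1 e).mpr he)))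
  have hlK : l ≤ K := hlS.trans inf_le_right
  have hlN : l ≤ normalizer ((F ⊓ P : Subgroup G) : Set G) := by
    intro x hx
    apply mem_normalizer_fintype
    rintro e ⟨he, hep⟩
    have h5 := hUP i l hlL x hx e he hep
    have e1 : x * e * x⁻¹ = (e * x * e⁻¹ * x⁻¹)⁻¹ * e := by group
    rw [e1]
    have h6 : e * x * e⁻¹ * x⁻¹ ∈ P := hKP ((hU.le_zero (i + 1)) h5).2
    exact mem_inf.mpr ⟨F.mul_mem (F.inv_mem (h1 h5)) he, P.mul_mem (P.inv_mem h6) hep⟩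
  have hUFP : U (i + 1) ≤ F ⊓ P := fun x hx => ⟨h1 hx, hKP ((hU.le_zero _ hx).2)⟩
  -- conclusion
  refine KMaxE.false_of_lineR_omegaZ h (E₁ := F ⊓ P) (Q := Q) (l := l) (D := U (i + 1)) ht hcen hQ ?_
    inf_le_left ?_ ⟨n₀, hNE hn₀, hn₀M⟩ ?_ ?_ hl2 hlK hlN ?_ hUFP
  · intro q hq
    exact ⟨hQF hq, hCP (hQ.le hq)⟩
  · intro x hx
    exact ⟨hx.1, hKP hx.2⟩
  · intro n hn v hv
    by_cases hnM : n ∈ M
    · exact ⟨n * v * n⁻¹, ht.norm n hnM v hv.2.1, 1, one_mem _, by simp⟩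
    · exact hG1 _ l hline hl2 hlK hlN hlFD hUFP n hn hnM v hv
  · exact hline.mono fun y hy => ⟨hFS hy.1.1, hy.2⟩
  · intro hle
    exact hlF (hle.trans inf_le_left)

end Cfsg.Agent.OddHalf.D4.Graph

end

-- merged: Cfsg.Agent.OddHalf.D4.Out
section

/-!
# ODD, D4, (1B): LEMMA OUT

A homomorphism `χ : N(K) → B`, `B` abelian, `χ(C(K)) = 1`; `l` a (relative) line of `K` normalizing `E₁ ≤ F`. The
product of the conjugates of `χ` is `N(E₁)`-invariant and equal to `χ` on the hull of `Ω₁(Z(E₁)) ∩ C(K)`, so `χ = 1`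
on the hull. Hence the involutions of the hull are inner on `K`, if the 2-elements of `ker χ` are inner.
-/

set_option autoImplicit false

namespace Cfsg.Agent.OddHalf.D4.Out

open Cfsg Subgroup Cfsg.Agent.OddHalf.D4 Cfsg.Agent.OddHalf.D4.Basic Cfsg.Agent.OddHalf.D4.BaryEnd
open Cfsg.Agent.OddHalf.D4.Line Cfsg.Agent.OddHalf.D4.BaryGen Cfsg.Agent.OddHalf.D4.KMax
open Cfsg.Agent.OddHalf.D4.LineR Cfsg.Agent.OddHalf.D4.NoGraph
open Cfsg.Agent.OddHalf.D4.CommConj (Tight MaxE cj mem_cj mem_cj_mul)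

section Free

variable {E Ω B : Type*} [Group E] [MulAction E Ω] [CommGroup B]

/-- The product of a function over a free finite `E`-set is the product of the products over the orbits. -/
theorem prod_free' [Fintype E] [Fintype Ω] (F : Ω → B) (free : ∀ c : Ω, ∀ s : E, s • c = c → s = 1)
    (norm : ∀ c : Ω, ∏ s : E, F (s • c) = 1) : ∏ c : Ω, F c = 1 := by
  classical
  rw [← Finset.prod_fiberwise_of_maps_to (s := (Finset.univ : Finset Ω))
    (t := (Finset.univ : Finset (MulAction.orbitRel.Quotient E Ω)))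
    (g := fun c => (Quotient.mk'' c : MulAction.orbitRel.Quotient E Ω)) (fun _ _ => Finset.mem_univ _)]
  apply Finset.prod_eq_one
  intro ω _
  induction ω using Quotient.inductionOn' with
  | h c0 =>
    have key : ∏ c ∈ (Finset.univ : Finset Ω) with (Quotient.mk'' c : MulAction.orbitRel.Quotient E Ω) =
        Quotient.mk'' c0, F c = ∏ s : E, F (s • c0) := by
      symm
      apply Finset.prod_bij (fun s _ => s • c0)
      · intro s _
        simp only [Finset.mem_filter, Finset.mem_univ, true_and]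
        rw [Quotient.eq'']
        exact ⟨s, rfl⟩
      · intro s _ s' _ h
        have h1 : (s'⁻¹ * s) • c0 = c0 := by
          rw [mul_smul, show s • c0 = s' • c0 from h, ← mul_smul, inv_mul_cancel, one_smul]
        have h2 := free _ _ h1
        exact (inv_mul_eq_one.mp h2).symm
      · intro c hc
        simp only [Finset.mem_filter, Finset.mem_univ, true_and] at hc
        rw [Quotient.eq''] at hc
        obtain ⟨s, hs⟩ := hc
        exact ⟨s, Finset.mem_univ _, hs⟩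
      · intro s _
        rfl
    rw [key]
    exact norm c0

end Free

section Main

variable {Γ A B : Type*} [Group Γ] [CommGroup A] [MulDistribMulAction Γ A] [CommGroup B]

/-- The character attached to a coset. -/
def ct (Y : Subgroup Γ) (χ : A →* B) (hχ : ∀ y ∈ Y, ∀ a, χ (y • a) = χ a) (a : A) (c : Γ ⧸ Y) : B :=
  Quotient.liftOn' c (fun g => χ (g⁻¹ • a)) (by
    intro g h hgh
    rw [QuotientGroup.leftRel_apply] at hgh
    have h1 : h⁻¹ = (g⁻¹ * h)⁻¹ * g⁻¹ := by group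
    show χ (g⁻¹ • a) = χ (h⁻¹ • a)
    rw [h1, mul_smul, hχ _ (inv_mem hgh)])

theorem ct_smul {Y : Subgroup Γ} {χ : A →* B} (hχ : ∀ y ∈ Y, ∀ a, χ (y • a) = χ a) (a : A) (x : Γ)
    (c : Γ ⧸ Y) : ct Y χ hχ (x • a) (x • c) = ct Y χ hχ a c := by
  induction c using Quotient.inductionOn' with
  | h g =>
    change χ ((x * g)⁻¹ • (x • a)) = χ (g⁻¹ • a)
    rw [mul_inv_rev, mul_smul g⁻¹ x⁻¹, inv_smul_smul]

/-- The character attached to a coset, as a homomorphism. -/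
def cth (Y : Subgroup Γ) (χ : A →* B) (hχ : ∀ y ∈ Y, ∀ a, χ (y • a) = χ a) (c : Γ ⧸ Y) : A →* B where
  toFun a := ct Y χ hχ a c
  map_one' := by
    induction c using Quotient.inductionOn' with
    | h g => change χ (g⁻¹ • (1 : A)) = 1; rw [smul_one, map_one]
  map_mul' a b := by
    induction c using Quotient.inductionOn' with
    | h g => change χ (g⁻¹ • (a * b)) = χ (g⁻¹ • a) * χ (g⁻¹ • b); rw [smul_mul', map_mul]

variable [Finite Γ]

/-- **LEMMA OUT, abstract form.** -/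
theorem chi_smul {Y E : Subgroup Γ} (hEY : E ≤ Y) {χ : A →* B} (hχ : ∀ y ∈ Y, ∀ a, χ (y • a) = χ a)
    [Fintype ↥E] (semi : ∀ g : Γ, g ∉ Y → ∀ s ∈ E, g⁻¹ * s * g ∈ Y → s = 1)
    (norm : ∀ a : A, ∏ s : ↥E, (s : Γ) • a = 1) (g : Γ) (a : A) : χ (g • a) = χ a := by
  classical
  have := Fintype.ofFinite (Γ ⧸ Y)
  let X : A → B := fun a => ∏ c : Γ ⧸ Y, ct Y χ hχ a c
  have hX1 : ∀ (x : Γ) (a : A), X (x • a) = X a := by
    intro x a
    refine (Fintype.prod_equiv (MulAction.toPerm x) (fun c => ct Y χ hχ a c)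
      (fun c => ct Y χ hχ (x • a) c) ?_).symm
    intro c
    exact (ct_smul hχ a x c).symm
  have hX2 : ∀ a : A, X a = χ a := by
    intro a
    show ∏ c : Γ ⧸ Y, ct Y χ hχ a c = χ a
    rw [Fintype.prod_eq_mul_prod_subtype_ne _ (((1 : Γ) : Γ ⧸ Y))]
    have h1 : ct Y χ hχ a ((1 : Γ) : Γ ⧸ Y) = χ a := by
      change χ ((1 : Γ)⁻¹ • a) = χ a
      simp
    rw [h1]
    have h2 : ∏ c : ↥(Bary.off hEY), ct Y χ hχ a (c : Γ ⧸ Y) = 1 := by
      apply prod_free' (E := ↥E) (Ω := ↥(Bary.off hEY)) (fun c => ct Y χ hχ a (c : Γ ⧸ Y))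
      · intro c s hsc
        obtain ⟨c, hc⟩ := c
        induction c using Quotient.inductionOn' with
        | h g =>
          have h4 : (((s : Γ) * g : Γ) : Γ ⧸ Y) = (g : Γ ⧸ Y) := congrArg Subtype.val hsc
          have h5 : g ∉ Y := by
            intro hg
            apply hc
            change (g : Γ ⧸ Y) = ((1 : Γ) : Γ ⧸ Y)
            rw [QuotientGroup.eq]
            simpa using inv_mem hg
          rw [eq_comm, QuotientGroup.eq] at h4
          have h6 : g⁻¹ * (s : Γ) * g ∈ Y := by simpa [mul_assoc] using h4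
          exact Subtype.ext (semi g h5 s s.2 h6)
      · intro c
        have h3 : ∀ s : ↥E, ct Y χ hχ a (((s • c : ↥(Bary.off hEY))) : Γ ⧸ Y) =
            cth Y χ hχ (c : Γ ⧸ Y) (((s⁻¹ : ↥E) : Γ) • a) := by
          intro s
          have h4 := ct_smul hχ (((s⁻¹ : ↥E) : Γ) • a) (s : Γ) (c : Γ ⧸ Y)
          have h5 : (s : Γ) • (((s⁻¹ : ↥E) : Γ) • a) = a := by
            rw [← mul_smul]
            have : (s : Γ) * ((s⁻¹ : ↥E) : Γ) = 1 := by simp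
            rw [this, one_smul]
          rw [h5] at h4
          exact h4
        simp_rw [h3]
        rw [← map_prod]
        have h4 : ∏ s : ↥E, ((s⁻¹ : ↥E) : Γ) • a = ∏ s : ↥E, (s : Γ) • a :=
          Fintype.prod_equiv (Equiv.inv ↥E) _ _ fun _ => rfl
        rw [h4, norm, map_one]
    have h3 : ∏ c : {c : Γ ⧸ Y // c ≠ ((1 : Γ) : Γ ⧸ Y)}, ct Y χ hχ a (c : Γ ⧸ Y) = 1 := by
      refine Eq.trans ?_ h2
      exact @Fintype.prod_equiv {c : Γ ⧸ Y // c ≠ ((1 : Γ) : Γ ⧸ Y)} ↥(Bary.off hEY) B _ _ _ (Equiv.refl _) _ _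
        fun _ => rfl
    rw [h3, mul_one]
  rw [← hX2, hX1, hX2]

end Main

/-! ### The hull -/

/-- **LEMMA OUT** for the hull: the action of `T` on the hull only. -/
theorem hull_chi {G : Type*} [Group G] [Finite G] {M N V₀ T : Subgroup G} {B : Type*} [CommGroup B]
    (χ : ↥M →* B) (hVM : hull N V₀ ≤ M)
    (hab : ∀ x ∈ hull N V₀, ∀ y ∈ hull N V₀, x * y = y * x)
    (hCM : ∀ n ∈ N, (∀ v ∈ hull N V₀, n * v = v * n) → n ∈ M)
    (hTN : T ≤ N) (hTM : T ≤ M)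
    (semi : ∀ n ∈ N, n ∉ M → ∀ s ∈ T, n⁻¹ * s * n ∈ M → ∀ v ∈ hull N V₀, s * v = v * s)
    (htr : ∀ v ∈ hull N V₀, ∃ a ∈ T, ∃ b ∈ T,
      (∀ w ∈ hull N V₀, a * a * w = w * (a * a)) ∧ (∀ w ∈ hull N V₀, b * b * w = w * (b * b)) ∧
      (∀ w ∈ hull N V₀, a * b * w * (a * b)⁻¹ = b * a * w * (b * a)⁻¹) ∧
      (∃ w ∈ hull N V₀, a * w ≠ w * a) ∧ (∃ w ∈ hull N V₀, b * w ≠ w * b) ∧
      (∃ w ∈ hull N V₀, a⁻¹ * b * w ≠ w * (a⁻¹ * b)) ∧
      v * (a * v * a⁻¹) * (b * v * b⁻¹) * (a * b * v * (a * b)⁻¹) = 1)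
    {n v : G} (hn : n ∈ N) (hv : v ∈ hull N V₀) :
    χ ⟨n * v * n⁻¹, hVM (hull_cj hn hv)⟩ = χ ⟨v, hVM hv⟩ := by
  classical
  set V := hull N V₀ with hV
  let hcg : CommGroup ↥V := { (inferInstance : Group ↥V) with mul_comm := fun x y => Subtype.ext (hab x x.2 y y.2) }
  let p : ↥V →* B :=
    { toFun := fun v => χ ⟨v, hVM v.2⟩
      map_one' := by
        have : (⟨((1 : ↥V) : G), hVM (1 : ↥V).2⟩ : ↥M) = 1 := rfl
        rw [this, map_one]
      map_mul' := fun x y => by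
        have : (⟨((x * y : ↥V) : G), hVM (x * y).2⟩ : ↥M) = ⟨x, hVM x.2⟩ * ⟨y, hVM y.2⟩ := rfl
        rw [this, map_mul] }
  let hact : MulDistribMulAction ↥N ↥V := conjAct N V (fun n hn v hv => hull_cj hn hv)
  have hsmul : ∀ (n : ↥N) (v : ↥V), ((n • v : ↥V) : G) = n * v * (n : G)⁻¹ := fun _ _ => rfl
  have hp : ∀ y ∈ M.subgroupOf N, ∀ a : ↥V, p (y • a) = p a := by
    intro y hy a
    have hyM : (y : G) ∈ M := mem_subgroupOf.mp hy
    show χ ⟨((y • a : ↥V) : G), _⟩ = χ ⟨a, _⟩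
    have h1 : (⟨((y • a : ↥V) : G), hVM (y • a).2⟩ : ↥M) = ⟨y, hyM⟩ * ⟨a, hVM a.2⟩ * (⟨y, hyM⟩)⁻¹ := rfl
    rw [h1, map_mul, map_mul, map_inv, mul_comm (χ ⟨y, hyM⟩), mul_inv_cancel_right]
  let φ : ↥N →* MulAut ↥V := MulDistribMulAction.toMulAut ↥N ↥V
  let ψ : ↥N →* ↥φ.range := φ.rangeRestrict
  have hψs : Function.Surjective ψ := φ.rangeRestrict_surjective
  have : Finite ↥φ.range := Finite.of_surjective ψ hψs
  have hψ : ∀ (n : ↥N) (v : ↥V), ψ n • v = n • v := fun _ _ => rfl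
  have hker : ∀ n : ↥N, ψ n = 1 ↔ ∀ v ∈ V, (n : G) * v = v * n := by
    intro n
    constructor
    · intro h1 v hv
      have h2 := hψ n ⟨v, hv⟩
      rw [h1, one_smul] at h2
      have h3 : v = (n : G) * v * (n : G)⁻¹ := congrArg Subtype.val h2
      calc (n : G) * v = (n : G) * v * (n : G)⁻¹ * n := by group
        _ = v * n := by rw [← h3]
    · intro h1
      apply Subtype.ext
      apply MulEquiv.ext
      intro v
      show n • v = v
      apply Subtype.ext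
      rw [hsmul, h1 v v.2]
      group
  have hψeq : ∀ a b : ↥N, ψ a = ψ b → ∀ v ∈ V, ((a : G)⁻¹ * b) * v = v * ((a : G)⁻¹ * b) := by
    intro a b h1
    have h2 : ψ (a⁻¹ * b) = 1 := by rw [map_mul, map_inv, h1, inv_mul_cancel]
    exact (hker _).mp h2
  let Y : Subgroup ↥φ.range := (M.subgroupOf N).map ψ
  let E : Subgroup ↥φ.range := (T.subgroupOf N).map ψ
  let hfE : Fintype ↥E := Fintype.ofFinite _
  have hEY : E ≤ Y := by
    rintro _ ⟨t, ht', rfl⟩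
    exact ⟨t, mem_subgroupOf.mpr (hTM (mem_subgroupOf.mp ht')), rfl⟩
  have key := chi_smul (Γ := ↥φ.range) (A := ↥V) (Y := Y) (E := E) hEY (χ := p) (by
      rintro _ ⟨y, hy, rfl⟩ a
      exact hp y hy a) (by
      intro g hg s hs hgs
      obtain ⟨g, rfl⟩ := hψs g
      obtain ⟨s, hs, rfl⟩ := hs
      obtain ⟨y, hy, hyg⟩ := hgs
      have h1 : ψ y = ψ (g⁻¹ * s * g) := by rw [hyg, map_mul, map_mul, map_inv]
      have h2 := hψeq _ _ h1
      have h3 : ((y : G))⁻¹ * ((g⁻¹ * s * g : ↥N) : G) ∈ M :=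
        hCM _ (mul_mem (inv_mem y.2) (g⁻¹ * s * g : ↥N).2) h2
      have h4 : (g : G)⁻¹ * s * g ∈ M := by
        have h5 := mul_mem (mem_subgroupOf.mp hy) h3
        have e : (y : G) * ((y : G)⁻¹ * ((g⁻¹ * s * g : ↥N) : G)) = (g : G)⁻¹ * s * g := by push_cast; group
        rwa [e] at h5
      have h5 : (g : G) ∉ M := fun h => hg ⟨g, mem_subgroupOf.mpr h, rfl⟩
      exact (hker s).mpr (semi _ g.2 h5 _ (mem_subgroupOf.mp hs) h4)) (by
      intro v
      obtain ⟨a, ha, b, hb, ha2, hb2, hab', ⟨w₁, hw₁, hne₁⟩, ⟨w₂, hw₂, hne₂⟩, ⟨w₃, hw₃, hne₃⟩, htr'⟩ :=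
        htr v v.2
      have haN : a ∈ N := hTN ha
      have hbN : b ∈ N := hTN hb
      let a' : ↥E := ⟨ψ ⟨a, haN⟩, ⟨⟨a, haN⟩, mem_subgroupOf.mpr ha, rfl⟩⟩
      let b' : ↥E := ⟨ψ ⟨b, hbN⟩, ⟨⟨b, hbN⟩, mem_subgroupOf.mpr hb, rfl⟩⟩
      have ha3 : a' * a' = 1 := by
        apply Subtype.ext
        show ψ ⟨a, haN⟩ * ψ ⟨a, haN⟩ = 1
        rw [← map_mul]
        exact (hker _).mpr ha2
      have hb3 : b' * b' = 1 := by
        apply Subtype.ext
        show ψ ⟨b, hbN⟩ * ψ ⟨b, hbN⟩ = 1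
        rw [← map_mul]
        exact (hker _).mpr hb2
      have hab3 : a' * b' = b' * a' := by
        apply Subtype.ext
        show ψ ⟨a, haN⟩ * ψ ⟨b, hbN⟩ = ψ ⟨b, hbN⟩ * ψ ⟨a, haN⟩
        rw [← map_mul, ← map_mul]
        apply Subtype.ext
        apply MulEquiv.ext
        intro w
        exact Subtype.ext (hab' w w.2)
      have htr3 : v * a' • v * b' • v * (a' * b') • v = 1 := by
        apply Subtype.ext
        show (v : G) * (a * v * a⁻¹) * (b * v * b⁻¹) * (a * (b * v * b⁻¹) * a⁻¹) = 1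
        rw [← htr']
        group
      refine prod_smul_eq_one (Y := ↥E) (V := ↥V) (a := a') (b := b') ha3 hb3 hab3 ?_ ?_ ?_
        (v := v) htr3
      · intro h
        exact hne₁ ((hker ⟨a, haN⟩).mp (congrArg Subtype.val h) w₁ hw₁)
      · intro h
        exact hne₂ ((hker ⟨b, hbN⟩).mp (congrArg Subtype.val h) w₂ hw₂)
      · intro h
        exact hne₃ (hψeq ⟨a, haN⟩ ⟨b, hbN⟩ (congrArg Subtype.val h) w₃ hw₃)) (ψ ⟨n, hn⟩) ⟨v, hv⟩
  exact key

/-! ### Lines -/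

section

variable {G : Type*} [Group G] [Finite G] {K F E₁ Q : Subgroup G}

/-- **LEMMA OUT** for a relative line normalizing `E₁`: no hypothesis on the action of the hull on `K`. -/
theorem KMaxE.chi_eq_one (h : KMaxE K F) (ht : TightAt K) (hle : E₁ ≤ F) (hFK : F ⊓ K ≤ E₁)
    (hend : ∃ n ∈ normalizer (E₁ : Set G), n ∉ normalizer (K : Set G))
    {V₀ : Subgroup G} (hV₀E : V₀ ≤ E₁) (hV₀C : V₀ ≤ centralizer (K : Set G)) (hV₀ : V₀ ≠ ⊥)
    (hV2 : ∀ v ∈ hull (normalizer (E₁ : Set G)) V₀, v * v = 1)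
    (hab : ∀ x ∈ hull (normalizer (E₁ : Set G)) V₀, ∀ y ∈ hull (normalizer (E₁ : Set G)) V₀, x * y = y * x)
    {D l : Subgroup G} (hl : IsLineR (E₁ ⊓ K) D l) (hl2 : IsPGroup 2 ↥l) (hlK : l ≤ K)
    (hlN : l ≤ normalizer (E₁ : Set G)) (hlD : ∀ t ∈ l, t ∈ E₁ → t ∈ D)
    (hD : ∀ d ∈ D, ∀ v ∈ hull (normalizer (E₁ : Set G)) V₀, d * v = v * d)
    {B : Type*} [CommGroup B] (χ : ↥(normalizer (K : Set G)) →* B)
    (hχ : ∀ c (hc : c ∈ normalizer (K : Set G)), c ∈ centralizer (K : Set G) → χ ⟨c, hc⟩ = 1) :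
    ∀ v (hv : v ∈ normalizer (K : Set G)), v ∈ hull (normalizer (E₁ : Set G)) V₀ → χ ⟨v, hv⟩ = 1 := by
  set N := normalizer (E₁ : Set G) with hN
  set C := centralizer (K : Set G) with hC
  have hcjE : ∀ n ∈ N, ∀ x ∈ E₁, n * x * n⁻¹ ∈ E₁ := fun n hn x hx => (mem_normalizer_iff.mp hn x).mp hx
  have hVE : hull N V₀ ≤ E₁ := by
    unfold hull
    rw [closure_le]
    rintro _ ⟨n, hn, x, hx, rfl⟩
    exact hcjE n hn x (hV₀E hx)
  have hEM : E₁ ≤ normalizer (K : Set G) := hle.trans h.maxE.le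
  have hVM : hull N V₀ ≤ normalizer (K : Set G) := hVE.trans hEM
  have hV₀V : V₀ ≤ hull N V₀ := fun x hx => subset_closure ⟨1, one_mem _, x, hx, by group⟩
  have hv2 : ∀ v ∈ V₀, v * v = 1 := fun v hv => hV2 v (hV₀V hv)
  have hKM : ∀ m ∈ normalizer (K : Set G), ∀ k ∈ K, m * k * m⁻¹ ∈ K :=
    fun m hm k hk => (mem_normalizer_iff.mp hm k).mp hk
  have hl2' : ∀ x ∈ l, ∃ k : ℕ, x ^ 2 ^ k = 1 := by
    intro x hx
    obtain ⟨k, hk⟩ := hl2 ⟨x, hx⟩
    exact ⟨k, congrArg Subtype.val hk⟩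
  have hbr : ∀ v ∈ hull N V₀, ∀ x ∈ l, v * x * v⁻¹ * x⁻¹ ∈ hull N V₀ ∧ v * x * v⁻¹ * x⁻¹ ∈ E₁ ⊓ K := by
    intro v hv x hx
    have h1 : v * x * v⁻¹ * x⁻¹ ∈ hull N V₀ := by
      have e : v * x * v⁻¹ * x⁻¹ = v * (x * v⁻¹ * x⁻¹) := by group
      rw [e]
      exact mul_mem hv (hull_cj (hlN hx) (inv_mem hv))
    refine ⟨h1, hVE h1, ?_⟩
    exact K.mul_mem (hKM v (hVM hv) x (hlK hx)) (K.inv_mem (hlK hx))
  -- squares act trivially
  have hsq : ∀ x ∈ l, ∀ v ∈ hull N V₀, x * x * v = v * (x * x) := fun x hx v hv => hD _ (hl.sq x hx) v hv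
  -- `[v, x]` commutes with `x`
  have hself : ∀ v ∈ hull N V₀, ∀ x ∈ l, x * (v * x * v⁻¹ * x⁻¹) = (v * x * v⁻¹ * x⁻¹) * x := by
    intro v hv x hx
    have hvv := hV2 v hv
    have e1 : v⁻¹ = v := inv_eq_of_mul_eq_one_right hvv
    have h4 : x * v * x⁻¹ * v = v * (x * v * x⁻¹) := hab _ (hull_cj (hlN hx) hv) v hv
    have h5 := hsq x hx v hv
    have h6 : x * (x * v * x⁻¹) * x⁻¹ = v := by
      calc x * (x * v * x⁻¹) * x⁻¹ = x * x * v * (x * x)⁻¹ := by group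
        _ = v := by rw [h5]; group
    rw [e1]
    calc x * (v * x * v * x⁻¹) = x * v * x⁻¹ * (x * (x * v * x⁻¹) * x⁻¹) * x := by group
      _ = x * v * x⁻¹ * v * x := by rw [h6]
      _ = v * (x * v * x⁻¹) * x := by rw [h4]
      _ = v * x * v * x⁻¹ * x := by group
  have hquad : ∀ v ∈ hull N V₀, ∀ x ∈ l, ∀ x' ∈ l,
      x' * (v * x * v⁻¹ * x⁻¹) = (v * x * v⁻¹ * x⁻¹) * x' := by
    intro v hv x hx x' hx'
    by_cases hxD : x ∈ D
    · have h1 : v * x * v⁻¹ * x⁻¹ = 1 := by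
        rw [← hD x hxD v hv]; group
      rw [h1]; simp
    · exact hl.star _ (hbr v hv x hx).2 x hx hxD (hself v hv x hx) x' hx'
  obtain ⟨z, hz, hz1⟩ := (Subgroup.bot_or_exists_ne_one V₀).resolve_left hV₀
  have hz2 : orderOf z = 2 := orderOf_eq_prime (by rw [pow_two]; exact hv2 z hz) hz1
  have hinv : ∃ x ∈ E₁, x ∈ C ∧ orderOf x = 2 := ⟨z, hV₀E hz, hV₀C hz, hz2⟩
  -- elements of `l` in conjugates of `N(K)`
  have hsemi : ∀ n ∈ N, n ∉ normalizer (K : Set G) → ∀ s ∈ l, n⁻¹ * s * n ∈ normalizer (K : Set G) → s ∈ D :=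
    fun n hn hnM s hs hns => hlD s hs (h.semi hle hFK hinv hn hnM (hlN hs) (hlK hs) (hl2' s hs) hns)
  -- elements outside `D` act nontrivially
  have hnt : ∀ t ∈ l, t ∉ D → ∃ v ∈ hull N V₀, t * v ≠ v * t := by
    intro t htl htD
    by_contra hcon
    push Not at hcon
    obtain ⟨n, hn, hnM⟩ := hend
    have hv : n * z * n⁻¹ ∈ hull N V₀ := hull_cj hn (hV₀V hz)
    apply htD
    refine hsemi n hn hnM t htl ?_
    have h1 : n⁻¹ * (n * z * n⁻¹) * n ∈ C := by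
      have e : n⁻¹ * (n * z * n⁻¹) * n = z := by group
      rw [e]; exact hV₀C hz
    refine Tight.mem_of_comm ht h1 ?_ (hcon _ hv)
    rw [Basic.orderOf_conj]; exact hz2
  obtain ⟨a, ha, b, hb, haD, hbD, habD⟩ := hl.pair
  have htr : ∀ v ∈ hull N V₀, ∃ a ∈ l, ∃ b ∈ l,
      (∀ w ∈ hull N V₀, a * a * w = w * (a * a)) ∧ (∀ w ∈ hull N V₀, b * b * w = w * (b * b)) ∧
      (∀ w ∈ hull N V₀, a * b * w * (a * b)⁻¹ = b * a * w * (b * a)⁻¹) ∧
      (∃ w ∈ hull N V₀, a * w ≠ w * a) ∧ (∃ w ∈ hull N V₀, b * w ≠ w * b) ∧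
      (∃ w ∈ hull N V₀, a⁻¹ * b * w ≠ w * (a⁻¹ * b)) ∧
      v * (a * v * a⁻¹) * (b * v * b⁻¹) * (a * b * v * (a * b)⁻¹) = 1 := by
    intro v hv
    have hcab : ∀ w ∈ hull N V₀, a * b * w * (a * b)⁻¹ = b * a * w * (b * a)⁻¹ := by
      intro w hw
      have h1 : a * b * (a * b) * w = w * (a * b * (a * b)) := hsq _ (mul_mem ha hb) w hw
      have h2 := hsq a ha
      have h3 := hsq b hb
      have h4 : a * b * (b * a * w * (b * a)⁻¹) * (a * b)⁻¹ = w := by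
        have h5 : a * w * a⁻¹ ∈ hull N V₀ := hull_cj (hlN ha) hw
        calc a * b * (b * a * w * (b * a)⁻¹) * (a * b)⁻¹ = a * (b * b * (a * w * a⁻¹) * (b * b)⁻¹) * a⁻¹ := by group
          _ = a * (a * w * a⁻¹) * a⁻¹ := by rw [h3 _ h5]; group
          _ = a * a * w * (a * a)⁻¹ := by group
          _ = w := by rw [h2 w hw]; group
      have h6 : a * b * (a * b * w * (a * b)⁻¹) * (a * b)⁻¹ = w := by
        calc a * b * (a * b * w * (a * b)⁻¹) * (a * b)⁻¹ = a * b * (a * b) * w * (a * b * (a * b))⁻¹ := by group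
          _ = w := by rw [h1]; group
      have h7 : a * b * (a * b * w * (a * b)⁻¹) * (a * b)⁻¹ = a * b * (b * a * w * (b * a)⁻¹) * (a * b)⁻¹ := by
        rw [h6, h4]
      exact mul_left_cancel (mul_right_cancel h7)
    refine ⟨a, ha, b, hb, hsq a ha, hsq b hb, hcab, hnt a ha haD, hnt b hb hbD,
      hnt _ (mul_mem (inv_mem ha) hb) habD, ?_⟩
    have hvv := hV2 v hv
    have e1 : v⁻¹ = v := inv_eq_of_mul_eq_one_right hvv
    have h5 : b * (v * a * v⁻¹ * a⁻¹) = v * a * v⁻¹ * a⁻¹ * b := hquad v hv a ha b hb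
    rw [e1] at h5
    have h6 : (v * a * v * a⁻¹) * (v * a * v * a⁻¹) = 1 := by
      have h7 := hV2 _ (hbr v hv a ha).1
      rwa [e1] at h7
    have hba : (b * v * b⁻¹) * (a * b * v * (a * b)⁻¹) = b * (v * (a * v * a⁻¹)) * b⁻¹ := by
      rw [hcab v hv]; group
    rw [mul_assoc (v * (a * v * a⁻¹)), hba]
    calc v * (a * v * a⁻¹) * (b * (v * (a * v * a⁻¹)) * b⁻¹)
        = (v * a * v * a⁻¹) * (b * (v * a * v * a⁻¹)) * b⁻¹ := by group
      _ = (v * a * v * a⁻¹) * (v * a * v * a⁻¹ * b) * b⁻¹ := by rw [h5]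
      _ = (v * a * v * a⁻¹) * (v * a * v * a⁻¹) := by group
      _ = 1 := h6
  have key := fun {n v : G} (hn : n ∈ N) (hv : v ∈ hull N V₀) =>
    hull_chi (M := normalizer (K : Set G)) (N := N) (V₀ := V₀) (T := l) χ hVM hab (by
      intro n _ hnc
      have h1 : (1 : G)⁻¹ * z * 1 ∈ C := by simpa using hV₀C hz
      have h2 := Tight.mem_of_comm ht h1 hz2 (hnc z (hV₀V hz))
      simpa using h2) hlN (hlK.trans le_normalizer) (by
      intro n hn hnM s hs hns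
      exact hD s (hsemi n hn hnM s hs hns)) htr hn hv
  -- conclusion
  have hfin : hull N V₀ ≤ (χ.ker).map (normalizer (K : Set G)).subtype := by
    refine (Subgroup.closure_le _).mpr ?_
    rintro _ ⟨n, hn, x, hx, rfl⟩
    refine ⟨⟨n * x * n⁻¹, hVM (hull_cj hn (hV₀V hx))⟩, ?_, rfl⟩
    show χ _ = 1
    rw [key hn (hV₀V hx)]
    exact hχ x _ (hV₀C hx)
  intro v hv hvV
  obtain ⟨w, hw, hwv⟩ := hfin hvV
  have h1 : w = ⟨v, hv⟩ := Subtype.ext hwv
  rw [← h1]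
  exact hw

/-- `Ω₁(Z(E₁)) ∩ C(K) ≠ 1` -/
theorem omegaZ_ne_bot (h : KMaxE K F) (ht : TightAt K) (hle : E₁ ≤ F)
    (hQ : IsSyl Q (centralizer (K : Set G))) (hQE : Q ≤ E₁) : omegaZ E₁ (centralizer (K : Set G)) ≠ ⊥ := by
  have hE2 : IsPGroup 2 ↥E₁ := h.maxE.isPGroup.to_le hle
  have hEM : E₁ ≤ normalizer (K : Set G) := hle.trans h.maxE.le
  obtain ⟨x, hx, hxC, hx2⟩ := h.maxE.exists_inv
  -- an involution of `Q`
  obtain ⟨m, hm, hmq⟩ := hQ.conj_into (Q := zpowers x) (by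
    rw [IsPGroup.iff_card]; exact ⟨1, by rw [Nat.card_zpowers, hx2]; norm_num⟩) (zpowers_le.mpr hxC)
  have hy := hmq x (mem_zpowers x)
  have hy2 : orderOf (m * x * m⁻¹) = 2 := by rw [Basic.orderOf_conj]; exact hx2
  obtain ⟨z, hzE, hzC, hz2, hzc⟩ := CommConj.exists_central_involution (S := E₁)
    (N := E₁ ⊓ centralizer (K : Set G)) hE2 (by
      intro s hs n hn
      exact mem_inf.mpr ⟨mul_mem (mul_mem hs hn.1) (inv_mem hs), ht.norm s (hEM hs) n hn.2⟩)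
    ⟨_, hQE hy, ⟨hQE hy, hQ.le hy⟩, by
      intro h1
      rw [h1, orderOf_one] at hy2; exact absurd hy2 (by norm_num)⟩
  intro hbot
  have hz : z ∈ omegaZ E₁ (centralizer (K : Set G)) :=
    ⟨hzE, hzC.2, by rw [← pow_two, ← hz2]; exact pow_orderOf_eq_one z, hzc⟩
  rw [hbot, mem_bot] at hz
  rw [hz, orderOf_one] at hz2
  exact absurd hz2 (by norm_num)

/-- **(1B) with graph part, from `Out(K)`**: `χ : N(K) → B`, `B` abelian, trivial on `C(K)`, 2-elements of the kernel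
are inner. -/
theorem core {S P : Subgroup G} (ht : TightAt K) (hcen : ∀ x ∈ K, x ∈ centralizer (K : Set G) → x = 1)
    (h : KMaxE K F) (hQ : IsSyl Q (centralizer (K : Set G))) (hQF : Q ≤ F) (hS : IsPGroup 2 ↥S)
    (hSM : S ≤ normalizer (K : Set G)) (hFS : F ≤ S)
    {U : ℕ → Subgroup G} {L : ℕ → Set (Subgroup G)} (hU : Flt K S F U L)
    (hPM : ∀ m ∈ normalizer (K : Set G), ∀ x ∈ P, m * x * m⁻¹ ∈ P) (hCP : centralizer (K : Set G) ≤ P) (hKP : K ≤ P)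
    (hZ : ∀ e ∈ F, (∀ z ∈ zc K S, e * z = z * e) ↔ e ∈ P)
    (hUP : ∀ j, ∀ l ∈ L j, ∀ x ∈ l, ∀ e ∈ F, e ∈ P → e * x * e⁻¹ * x⁻¹ ∈ U (j + 1))
    (hinn : ∃ n ∈ normalizer (F : Set G), n ∉ normalizer (K : Set G) ∧ ∃ v ∈ F, orderOf v = 2 ∧
      n⁻¹ * v * n ∈ centralizer (K : Set G) ∧ (∀ e ∈ F, e * v = v * e) ∧
      ∃ c ∈ centralizer (K : Set G), ∃ k ∈ K, v = c * k)
    (hA : ∀ j, U (j + 1) ≤ F → zc K S ≤ F → ∀ n ∈ normalizer (F : Set G), n ∉ normalizer (K : Set G) →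
      ∀ z ∈ zc K S, ∀ u ∈ U (j + 1), u * (n * z * n⁻¹) = n * z * n⁻¹ * u)
    {B : Type*} [CommGroup B] (χ : ↥(normalizer (K : Set G)) →* B)
    (hχ : ∀ c (hc : c ∈ normalizer (K : Set G)), c ∈ centralizer (K : Set G) → χ ⟨c, hc⟩ = 1)
    (hχ2 : ∀ v (hv : v ∈ normalizer (K : Set G)), (∃ k : ℕ, v ^ 2 ^ k = 1) → χ ⟨v, hv⟩ = 1 →
      ∃ c ∈ centralizer (K : Set G), ∃ k ∈ K, v = c * k)
    (hUF : ¬ S ⊓ K ≤ F) : False := by
  refine Graph.core ht hcen h hQ hQF hS hSM hFS hU hPM hCP hKP hZ hUP hinn hA ?_ hUF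
  intro D l hline hl2 hlK hlN hlFD hDFP n hn hnM v hv
  have hVZ := hull_omegaZ (C := centralizer (K : Set G)) (E := F ⊓ P)
  have hQE : Q ≤ F ⊓ P := le_inf hQF (hQ.le.trans hCP)
  have hvh : n * v * n⁻¹ ∈ hull (normalizer ((F ⊓ P : Subgroup G) : Set G)) (omegaZ (F ⊓ P) (centralizer (K : Set G))) :=
    hull_cj hn (subset_closure ⟨1, one_mem _, v, hv, by group⟩)
  have hvM : n * v * n⁻¹ ∈ normalizer (K : Set G) := h.maxE.le (hVZ _ hvh).1.1
  refine hχ2 _ hvM ⟨1, by rw [pow_one, pow_two]; exact (hVZ _ hvh).2.1⟩ ?_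
  exact KMaxE.chi_eq_one h ht (E₁ := F ⊓ P) inf_le_left (fun x hx => ⟨hx.1, hKP hx.2⟩) ⟨n, hn, hnM⟩
    (V₀ := omegaZ (F ⊓ P) (centralizer (K : Set G))) (fun x hx => hx.1) (fun x hx => hx.2.1)
    (omegaZ_ne_bot h ht inf_le_left hQ hQE) (fun v hv => (hVZ v hv).2.1)
    (fun x hx y hy => (hVZ y hy).2.2 x (hVZ x hx).1) (hline.mono fun y hy => ⟨hFS hy.1.1, hy.2⟩) hl2 hlK hlN
    (fun t htl ht' => hlFD t htl ht'.1) (fun d hd v hv => (hVZ v hv).2.2 d (hDFP hd)) χ hχ _ hvM hvh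

end

end Cfsg.Agent.OddHalf.D4.Out

end

-- merged: Cfsg.Agent.OddHalf.D4.Hinn
section

/-!
# ODD, D4, (1B): the centre of `S ∩ K` lies in `F`, and `Z(F)` contains an inner involution of a conjugate of `C(K)`

(228 (L2)). `D = C(K)^n`, `n ∈ N(F) ∖ N(K)`, `R = F ∩ D` contains a four-group, one of whose involutions centralizes
`Z = Z(S ∩ K)`; so `Z ≤ N(K)^n ∩ S = F`. If `R ∩ C(K)K = 1` then `[R, F] ≤ R ∩ ker χ = 1`, so `R ≤ Z(F)` centralizes
`Z`, and `R` has at most one involution.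
-/

set_option autoImplicit false

namespace Cfsg.Agent.OddHalf.D4.Hinn

open Cfsg Subgroup Cfsg.Agent.OddHalf.D4 Cfsg.Agent.OddHalf.D4.Basic Cfsg.Agent.OddHalf.D4.BaryEnd
open Cfsg.Agent.OddHalf.D4.KMax Cfsg.Agent.OddHalf.D4.NoGraph
open Cfsg.Agent.OddHalf.D4.CommConj (Tight MaxE cj mem_cj mem_cj_mul)

variable {G : Type*} [Group G] [Finite G] {K F Q S : Subgroup G}

/-- two commuting distinct involutions of `C(K)` in `Q` -/
theorem rk_syl (hrk : ∃ a b : G, a ∈ centralizer (K : Set G) ∧ b ∈ centralizer (K : Set G) ∧ orderOf a = 2 ∧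
      orderOf b = 2 ∧ a * b = b * a ∧ a ≠ b) (hQ : IsSyl Q (centralizer (K : Set G))) :
    ∃ a ∈ Q, ∃ b ∈ Q, orderOf a = 2 ∧ orderOf b = 2 ∧ a * b = b * a ∧ a ≠ b := by
  obtain ⟨a, b, ha, hb, ha2, hb2, hab, hne⟩ := hrk
  have hp : ∀ x : G, orderOf x = 2 → IsPGroup 2 ↥(zpowers x) := fun x hx => by
    rw [IsPGroup.iff_card]; exact ⟨1, by rw [Nat.card_zpowers, hx]; norm_num⟩
  have hbn : zpowers b ≤ normalizer ((zpowers a : Subgroup G) : Set G) := by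
    rw [zpowers_le]
    apply mem_normalizer_fintype
    rintro _ ⟨k, rfl⟩
    have h1 : b * a ^ k * b⁻¹ = a ^ k := by
      have h2 : Commute b (a ^ k) := (show Commute b a from hab.symm).zpow_right k
      rw [h2.eq]; group
    rw [h1]
    exact ⟨k, rfl⟩
  have h2 : IsPGroup 2 ↥(zpowers a ⊔ zpowers b) := (hp a ha2).to_sup_of_normal_left' (hp b hb2) hbn
  obtain ⟨m, hm, hmq⟩ := hQ.conj_into h2 (sup_le (zpowers_le.mpr ha) (zpowers_le.mpr hb))
  refine ⟨m * a * m⁻¹, hmq a (mem_sup_left (mem_zpowers a)), m * b * m⁻¹, hmq b (mem_sup_right (mem_zpowers b)),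
    ?_, ?_, ?_, ?_⟩
  · rw [Basic.orderOf_conj, ha2]
  · rw [Basic.orderOf_conj, hb2]
  · calc m * a * m⁻¹ * (m * b * m⁻¹) = m * (a * b) * m⁻¹ := by group
      _ = m * b * m⁻¹ * (m * a * m⁻¹) := by rw [hab]; group
  · intro h
    exact hne (mul_left_cancel (mul_right_cancel h))

variable {n : G}

/-- two commuting distinct involutions of `C(K)^n` in `F`, one centralizes `Z(S ∩ K)` -/
theorem zc_le (ht : TightAt K) (h : KMaxE K F) (hQ : IsSyl Q (centralizer (K : Set G))) (hQF : Q ≤ F)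
    (hS : IsPGroup 2 ↥S) (hSM : S ≤ normalizer (K : Set G)) (hFS : F ≤ S)
    (hrk : ∃ a b : G, a ∈ centralizer (K : Set G) ∧ b ∈ centralizer (K : Set G) ∧ orderOf a = 2 ∧
      orderOf b = 2 ∧ a * b = b * a ∧ a ≠ b)
    (hcyc : ∀ a ∈ F, ∀ b ∈ F, a * a = 1 → b * b = 1 → a * b = b * a →
      (∀ z ∈ zc K S, a * z = z * a) ∨ (∀ z ∈ zc K S, b * z = z * b) ∨ (∀ z ∈ zc K S, a * b * z = z * (a * b)))
    (hn : n ∈ normalizer (F : Set G)) (hnM : n ∉ normalizer (K : Set G)) : zc K S ≤ F := by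
  obtain ⟨a, ha, b, hb, ha2, hb2, hab, hne⟩ := rk_syl hrk hQ
  have hcj : ∀ x ∈ Q, n * x * n⁻¹ ∈ F := fun x hx => (mem_normalizer_iff.mp hn x).mp (hQF hx)
  have hsq : ∀ x : G, orderOf x = 2 → x * x = 1 := fun x hx => by rw [← pow_two, ← hx]; exact pow_orderOf_eq_one x
  have hsq' : ∀ x : G, orderOf x = 2 → n * x * n⁻¹ * (n * x * n⁻¹) = 1 := fun x hx => by
    calc n * x * n⁻¹ * (n * x * n⁻¹) = n * (x * x) * n⁻¹ := by group
      _ = 1 := by rw [hsq x hx]; group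
  have key : ∀ r ∈ centralizer (K : Set G), orderOf r = 2 → (∀ z ∈ zc K S, n * r * n⁻¹ * z = z * (n * r * n⁻¹)) →
      zc K S ≤ F := by
    intro r hr hr2 hrz z hz
    have hzS : z ∈ S := ((mem_zc.mp hz).1).1
    refine mem_of_conj h.maxE hS hSM hFS hn hnM hzS ?_
    refine Tight.mem_of_comm ht (r := n * r * n⁻¹) ?_ ?_ (hrz z hz).symm
    · have e : n⁻¹ * (n * r * n⁻¹) * n = r := by group
      rw [e]; exact hr
    · rw [Basic.orderOf_conj]; exact hr2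
  rcases hcyc _ (hcj a ha) _ (hcj b hb) (hsq' a ha2) (hsq' b hb2) (by
    calc n * a * n⁻¹ * (n * b * n⁻¹) = n * (a * b) * n⁻¹ := by group
      _ = n * b * n⁻¹ * (n * a * n⁻¹) := by rw [hab]; group) with h1 | h1 | h1
  · exact key a (hQ.le ha) ha2 h1
  · exact key b (hQ.le hb) hb2 h1
  · refine key (a * b) (mul_mem (hQ.le ha) (hQ.le hb)) (orderOf_eq_prime ?_ ?_) ?_
    · have h2 := hsq a ha2
      have h3 := hsq b hb2
      rw [pow_two]
      calc a * b * (a * b) = a * (b * a) * b := by group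
        _ = (a * a) * (b * b) := by rw [← hab]; group
        _ = 1 := by rw [h2, h3, one_mul]
    · intro h2
      apply hne
      have h3 : a = b⁻¹ := eq_inv_of_mul_eq_one_left h2
      rw [h3]
      exact inv_eq_of_mul_eq_one_right (hsq b hb2)
    · intro z hz
      have h2 := h1 z hz
      have e : n * (a * b) * n⁻¹ = n * a * n⁻¹ * (n * b * n⁻¹) := by group
      rw [e]; exact h2

/-- **`hinn`**. -/
theorem hinn {B : Type*} [CommGroup B] (ht : TightAt K) (h : KMaxE K F)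
    (hQ : IsSyl Q (centralizer (K : Set G))) (hQF : Q ≤ F)
    (hS : IsPGroup 2 ↥S) (hSM : S ≤ normalizer (K : Set G)) (hFS : F ≤ S)
    (hrk : ∃ a b : G, a ∈ centralizer (K : Set G) ∧ b ∈ centralizer (K : Set G) ∧ orderOf a = 2 ∧
      orderOf b = 2 ∧ a * b = b * a ∧ a ≠ b)
    (hcyc : ∀ a ∈ F, ∀ b ∈ F, a * a = 1 → b * b = 1 → a * b = b * a →
      (∀ z ∈ zc K S, a * z = z * a) ∨ (∀ z ∈ zc K S, b * z = z * b) ∨ (∀ z ∈ zc K S, a * b * z = z * (a * b)))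
    (χ : ↥(normalizer (K : Set G)) →* B)
    (hχ2 : ∀ v (hv : v ∈ normalizer (K : Set G)), (∃ k : ℕ, v ^ 2 ^ k = 1) → χ ⟨v, hv⟩ = 1 →
      ∃ c ∈ centralizer (K : Set G), ∃ k ∈ K, v = c * k)
    (hK2 : ∀ a ∈ F, ∀ b ∈ F, (∀ z ∈ zc K S, a * z = z * a) → (∀ z ∈ zc K S, b * z = z * b) →
      a * a = 1 → b * b = 1 → a * b = b * a →
      (∃ c ∈ centralizer (K : Set G), ∃ k ∈ K, a = c * k) ∨ (∃ c ∈ centralizer (K : Set G), ∃ k ∈ K, b = c * k) ∨
      (∃ c ∈ centralizer (K : Set G), ∃ k ∈ K, a * b = c * k)) :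
    ∃ n ∈ normalizer (F : Set G), n ∉ normalizer (K : Set G) ∧ ∃ v ∈ F, orderOf v = 2 ∧
      n⁻¹ * v * n ∈ centralizer (K : Set G) ∧ (∀ e ∈ F, e * v = v * e) ∧
      ∃ c ∈ centralizer (K : Set G), ∃ k ∈ K, v = c * k := by
  obtain ⟨n, hn, hnM⟩ := h.maxE.exists_norm
  have hZF := zc_le ht h hQ hQF hS hSM hFS hrk hcyc hn hnM
  have hF2 : IsPGroup 2 ↥F := h.maxE.isPGroup
  have hcomm : ∀ k ∈ K, ∀ c ∈ centralizer (K : Set G), k * c = c * k :=
    fun k hk c hc => mem_centralizer_iff.mp hc k hk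
  have hKM : ∀ m ∈ normalizer (K : Set G), ∀ k ∈ K, m * k * m⁻¹ ∈ K :=
    fun m hm k hk => (mem_normalizer_iff.mp hm k).mp hk
  have hcj : ∀ x ∈ F, n * x * n⁻¹ ∈ F := fun x hx => (mem_normalizer_iff.mp hn x).mp hx
  have hcj' : ∀ x ∈ F, n⁻¹ * x * n ∈ F := fun x hx => (mem_normalizer_iff''.mp hn x).mp hx
  -- the inner part of `F ∩ C(K)^n`
  let I : Subgroup G := inn K F ⊓ cj n (centralizer (K : Set G))
  have hmemI : ∀ x, x ∈ I ↔ x ∈ inn K F ∧ n⁻¹ * x * n ∈ centralizer (K : Set G) := by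
    intro x
    show x ∈ inn K F ⊓ cj n (centralizer (K : Set G)) ↔ _
    rw [mem_inf, mem_cj]
  -- `F` normalizes `C(K)^n`
  have hFC : ∀ e ∈ F, ∀ x, n⁻¹ * x * n ∈ centralizer (K : Set G) →
      n⁻¹ * (e * x * e⁻¹) * n ∈ centralizer (K : Set G) := by
    intro e he x hx
    have h1 := ht.norm _ (h.maxE.le (hcj' e he)) _ hx
    have e1 : n⁻¹ * e * n * (n⁻¹ * x * n) * (n⁻¹ * e * n)⁻¹ = n⁻¹ * (e * x * e⁻¹) * n := by group
    rwa [e1] at h1
  have hFI : ∀ e ∈ F, ∀ x ∈ inn K F, e * x * e⁻¹ ∈ inn K F := by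
    rintro e he x ⟨hx, c, hc, k, hk, rfl⟩
    refine ⟨F.mul_mem (F.mul_mem he hx) (F.inv_mem he), e * c * e⁻¹, ht.norm e (h.maxE.le he) c hc,
      e * k * e⁻¹, hKM e (h.maxE.le he) k hk, by group⟩
  have hne : ∃ x ∈ F, x ∈ I ∧ x ≠ 1 := by
    by_contra hcon
    push Not at hcon
    obtain ⟨a, ha, b, hb, ha2, hb2, hab, hne⟩ := rk_syl hrk hQ
    have hsq : ∀ x : G, orderOf x = 2 → x * x = 1 := fun x hx => by
      rw [← pow_two, ← hx]; exact pow_orderOf_eq_one x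
    -- elements of `F ∩ C(K)^n` are central in `F`
    have hcen' : ∀ x ∈ F, n⁻¹ * x * n ∈ centralizer (K : Set G) → ∀ e ∈ F, e * x = x * e := by
      intro x hx hxn e he
      have h1 : e * x * e⁻¹ * x⁻¹ ∈ F := F.mul_mem (F.mul_mem (F.mul_mem he hx) (F.inv_mem he)) (F.inv_mem hx)
      have h2 : n⁻¹ * (e * x * e⁻¹ * x⁻¹) * n ∈ centralizer (K : Set G) := by
        have h3 := mul_mem (hFC e he x hxn) (inv_mem hxn)
        have e1 : n⁻¹ * (e * x * e⁻¹) * n * (n⁻¹ * x * n)⁻¹ = n⁻¹ * (e * x * e⁻¹ * x⁻¹) * n := by group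
        rwa [e1] at h3
      have h3 : χ ⟨e * x * e⁻¹ * x⁻¹, h.maxE.le h1⟩ = 1 := by
        have e1 : (⟨e * x * e⁻¹ * x⁻¹, h.maxE.le h1⟩ : ↥(normalizer (K : Set G))) =
            ⟨e, h.maxE.le he⟩ * ⟨x, h.maxE.le hx⟩ * (⟨e, h.maxE.le he⟩)⁻¹ * (⟨x, h.maxE.le hx⟩)⁻¹ := rfl
        rw [e1, map_mul, map_mul, map_mul, map_inv, map_inv, mul_comm (χ ⟨e, _⟩), mul_inv_cancel_right,
          mul_inv_cancel]
      obtain ⟨j, hj⟩ := hF2 ⟨_, h1⟩
      obtain ⟨c, hc, k, hk, hck⟩ := hχ2 _ (h.maxE.le h1) ⟨j, congrArg Subtype.val hj⟩ h3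
      have h4 := hcon _ h1 ((hmemI _).mpr ⟨⟨h1, c, hc, k, hk, hck⟩, h2⟩)
      calc e * x = e * x * e⁻¹ * x⁻¹ * (x * e) := by group
        _ = x * e := by rw [h4, one_mul]
    have hxn : ∀ x ∈ Q, n⁻¹ * (n * x * n⁻¹) * n ∈ centralizer (K : Set G) := by
      intro x hx
      have e : n⁻¹ * (n * x * n⁻¹) * n = x := by group
      rw [e]; exact hQ.le hx
    have hZ : ∀ x ∈ Q, ∀ z ∈ zc K S, n * x * n⁻¹ * z = z * (n * x * n⁻¹) := by
      intro x hx z hz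
      exact (hcen' _ (hcj x (hQF hx)) (hxn x hx) z (hZF hz)).symm
    have hsq' : ∀ x : G, orderOf x = 2 → n * x * n⁻¹ * (n * x * n⁻¹) = 1 := fun x hx => by
      calc n * x * n⁻¹ * (n * x * n⁻¹) = n * (x * x) * n⁻¹ := by group
        _ = 1 := by rw [hsq x hx]; group
    have hnot : ∀ x ∈ Q, x ≠ 1 → ¬ ∃ c ∈ centralizer (K : Set G), ∃ k ∈ K, n * x * n⁻¹ = c * k := by
      intro x hx hx1 hck
      have h1 := hcon _ (hcj x (hQF hx)) ((hmemI _).mpr ⟨⟨hcj x (hQF hx), hck⟩, hxn x hx⟩)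
      apply hx1
      calc x = n⁻¹ * (n * x * n⁻¹) * n := by group
        _ = 1 := by rw [h1]; group
    have ha1 : a ≠ 1 := by rintro rfl; rw [orderOf_one] at ha2; exact absurd ha2 (by norm_num)
    have hb1 : b ≠ 1 := by rintro rfl; rw [orderOf_one] at hb2; exact absurd hb2 (by norm_num)
    rcases hK2 _ (hcj a (hQF ha)) _ (hcj b (hQF hb)) (hZ a ha) (hZ b hb) (hsq' a ha2) (hsq' b hb2) (by
      calc n * a * n⁻¹ * (n * b * n⁻¹) = n * (a * b) * n⁻¹ := by group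
        _ = n * b * n⁻¹ * (n * a * n⁻¹) := by rw [hab]; group) with h1 | h1 | h1
    · exact hnot a ha ha1 h1
    · exact hnot b hb hb1 h1
    · refine hnot (a * b) (mul_mem ha hb) ?_ ?_
      · intro h2
        apply hne
        have h3 : a = b⁻¹ := eq_inv_of_mul_eq_one_left h2
        rw [h3]
        exact inv_eq_of_mul_eq_one_right (hsq b hb2)
      · have e : n * (a * b) * n⁻¹ = n * a * n⁻¹ * (n * b * n⁻¹) := by group
        rw [e]; exact h1
  obtain ⟨v, hvF, hvI, hv2, hvc⟩ := CommConj.exists_central_involution (S := F) (N := I) hF2 (by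
    intro e he x hx
    rw [hmemI] at hx ⊢
    exact ⟨hFI e he x hx.1, hFC e he x hx.2⟩) hne
  rw [hmemI] at hvI
  exact ⟨n, hn, hnM, v, hvF, hv2, hvI.2, hvc, hvI.1.2⟩

end Cfsg.Agent.OddHalf.D4.Hinn

end

-- merged: Cfsg.Agent.OddHalf.D4.HA
section

/-!
# ODD, D4, (1B): the hypothesis `hA`, and the end of case (1B)

`Z = Z(S ∩ K)`, `Z' = Z^n`, `n ∈ N(F) ∖ N(K)`. `F / C_F(Z)` cyclic. `hA_of_half`: `q ≥ 8`. `comm_of_four`:
`[Z, Z'] = 1` if `q = 4`; `hA`: then every line in `F` centralizes `Z'`. `hA_of_four`: `q = 4`. `hA_of_flt`: both.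
-/

set_option autoImplicit false

namespace Cfsg.Agent.OddHalf.D4.HA

open Cfsg Subgroup Cfsg.Agent.OddHalf.D4 Cfsg.Agent.OddHalf.D4.Basic Cfsg.Agent.OddHalf.D4.BaryEnd
open Cfsg.Agent.OddHalf.D4.KMax Cfsg.Agent.OddHalf.D4.NoGraph Cfsg.Agent.OddHalf.D4.LineR
open Cfsg.Agent.OddHalf.D4.CommConj (Tight MaxE cj mem_cj mem_cj_mul)

variable {G : Type*} [Group G] [Finite G] {K F Q S : Subgroup G}

/-- `F / C_F(Z)` is cyclic, `Z = Z(S ∩ K)`: of two elements whose squares centralize `Z`, one or the product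
centralizes `Z`. -/
def Cyc (K S F : Subgroup G) : Prop :=
  ∀ a ∈ F, ∀ b ∈ F, (∀ z ∈ zc K S, a * a * z = z * (a * a)) → (∀ z ∈ zc K S, b * b * z = z * (b * b)) →
    (∀ z ∈ zc K S, a * z = z * a) ∨ (∀ z ∈ zc K S, b * z = z * b) ∨ (∀ z ∈ zc K S, a * b * z = z * (a * b))

omit [Finite G] in
theorem Cyc.conj (h : Cyc K S F) {n : G} (hn : n ∈ normalizer (F : Set G)) {a b : G} (ha : a ∈ F) (hb : b ∈ F)
    (ha2 : ∀ z ∈ zc K S, a * a * (n * z * n⁻¹) = n * z * n⁻¹ * (a * a))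
    (hb2 : ∀ z ∈ zc K S, b * b * (n * z * n⁻¹) = n * z * n⁻¹ * (b * b)) :
    (∀ z ∈ zc K S, a * (n * z * n⁻¹) = n * z * n⁻¹ * a) ∨ (∀ z ∈ zc K S, b * (n * z * n⁻¹) = n * z * n⁻¹ * b) ∨
      (∀ z ∈ zc K S, a * b * (n * z * n⁻¹) = n * z * n⁻¹ * (a * b)) := by
  have hcj : ∀ x ∈ F, n⁻¹ * x * n ∈ F := fun x hx => (mem_normalizer_iff''.mp hn x).mp hx
  have key : ∀ x z : G, x * (n * z * n⁻¹) = n * z * n⁻¹ * x ↔ n⁻¹ * x * n * z = z * (n⁻¹ * x * n) := by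
    intro x z
    constructor
    · intro h1
      calc n⁻¹ * x * n * z = n⁻¹ * (x * (n * z * n⁻¹)) * n := by group
        _ = n⁻¹ * (n * z * n⁻¹ * x) * n := by rw [h1]
        _ = z * (n⁻¹ * x * n) := by group
    · intro h1
      calc x * (n * z * n⁻¹) = n * (n⁻¹ * x * n * z) * n⁻¹ := by group
        _ = n * (z * (n⁻¹ * x * n)) * n⁻¹ := by rw [h1]
        _ = n * z * n⁻¹ * x := by group
  have e : ∀ x y : G, n⁻¹ * x * n * (n⁻¹ * y * n) = n⁻¹ * (x * y) * n := fun x y => by group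
  rcases h _ (hcj a ha) _ (hcj b hb) (fun z hz => by rw [e]; exact (key _ _).mp (ha2 z hz))
    (fun z hz => by rw [e]; exact (key _ _).mp (hb2 z hz)) with h1 | h1 | h1
  · exact Or.inl fun z hz => (key _ _).mpr (h1 z hz)
  · exact Or.inr (Or.inl fun z hz => (key _ _).mpr (h1 z hz))
  · refine Or.inr (Or.inr fun z hz => (key _ _).mpr ?_)
    have h2 := h1 z hz
    rwa [e] at h2

omit [Finite G] in
/-- downward induction along the filtration -/
theorem induct {U : ℕ → Subgroup G} {L : ℕ → Set (Subgroup G)} (hU : Flt K S F U L) (hcyc : Cyc K S F) {j : ℕ}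
    (hj : U (j + 1) ≤ F) {n : G} (hn : n ∈ normalizer (F : Set G))
    (hstep : ∀ i, ∀ l ∈ L i, ∀ z ∈ zc K S, (∀ d ∈ U (i + 1), d * (n * z * n⁻¹) = n * z * n⁻¹ * d) →
      (∀ a ∈ l, ∀ b ∈ l, (∀ z ∈ zc K S, a * (n * z * n⁻¹) = n * z * n⁻¹ * a) ∨
        (∀ z ∈ zc K S, b * (n * z * n⁻¹) = n * z * n⁻¹ * b) ∨
        (∀ z ∈ zc K S, a * b * (n * z * n⁻¹) = n * z * n⁻¹ * (a * b))) →
      ∀ x ∈ l, x * (n * z * n⁻¹) = n * z * n⁻¹ * x) :
    ∀ z ∈ zc K S, ∀ u ∈ U (j + 1), u * (n * z * n⁻¹) = n * z * n⁻¹ * u := by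
  let H : Subgroup G := centralizer {y | ∃ z ∈ zc K S, y = n * z * n⁻¹}
  have hH : ∀ u, u ∈ H ↔ ∀ z ∈ zc K S, u * (n * z * n⁻¹) = n * z * n⁻¹ * u := by
    intro u
    show u ∈ centralizer _ ↔ _
    rw [mem_centralizer_iff]
    constructor
    · intro h z hz
      exact (h _ ⟨z, hz, rfl⟩).symm
    · rintro h _ ⟨z, hz, rfl⟩
      exact (h z hz).symm
  obtain ⟨m, hm⟩ := hU.bot
  have key : ∀ d i, j + 1 ≤ i → m ≤ i + d → U i ≤ H := by
    intro d
    induction d with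
    | zero =>
      intro i _ hi
      have h1 : U i ≤ U m := hU.anti (by omega)
      rw [hm] at h1
      exact h1.trans bot_le
    | succ d ih =>
      intro i hji hi
      have hnext : U (i + 1) ≤ H := ih (i + 1) (by omega) (by omega)
      intro u hu
      have h1 : closure ({x | ∃ l ∈ L i, x ∈ l} ∪ (U (i + 1) : Set G)) ≤ H := by
        rw [closure_le]
        rintro x (⟨l, hl, hx⟩ | hx)
        · have hlF : l ≤ F := (hU.line_le i l hl).trans ((hU.anti hji).trans hj)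
          have hsq : ∀ x ∈ l, ∀ z ∈ zc K S, x * x * (n * z * n⁻¹) = n * z * n⁻¹ * (x * x) :=
            fun x hx => (hH _).mp (hnext ((hU.line i l hl).sq x hx))
          refine (hH x).mpr fun z hz => ?_
          refine hstep i l hl z hz (fun d hd => (hH d).mp (hnext hd) z hz) ?_ x hx
          intro a ha b hb
          exact hcyc.conj hn (hlF ha) (hlF hb) (hsq a ha) (hsq b hb)
        · exact hnext hx
      exact h1 (hU.gen i u hu)
  intro z hz u hu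
  exact (hH u).mp (key m (j + 1) le_rfl (by omega) hu) z hz

omit [Finite G] in
/-- **`hA` from `[Z, Z^n] = 1`** -/
theorem hA {U : ℕ → Subgroup G} {L : ℕ → Set (Subgroup G)} (hU : Flt K S F U L) (hcyc : Cyc K S F)
    (hZ2 : ∀ z ∈ zc K S, z * z = 1)
    (hstar : ∀ j, ∀ l ∈ L j, ∀ y ∈ F, y * y = 1 → (∀ z ∈ zc K S, y * z = z * y) →
      (∀ d ∈ U (j + 1), d * y = y * d) → ∀ x ∈ l, x ∉ U (j + 1) → x * y = y * x → ∀ x' ∈ l, x' * y = y * x')
    (hZZ : zc K S ≤ F → ∀ n ∈ normalizer (F : Set G), n ∉ normalizer (K : Set G) → ∀ z ∈ zc K S, ∀ z' ∈ zc K S,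
      z * (n * z' * n⁻¹) = n * z' * n⁻¹ * z) :
    ∀ j, U (j + 1) ≤ F → zc K S ≤ F → ∀ n ∈ normalizer (F : Set G), n ∉ normalizer (K : Set G) →
      ∀ z ∈ zc K S, ∀ u ∈ U (j + 1), u * (n * z * n⁻¹) = n * z * n⁻¹ * u := by
  intro j hj hZF n hn hnM
  have hcj : ∀ x ∈ F, n * x * n⁻¹ ∈ F := fun x hx => (mem_normalizer_iff.mp hn x).mp hx
  refine induct hU hcyc hj hn ?_
  intro i l hl z hz hd hab x hx
  obtain ⟨a, ha, b, hb, haD, hbD, habD⟩ := (hU.line i l hl).pair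
  obtain ⟨x₀, hx₀, hx₀D, hx₀c⟩ : ∃ x₀ ∈ l, x₀ ∉ U (i + 1) ∧
      ∀ z ∈ zc K S, x₀ * (n * z * n⁻¹) = n * z * n⁻¹ * x₀ := by
    rcases hab a⁻¹ (inv_mem ha) b hb with h2 | h2 | h2
    · refine ⟨a, ha, haD, fun z hz => ?_⟩
      have h3 := h2 z hz
      calc a * (n * z * n⁻¹) = a * (n * z * n⁻¹ * a⁻¹) * a := by group
        _ = a * (a⁻¹ * (n * z * n⁻¹)) * a := by rw [h3]
        _ = n * z * n⁻¹ * a := by group
    · exact ⟨b, hb, hbD, h2⟩
    · exact ⟨a⁻¹ * b, mul_mem (inv_mem ha) hb, habD, h2⟩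
  refine hstar i l hl (n * z * n⁻¹) (hcj z (hZF hz)) ?_ (fun z' hz' => ?_) hd x₀ hx₀ hx₀D (hx₀c z hz) x hx
  · calc n * z * n⁻¹ * (n * z * n⁻¹) = n * (z * z) * n⁻¹ := by group
      _ = 1 := by rw [hZ2 z hz]; group
  · exact (hZZ hZF n hn hnM z' hz' z hz).symm

omit [Finite G] in
/-- **`hA`, `q ≥ 8`** -/
theorem hA_of_half {U : ℕ → Subgroup G} {L : ℕ → Set (Subgroup G)} (hU : Flt K S F U L) (hcyc : Cyc K S F)
    (hZ2 : ∀ z ∈ zc K S, z * z = 1) (hhalf : CaseB.Half F U L) :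
    ∀ j, U (j + 1) ≤ F → zc K S ≤ F → ∀ n ∈ normalizer (F : Set G), n ∉ normalizer (K : Set G) →
      ∀ z ∈ zc K S, ∀ u ∈ U (j + 1), u * (n * z * n⁻¹) = n * z * n⁻¹ * u := by
  intro j hj hZF n hn _
  have hcj : ∀ x ∈ F, n * x * n⁻¹ ∈ F := fun x hx => (mem_normalizer_iff.mp hn x).mp hx
  refine induct hU hcyc hj hn ?_
  intro i l hl z hz hd hab x hx
  refine hhalf i l hl (n * z * n⁻¹) (hcj z (hZF hz)) ?_ hd ?_ x hx
  · calc n * z * n⁻¹ * (n * z * n⁻¹) = n * (z * z) * n⁻¹ := by group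
      _ = 1 := by rw [hZ2 z hz]; group
  · intro a ha b hb
    rcases hab a ha b hb with h2 | h2 | h2
    · exact Or.inl (h2 z hz)
    · exact Or.inr (Or.inl (h2 z hz))
    · exact Or.inr (Or.inr (h2 z hz))

omit [Finite G] in
/-- **`[Z, Z^n] = 1`, `q ≥ 8`**: a nontrivial automorphism of `Z` induced by `F` does not fix a subgroup of index two -/
theorem comm_of_half (hcyc : Cyc K S F) (hZ2 : ∀ z ∈ zc K S, z * z = 1)
    (hhalf : ∀ y ∈ F, (∀ a ∈ zc K S, ∀ b ∈ zc K S, a * y = y * a ∨ b * y = y * b ∨ a * b * y = y * (a * b)) →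
      ∀ z ∈ zc K S, z * y = y * z) :
    zc K S ≤ F → ∀ n ∈ normalizer (F : Set G), n ∉ normalizer (K : Set G) → ∀ z ∈ zc K S, ∀ z' ∈ zc K S,
      z * (n * z' * n⁻¹) = n * z' * n⁻¹ * z := by
  intro hZF n hn _ z hz z' hz'
  refine hhalf (n * z' * n⁻¹) ((mem_normalizer_iff.mp hn z').mp (hZF hz')) ?_ z hz
  intro a ha b hb
  have h1 : ∀ x ∈ zc K S, ∀ z ∈ zc K S, x * x * (n * z * n⁻¹) = n * z * n⁻¹ * (x * x) := by
    intro x hx z _
    rw [hZ2 x hx]; group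
  rcases hcyc.conj hn (hZF ha) (hZF hb) (h1 a ha) (h1 b hb) with h2 | h2 | h2
  · exact Or.inl (h2 z' hz')
  · exact Or.inr (Or.inl (h2 z' hz'))
  · exact Or.inr (Or.inr (h2 z' hz'))

/-- **`[Z, Z^n] = 1`, `q = 4`**: `|Z| = 4`, and (LR4): if the involution `x ∈ S ∩ K` is not central in `S ∩ K`,
`y ∈ F` commutes with `x` and does not centralize `Z`, then `[C_{S ∩ K}(x), y] ≰ Z`. -/
theorem comm_of_four (hcen : ∀ x ∈ K, x ∈ centralizer (K : Set G) → x = 1) (hF : IsPGroup 2 ↥F)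
    (hFM : F ≤ normalizer (K : Set G)) (hFS : F ≤ S) (hZ2 : ∀ z ∈ zc K S, z * z = 1)
    (hZ4 : Nat.card ↥(zc K S) = 4)
    (hLR : ∀ x ∈ S ⊓ K, x * x = 1 → (∃ u ∈ S ⊓ K, u * x ≠ x * u) → ∀ y ∈ S, y * y = 1 → ¬ CaseB.CZ K S y →
      x * y = y * x → ∃ w ∈ S ⊓ K, w * x = x * w ∧ w * y * w⁻¹ * y⁻¹ ∉ zc K S)
    (hin : ∀ n ∈ normalizer (F : Set G), n ∉ normalizer (K : Set G) → ∃ c ∈ centralizer (K : Set G), ∃ k ∈ K,
      c * k ∈ F ∧ k ∈ F ∧ k * k = 1 ∧ (∃ u ∈ S ⊓ K, u * k ≠ k * u) ∧ (∀ e ∈ F, e * (c * k) = c * k * e) ∧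
      (∀ x ∈ S ⊓ K, x * k = k * x → x ∈ F)) :
    zc K S ≤ F → ∀ n ∈ normalizer (F : Set G), n ∉ normalizer (K : Set G) → ∀ z ∈ zc K S, ∀ z' ∈ zc K S,
      z * (n * z' * n⁻¹) = n * z' * n⁻¹ * z := by
  classical
  intro hZF n hn hnM z hz z' hz'
  by_contra hne
  have hcomm : ∀ k ∈ K, ∀ c ∈ centralizer (K : Set G), k * c = c * k :=
    fun k hk c hc => mem_centralizer_iff.mp hc k hk
  have hKM : ∀ m ∈ normalizer (K : Set G), ∀ k ∈ K, m * k * m⁻¹ ∈ K :=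
    fun m hm k hk => (mem_normalizer_iff.mp hm k).mp hk
  have hcj : ∀ x ∈ F, n * x * n⁻¹ ∈ F := fun x hx => (mem_normalizer_iff.mp hn x).mp hx
  have hcj' : ∀ x ∈ F, n⁻¹ * x * n ∈ F := fun x hx => (mem_normalizer_iff''.mp hn x).mp hx
  -- `F` normalizes `Z`
  have hFZ : ∀ e ∈ F, ∀ x ∈ zc K S, e * x * e⁻¹ ∈ zc K S := by
    intro e he x hx
    rw [mem_zc] at hx ⊢
    refine ⟨⟨S.mul_mem (S.mul_mem (hFS he) hx.1.1) (S.inv_mem (hFS he)), hKM e (hFM he) x hx.1.2⟩, ?_⟩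
    intro u hu
    have h1 : e⁻¹ * u * e ∈ S ⊓ K := by
      refine mem_inf.mpr ⟨S.mul_mem (S.mul_mem (S.inv_mem (hFS he)) hu.1) (hFS he), ?_⟩
      have h2 := hKM e⁻¹ (inv_mem (hFM he)) u hu.2
      rwa [inv_inv] at h2
    have h2 := hx.2 _ h1
    calc u * (e * x * e⁻¹) = e * (e⁻¹ * u * e * x) * e⁻¹ := by group
      _ = e * (x * (e⁻¹ * u * e)) * e⁻¹ := by rw [h2]
      _ = e * x * e⁻¹ * u := by group
  -- the group `Z' = Z^n`
  let Z' : Subgroup G := cj n (zc K S)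
  have hZ' : ∀ x, x ∈ Z' ↔ n⁻¹ * x * n ∈ zc K S := fun x => mem_cj
  have hFZ' : ∀ e ∈ F, ∀ x ∈ Z', e * x * e⁻¹ ∈ Z' := by
    intro e he x hx
    rw [hZ'] at hx ⊢
    have h1 := hFZ _ (hcj' e he) _ hx
    have e1 : n⁻¹ * e * n * (n⁻¹ * x * n) * (n⁻¹ * e * n)⁻¹ = n⁻¹ * (e * x * e⁻¹) * n := by group
    rwa [e1] at h1
  have hy : n * z' * n⁻¹ ∈ Z' := by
    rw [hZ']
    have e : n⁻¹ * (n * z' * n⁻¹) * n = z' := by group
    rw [e]; exact hz'
  have hyF : n * z' * n⁻¹ ∈ F := hcj z' (hZF hz')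
  set y := n * z' * n⁻¹ with hydef
  have hZ'F : Z' ≤ F := by
    intro x hx
    rw [hZ'] at hx
    have h1 := hcj _ (hZF hx)
    have e : n * (n⁻¹ * x * n) * n⁻¹ = x := by group
    rwa [e] at h1
  have hZ'4 : Nat.card ↥Z' = 4 := by
    show Nat.card ↥(cj n (zc K S)) = 4
    rw [CommConj.card_cj]; exact hZ4
  have hy1 : y ≠ 1 := by
    intro h
    apply hne
    rw [h]; simp
  obtain ⟨z₀, hz₀F, hz₀Z, hz₀2, hz₀c⟩ := CommConj.exists_central_involution (S := F) (N := Z') hF hFZ' ⟨y, hyF, hy, hy1⟩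
  -- `[F, Z'] ≤ ⟨z₀⟩`
  have hidx : ((zpowers z₀).subgroupOf Z').index = 2 := by
    have h1 : Nat.card ↥((zpowers z₀).subgroupOf Z') = 2 := by
      rw [Nat.card_congr (subgroupOfEquivOfLe (zpowers_le.mpr hz₀Z)).toEquiv, Nat.card_zpowers, hz₀2]
    have h2 := ((zpowers z₀).subgroupOf Z').card_mul_index
    rw [h1, hZ'4] at h2
    omega
  have hbr : ∀ e ∈ F, ∀ x ∈ Z', e * x * e⁻¹ * x⁻¹ ∈ zpowers z₀ := by
    intro e he x hx
    have h1 := Subgroup.mul_mem_iff_of_index_two hidx (a := ⟨e * x * e⁻¹, hFZ' e he x hx⟩)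
      (b := (⟨x, hx⟩ : ↥Z')⁻¹)
    have h2 : (⟨e * x * e⁻¹, hFZ' e he x hx⟩ : ↥Z') ∈ (zpowers z₀).subgroupOf Z' ↔
        ((⟨x, hx⟩ : ↥Z')⁻¹) ∈ (zpowers z₀).subgroupOf Z' := by
      rw [inv_mem_iff, mem_subgroupOf, mem_subgroupOf]
      show e * x * e⁻¹ ∈ zpowers z₀ ↔ x ∈ zpowers z₀
      have hcz : ∀ w ∈ zpowers z₀, ∀ e ∈ F, e * w * e⁻¹ = w := by
        rintro _ ⟨k, rfl⟩ e he
        have h3 : Commute e (z₀ ^ k) := (show Commute e z₀ from hz₀c e he).zpow_right k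
        show e * z₀ ^ k * e⁻¹ = z₀ ^ k
        rw [h3.eq]; group
      constructor
      · intro h3
        have h4 := hcz _ h3 e⁻¹ (F.inv_mem he)
        have e1 : e⁻¹ * (e * x * e⁻¹) * e⁻¹⁻¹ = x := by group
        rw [e1] at h4
        rw [h4]; exact h3
      · intro h3
        rw [hcz _ h3 e he]; exact h3
    exact mem_subgroupOf.mp (h1.mpr h2)
  -- `z₀ ∈ Z`
  have hz₀sq : z₀ * z₀ = 1 := by rw [← pow_two, ← hz₀2]; exact pow_orderOf_eq_one z₀
  have hzp : ∀ w ∈ zpowers z₀, w = 1 ∨ w = z₀ := by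
    rintro _ ⟨k, rfl⟩
    show z₀ ^ k = 1 ∨ z₀ ^ k = z₀
    rcases Int.even_or_odd' k with ⟨m, rfl | rfl⟩
    · left
      rw [zpow_mul, zpow_two, hz₀sq, one_zpow]
    · right
      rw [zpow_add, zpow_mul, zpow_two, hz₀sq, one_zpow, zpow_one, one_mul]
  have hz₀mem : z₀ ∈ zc K S := by
    have h1 := hbr z (hZF hz) y hy
    have h2 : z * y * z⁻¹ * y⁻¹ ≠ 1 := by
      intro h
      apply hne
      calc z * y = z * y * z⁻¹ * y⁻¹ * (y * z) := by group
        _ = y * z := by rw [h, one_mul]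
    have h3 : z * y * z⁻¹ * y⁻¹ = z₀ := (hzp _ h1).resolve_left h2
    have h4 : z * (y * z⁻¹ * y⁻¹) ∈ zc K S := mul_mem hz (hFZ y hyF _ (inv_mem hz))
    have e : z * (y * z⁻¹ * y⁻¹) = z * y * z⁻¹ * y⁻¹ := by group
    rw [e, h3] at h4
    exact h4
  -- the inner involution
  obtain ⟨c, hc, k, hk, hckF, hkF, hkk, hknc, hckc, hkC⟩ := hin n hn hnM
  have hyk : k * y = y * k := by
    have h1 := hckc y hyF
    have hyM := hFM hyF
    -- `y (c k) y⁻¹ = c k`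
    have h2 : y * c * y⁻¹ * (y * k * y⁻¹) = c * k := by
      calc y * c * y⁻¹ * (y * k * y⁻¹) = y * (c * k) * y⁻¹ := by group
        _ = c * k * y * y⁻¹ := by rw [h1]
        _ = c * k := by group
    have hyc : y * c * y⁻¹ ∈ centralizer (K : Set G) := by
      rw [mem_centralizer_iff]
      intro x hx
      have h3 : y⁻¹ * x * y ∈ K := by
        have := hKM y⁻¹ (inv_mem hyM) x hx
        rwa [inv_inv] at this
      have h4 := mem_centralizer_iff.mp hc _ h3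
      calc x * (y * c * y⁻¹) = y * (y⁻¹ * x * y * c) * y⁻¹ := by group
        _ = y * (c * (y⁻¹ * x * y)) * y⁻¹ := by rw [h4]
        _ = y * c * y⁻¹ * x := by group
    have h3 : c⁻¹ * (y * c * y⁻¹) = k * (y * k * y⁻¹)⁻¹ := by
      calc c⁻¹ * (y * c * y⁻¹) = c⁻¹ * (y * c * y⁻¹ * (y * k * y⁻¹)) * (y * k * y⁻¹)⁻¹ := by group
        _ = c⁻¹ * (c * k) * (y * k * y⁻¹)⁻¹ := by rw [h2]
        _ = k * (y * k * y⁻¹)⁻¹ := by group
    have h4 : k * (y * k * y⁻¹)⁻¹ = 1 := by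
      apply hcen
      · exact mul_mem hk (inv_mem (hKM y hyM k hk))
      · rw [← h3]; exact mul_mem (inv_mem hc) hyc
    have h5 : k = y * k * y⁻¹ := mul_inv_eq_one.mp h4
    calc k * y = y * k * y⁻¹ * y := by rw [← h5]
      _ = y * k := by group
  obtain ⟨w, hw, hwk, hwZ⟩ := hLR k (mem_inf.mpr ⟨hFS hkF, hk⟩) hkk hknc y (hFS hyF) (by
    rw [hydef]
    calc n * z' * n⁻¹ * (n * z' * n⁻¹) = n * (z' * z') * n⁻¹ := by group
      _ = 1 := by rw [hZ2 z' hz']; group) (fun h => hne (h z hz).symm) hyk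
  apply hwZ
  have hwF : w ∈ F := hkC w hw hwk
  have h1 := hbr w hwF y hy
  rcases hzp _ h1 with h3 | h3
  · rw [h3]; exact one_mem _
  · rw [h3]; exact hz₀mem

/-- the hypothesis `hin` of `comm_of_four`, from `hinn` -/
theorem hin_of_hinn (ht : TightAt K) (hcen : ∀ x ∈ K, x ∈ centralizer (K : Set G) → x = 1) (h : KMaxE K F)
    (hQ : IsSyl Q (centralizer (K : Set G))) (hQF : Q ≤ F) (hS : IsPGroup 2 ↥S)
    (hSM : S ≤ normalizer (K : Set G)) (hFS : F ≤ S)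
    (hinn : ∃ n ∈ normalizer (F : Set G), n ∉ normalizer (K : Set G) ∧ ∃ v ∈ F, orderOf v = 2 ∧
      n⁻¹ * v * n ∈ centralizer (K : Set G) ∧ (∀ e ∈ F, e * v = v * e) ∧
      ∃ c ∈ centralizer (K : Set G), ∃ k ∈ K, v = c * k)
    (hUF : ¬ S ⊓ K ≤ F) : ∃ c ∈ centralizer (K : Set G), ∃ k ∈ K,
      c * k ∈ F ∧ k ∈ F ∧ k * k = 1 ∧ (∃ u ∈ S ⊓ K, u * k ≠ k * u) ∧ (∀ e ∈ F, e * (c * k) = c * k * e) ∧
      (∀ x ∈ S ⊓ K, x * k = k * x → x ∈ F) := by
  have hcomm : ∀ k ∈ K, ∀ c ∈ centralizer (K : Set G), k * c = c * k :=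
    fun k hk c hc => mem_centralizer_iff.mp hc k hk
  have hF2 : IsPGroup 2 ↥F := h.maxE.isPGroup
  obtain ⟨n, hn, hnM, v, hvF, hv2, hvC, hvc, c, hc, k, hk, rfl⟩ := hinn
  have hcQ : c ∈ Q := comp_mem_Q hcen hF2 hQ hQF hc hk hvF
  have hkF : k ∈ F := by
    have e : k = c⁻¹ * (c * k) := by group
    rw [e]; exact mul_mem (inv_mem (hQF hcQ)) hvF
  have hvv : c * k * (c * k) = 1 := by rw [← pow_two, ← hv2]; exact pow_orderOf_eq_one _
  have hkk : k * k = 1 := by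
    apply hcen _ (mul_mem hk hk)
    have h1 : k * k = (c * c)⁻¹ := by
      apply eq_inv_of_mul_eq_one_right
      calc c * c * (k * k) = c * (c * k) * k := by group
        _ = c * (k * c) * k := by rw [hcomm k hk c hc]
        _ = c * k * (c * k) := by group
        _ = 1 := hvv
    rw [h1]
    exact inv_mem (mul_mem hc hc)
  have hkC : ∀ x ∈ S ⊓ K, x * k = k * x → x ∈ F := by
    intro x hx hxk
    refine mem_of_conj h.maxE hS hSM hFS hn hnM hx.1 (Tight.mem_of_comm ht hvC hv2 ?_)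
    calc x * (c * k) = (x * c) * k := by group
      _ = (c * x) * k := by rw [hcomm x hx.2 c hc]
      _ = c * (x * k) := by group
      _ = c * (k * x) := by rw [hxk]
      _ = c * k * x := by group
  refine ⟨c, hc, k, hk, hvF, hkF, hkk, ?_, hvc, hkC⟩
  by_contra hcon
  push Not at hcon
  exact hUF fun x hx => hkC x hx (hcon x hx)

/-- **`hA`, `q = 4`** -/
theorem hA_of_four {U : ℕ → Subgroup G} {L : ℕ → Set (Subgroup G)} (ht : TightAt K)
    (hcen : ∀ x ∈ K, x ∈ centralizer (K : Set G) → x = 1) (h : KMaxE K F)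
    (hQ : IsSyl Q (centralizer (K : Set G))) (hQF : Q ≤ F) (hS : IsPGroup 2 ↥S)
    (hSM : S ≤ normalizer (K : Set G)) (hFS : F ≤ S) (hU : Flt K S F U L) (hcyc : Cyc K S F)
    (hZ2 : ∀ z ∈ zc K S, z * z = 1)
    (hinn : ∃ n ∈ normalizer (F : Set G), n ∉ normalizer (K : Set G) ∧ ∃ v ∈ F, orderOf v = 2 ∧
      n⁻¹ * v * n ∈ centralizer (K : Set G) ∧ (∀ e ∈ F, e * v = v * e) ∧
      ∃ c ∈ centralizer (K : Set G), ∃ k ∈ K, v = c * k)
    (hUF : ¬ S ⊓ K ≤ F) (hfour : CaseB.Four K S F U L) :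
    ∀ j, U (j + 1) ≤ F → zc K S ≤ F → ∀ n ∈ normalizer (F : Set G), n ∉ normalizer (K : Set G) →
      ∀ z ∈ zc K S, ∀ u ∈ U (j + 1), u * (n * z * n⁻¹) = n * z * n⁻¹ * u :=
  hA hU hcyc hZ2 (fun j l hl y hy hyy hyZ hd => hfour.star j l hl y hy hyy hyZ hd)
    (comm_of_four hcen h.maxE.isPGroup h.maxE.le hFS hZ2 hfour.card hfour.lr
      fun _ _ _ => hin_of_hinn ht hcen h hQ hQF hS hSM hFS hinn hUF)

end Cfsg.Agent.OddHalf.D4.HA

end

-- merged: Cfsg.Agent.OddHalf.D4.CaseB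
section

/-!
# ODD, D4, (1B): assembly

`exists_fullPair_syl`: if `BFacts K S` for the Sylow 2-subgroups `S` of `N(K)`, there is a full pair `K`, `L` such that
a Sylow 2-subgroup of `K` normalises `L` (the hypothesis of `Input.Inp.root_pair`).
-/

set_option autoImplicit false

namespace Cfsg.Agent.OddHalf.D4.CaseB

open Cfsg Subgroup Cfsg.Agent.OddHalf.D4 Cfsg.Agent.OddHalf.D4.Basic
open scoped commutatorElement
open Cfsg.Agent.OddHalf.D4.KMax Cfsg.Agent.OddHalf.D4.LineR Cfsg.Agent.OddHalf.D4.NoGraph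
open Cfsg.Agent.OddHalf.D4.CommConj (Tight MaxE cj mem_cj mem_cj_mul exists_central_involution
  cj_eq_of_mem_normalizer)

universe u

/-! ### Cyclic groups -/

/-- A cyclic group contains at most one involution. -/
theorem zpow_two {Γ : Type*} [Group Γ] {g : Γ} {m n : ℤ} (h1 : g ^ (2 * m) = 1) (h2 : g ^ (2 * n) = 1) :
    g ^ m = 1 ∨ g ^ n = 1 ∨ g ^ (m + n) = 1 := by
  rw [← orderOf_dvd_iff_zpow_eq_one] at h1 h2 ⊢
  rw [← orderOf_dvd_iff_zpow_eq_one, ← orderOf_dvd_iff_zpow_eq_one]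
  generalize (orderOf g : ℤ) = d at *
  rcases Int.even_or_odd' d with ⟨k, rfl | rfl⟩
  · have h3 : k ∣ m := (mul_dvd_mul_iff_left (by norm_num : (2 : ℤ) ≠ 0)).mp h1
    have h4 : k ∣ n := (mul_dvd_mul_iff_left (by norm_num : (2 : ℤ) ≠ 0)).mp h2
    obtain ⟨s, rfl⟩ := h3
    obtain ⟨t, rfl⟩ := h4
    rcases Int.even_or_odd' s with ⟨s, rfl | rfl⟩
    · left; exact ⟨s, by ring⟩
    rcases Int.even_or_odd' t with ⟨t, rfl | rfl⟩
    · right; left; exact ⟨t, by ring⟩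
    · right; right; exact ⟨s + t + 1, by ring⟩
  · left
    have h3 : IsCoprime (2 * k + 1) 2 := ⟨1, -k, by ring⟩
    exact h3.dvd_of_dvd_mul_left h1

section CZ

variable {G : Type u} [Group G] {K S : Subgroup G}

theorem CZ.mul {a b : G} (ha : CZ K S a) (hb : CZ K S b) : CZ K S (a * b) := by
  intro z hz
  rw [mul_assoc, hb z hz, ← mul_assoc, ha z hz, mul_assoc]

theorem CZ.inv {a : G} (ha : CZ K S a) : CZ K S a⁻¹ := by
  intro z hz
  have := ha z hz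
  calc a⁻¹ * z = a⁻¹ * (z * a) * a⁻¹ := by group
    _ = a⁻¹ * (a * z) * a⁻¹ := by rw [this]
    _ = z * a⁻¹ := by group

/-- `S` normalises `Z(S ∩ K)`. -/
theorem zc_conj (hSM : S ≤ normalizer (K : Set G)) {s z : G} (hs : s ∈ S) (hz : z ∈ zc K S) :
    s * z * s⁻¹ ∈ zc K S := by
  rw [mem_zc] at hz ⊢
  refine ⟨⟨S.mul_mem (S.mul_mem hs hz.1.1) (S.inv_mem hs), (mem_normalizer_iff.mp (hSM hs) z).mp hz.1.2⟩, ?_⟩
  intro u hu
  have h1 : s⁻¹ * u * s ∈ S ⊓ K :=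
    ⟨S.mul_mem (S.mul_mem (S.inv_mem hs) hu.1) hs, (mem_normalizer_iff''.mp (hSM hs) u).mp hu.2⟩
  have h2 := hz.2 _ h1
  calc u * (s * z * s⁻¹) = s * ((s⁻¹ * u * s) * z) * s⁻¹ := by group
    _ = s * (z * (s⁻¹ * u * s)) * s⁻¹ := by rw [h2]
    _ = s * z * s⁻¹ * u := by group

theorem CZ.conj (hSM : S ≤ normalizer (K : Set G)) {s e : G} (hs : s ∈ S) (he : CZ K S e) :
    CZ K S (s * e * s⁻¹) := by
  intro z hz
  have h1 := he _ (zc_conj hSM (inv_mem hs) hz)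
  rw [inv_inv] at h1
  calc s * e * s⁻¹ * z = s * (e * (s⁻¹ * z * s)) * s⁻¹ := by group
    _ = s * (s⁻¹ * z * s * e) * s⁻¹ := by rw [h1]
    _ = z * (s * e * s⁻¹) := by group

/-- the form of `cyc` used in `Hinn` -/
theorem cyc_two (hSM : S ≤ normalizer (K : Set G)) (hcyc : ∃ g ∈ S, ∀ s ∈ S, ∃ m : ℤ, CZ K S (g ^ m * s))
    {a b : G} (ha : a ∈ S) (hb : b ∈ S) (ha2 : CZ K S (a * a)) (hb2 : CZ K S (b * b)) :
    CZ K S a ∨ CZ K S b ∨ CZ K S (a * b) := by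
  obtain ⟨g, hg, hgen⟩ := hcyc
  let N : Subgroup ↥S :=
    { carrier := {s | CZ K S s}
      one_mem' := fun z _ => by simp
      mul_mem' := fun h1 h2 => h1.mul h2
      inv_mem' := fun h1 => h1.inv }
  have hN : N.Normal := ⟨fun n hn s => CZ.conj hSM s.2 hn⟩
  have hmem : ∀ s : ↥S, (QuotientGroup.mk' N s = 1) ↔ CZ K S s := by
    intro s
    rw [QuotientGroup.mk'_apply, QuotientGroup.eq_one_iff]
    rfl
  obtain ⟨m, hm⟩ := hgen a ha
  obtain ⟨n, hn⟩ := hgen b hb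
  set γ := QuotientGroup.mk' N ⟨g, hg⟩ with hγ
  set α := QuotientGroup.mk' N ⟨a, ha⟩ with hα
  set β := QuotientGroup.mk' N ⟨b, hb⟩ with hβ
  have h1 : γ ^ m * α = 1 := by
    rw [hγ, hα, ← map_zpow, ← map_mul, hmem]
    exact hm
  have h2 : γ ^ n * β = 1 := by
    rw [hγ, hβ, ← map_zpow, ← map_mul, hmem]
    exact hn
  have h3 : α * α = 1 := by
    rw [hα, ← map_mul, hmem]
    exact ha2
  have h4 : β * β = 1 := by
    rw [hβ, ← map_mul, hmem]
    exact hb2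
  have h1' : γ ^ m = α := by
    have : γ ^ m = α⁻¹ := eq_inv_of_mul_eq_one_left h1
    rw [this]
    exact inv_eq_of_mul_eq_one_left h3
  have h2' : γ ^ n = β := by
    have : γ ^ n = β⁻¹ := eq_inv_of_mul_eq_one_left h2
    rw [this]
    exact inv_eq_of_mul_eq_one_left h4
  have h5 : γ ^ (2 * m) = 1 := by rw [two_mul, zpow_add, h1', h3]
  have h6 : γ ^ (2 * n) = 1 := by rw [two_mul, zpow_add, h2', h4]
  rcases zpow_two h5 h6 with h | h | h
  · left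
    rw [h1', hα, hmem] at h
    exact h
  · right; left
    rw [h2', hβ, hmem] at h
    exact h
  · right; right
    rw [zpow_add, h1', h2', hα, hβ, ← map_mul, hmem] at h
    exact h

end CZ

section Main

variable {G : Type u} [Group G] [Finite G] {K F Q S : Subgroup G}

/-- `S ∩ K` is a Sylow 2-subgroup of `K` -/
theorem syl_inf (hS : IsSyl S (normalizer (K : Set G))) : IsSyl (S ⊓ K) K := by
  apply hS.inf le_normalizer
  intro s hs
  apply mem_normalizer_fintype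
  intro c hc
  exact (mem_normalizer_iff.mp (hS.le hs) c).mp hc

/-- `S ∩ C(K)` is a Sylow 2-subgroup of `C(K)` -/
theorem syl_cen (ht : TightAt K) (hS : IsSyl S (normalizer (K : Set G))) :
    IsSyl (S ⊓ centralizer (K : Set G)) (centralizer (K : Set G)) := by
  apply hS.inf ht.le
  intro s hs
  apply mem_normalizer_fintype
  intro c hc
  exact ht.norm s (hS.le hs) c hc

/-- `S ∩ C(K)K` centralises `Z(S ∩ K)` -/
theorem cz_of_inn (hcen : ∀ x ∈ K, x ∈ centralizer (K : Set G) → x = 1) (hS : IsSyl S (normalizer (K : Set G)))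
    {s : G} (hs : s ∈ S) (h : Inn K s) : CZ K S s := by
  obtain ⟨c, hc, k, hk, rfl⟩ := h
  have hcomm : ∀ k ∈ K, ∀ c ∈ centralizer (K : Set G), k * c = c * k :=
    fun k hk c hc => mem_centralizer_iff.mp hc k hk
  have hkS : k ∈ S ⊓ K := by
    obtain ⟨j, hj⟩ := hS.two ⟨_, hs⟩
    have hj' : (c * k) ^ 2 ^ j = 1 := congrArg Subtype.val hj
    have hkc : Commute c k := (hcomm k hk c hc).symm
    rw [hkc.mul_pow] at hj'
    have h1 : k ^ 2 ^ j = 1 := by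
      have h3 : k ^ 2 ^ j = (c ^ 2 ^ j)⁻¹ := (inv_eq_of_mul_eq_one_right hj').symm
      apply hcen
      · exact pow_mem hk _
      · rw [h3]; exact inv_mem (pow_mem hc _)
    apply BaryEnd.mem_of_syl (syl_inf hS) hk ⟨j, h1⟩
    intro q hq
    have hkqk : k * q * k⁻¹ ∈ K := mul_mem (mul_mem hk hq.2) (inv_mem hk)
    have h6 : c * k * q * (c * k)⁻¹ = k * q * k⁻¹ := by
      calc c * k * q * (c * k)⁻¹ = c * (k * q * k⁻¹) * c⁻¹ := by group
        _ = (k * q * k⁻¹) * c * c⁻¹ := by rw [hcomm _ hkqk c hc]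
        _ = _ := by group
    refine mem_inf.mpr ⟨?_, hkqk⟩
    rw [← h6]
    exact mul_mem (mul_mem hs hq.1) (inv_mem hs)
  intro z hz
  rw [mem_zc] at hz
  have h1 := hz.2 k hkS
  calc c * k * z = c * (k * z) := by group
    _ = (c * z) * k := by rw [h1]; group
    _ = z * (c * k) := by rw [← hcomm z hz.1.2 c hc]; group

/-- **the subgroup of the elements without field part** -/
theorem exists_P (hcen : ∀ x ∈ K, x ∈ centralizer (K : Set G) → x = 1) (hperf : K ≤ ⁅K, K⁆)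
    (hS : IsSyl S (normalizer (K : Set G))) {B : Type*} [CommGroup B] (χ : ↥(normalizer (K : Set G)) →* B)
    (hχ : ∀ c (hc : c ∈ normalizer (K : Set G)), c ∈ centralizer (K : Set G) → χ ⟨c, hc⟩ = 1)
    (hχ2 : ∀ v (hv : v ∈ normalizer (K : Set G)), (∃ k : ℕ, v ^ 2 ^ k = 1) → χ ⟨v, hv⟩ = 1 → Inn K v) :
    ∃ P : Subgroup G, (∀ m ∈ normalizer (K : Set G), ∀ x ∈ P, m * x * m⁻¹ ∈ P) ∧
      centralizer (K : Set G) ≤ P ∧ K ≤ P ∧ ∀ e ∈ S, CZ K S e ↔ e ∈ P := by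
  let S₀ : Subgroup ↥(normalizer (K : Set G)) :=
    { carrier := {s | (s : G) ∈ S ∧ CZ K S s}
      one_mem' := ⟨S.one_mem, fun z _ => by simp⟩
      mul_mem' := fun h1 h2 => ⟨S.mul_mem h1.1 h2.1, h1.2.mul h2.2⟩
      inv_mem' := fun h1 => ⟨S.inv_mem h1.1, h1.2.inv⟩ }
  have hmem : ∀ x (hx : x ∈ normalizer (K : Set G)), (∃ s, ∃ hs : s ∈ S, CZ K S s ∧ χ ⟨s, hS.le hs⟩ = χ ⟨x, hx⟩) ↔
      x ∈ ((S₀.map χ).comap χ).map (normalizer (K : Set G)).subtype := by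
    intro x hx
    constructor
    · rintro ⟨s, hs, hsz, e⟩
      exact ⟨⟨x, hx⟩, ⟨⟨s, hS.le hs⟩, ⟨hs, hsz⟩, e⟩, rfl⟩
    · rintro ⟨y, ⟨s, hs, e⟩, rfl⟩
      exact ⟨s, hs.1, hs.2, e⟩
  refine ⟨((S₀.map χ).comap χ).map (normalizer (K : Set G)).subtype, ?_, ?_, ?_, ?_⟩
  · rintro m hm x hx
    have hxM : x ∈ normalizer (K : Set G) := by
      obtain ⟨y, -, rfl⟩ := hx
      exact y.2
    rw [← hmem x hxM] at hx
    obtain ⟨s, hs, hsz, e⟩ := hx
    rw [← hmem _ (mul_mem (mul_mem hm hxM) (inv_mem hm))]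
    refine ⟨s, hs, hsz, ?_⟩
    have h1 : (⟨m * x * m⁻¹, mul_mem (mul_mem hm hxM) (inv_mem hm)⟩ : ↥(normalizer (K : Set G))) = ⟨m, hm⟩ * ⟨x, hxM⟩ * ⟨m, hm⟩⁻¹ := rfl
    rw [h1, map_mul, map_mul, map_inv, e, mul_comm (χ ⟨m, hm⟩), mul_inv_cancel_right]
  · intro c hc
    have hcM : c ∈ normalizer (K : Set G) := Subgroup.centralizer_le_normalizer (K : Set G) hc
    rw [← hmem c hcM]
    exact ⟨1, one_mem _, fun z _ => by simp, by
      rw [hχ c hcM hc]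
      exact map_one χ⟩
  · have hK : K ≤ (χ.ker).map (normalizer (K : Set G)).subtype := by
      refine hperf.trans ?_
      rw [commutator_le]
      intro a ha b hb
      refine ⟨⁅(⟨a, le_normalizer ha⟩ : ↥(normalizer (K : Set G))), ⟨b, le_normalizer hb⟩⁆, ?_, rfl⟩
      show χ _ = 1
      rw [map_commutatorElement, commutatorElement_eq_one_iff_mul_comm, mul_comm]
    intro k hk
    obtain ⟨y, hy, e⟩ := hK hk
    have hkM : k ∈ normalizer (K : Set G) := le_normalizer hk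
    rw [← hmem k hkM]
    refine ⟨1, one_mem _, fun z _ => by simp, ?_⟩
    have h1 : (⟨k, hkM⟩ : ↥(normalizer (K : Set G))) = y := Subtype.ext e.symm
    rw [h1, MonoidHom.mem_ker.mp hy]
    exact map_one χ
  · intro e he
    rw [← hmem e (hS.le he)]
    constructor
    · intro h
      exact ⟨e, he, h, rfl⟩
    · rintro ⟨s, hs, hsz, h⟩
      have h1 : χ ⟨s⁻¹ * e, hS.le (mul_mem (inv_mem hs) he)⟩ = 1 := by
        have h2 : (⟨s⁻¹ * e, hS.le (mul_mem (inv_mem hs) he)⟩ : ↥(normalizer (K : Set G))) = ⟨s, hS.le hs⟩⁻¹ * ⟨e, hS.le he⟩ := rfl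
        rw [h2, map_mul, map_inv, h, inv_mul_cancel]
      obtain ⟨j, hj⟩ := hS.two ⟨_, mul_mem (inv_mem hs) he⟩
      have h3 := hχ2 _ (hS.le (mul_mem (inv_mem hs) he)) ⟨j, congrArg Subtype.val hj⟩ h1
      have h4 := cz_of_inn hcen hS (mul_mem (inv_mem hs) he) h3
      have h5 := hsz.mul h4
      have e1 : s * (s⁻¹ * e) = e := by group
      rwa [e1] at h5

/-- a maximal member of the family contains a Sylow 2-subgroup of `C(K)` -/
theorem le_of_maxE {E : Subgroup G} (tight : TightAt K)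
    (cen : ∀ x ∈ K, x ∈ centralizer (K : Set G) → x = 1)
    (inner : ∀ T : Subgroup G, IsSyl T (normalizer (K : Set G)) → ∀ y ∈ T,
      (∀ s ∈ T, s ∈ K → s * y = y * s) →
      ∃ k ∈ centralizer (K : Set G), ∃ s ∈ T, s ∈ K ∧ (∀ u ∈ T, u ∈ K → u * s = s * u) ∧ y = k * s)
    (h : MaxE (centralizer (K : Set G)) (normalizer (K : Set G)) E) (hS : IsSyl S (normalizer (K : Set G)))
    (hES : E ≤ S) : S ⊓ centralizer (K : Set G) ≤ E := by
  have hcomm : ∀ k ∈ K, ∀ c ∈ centralizer (K : Set G), k * c = c * k :=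
    fun k hk c hc => mem_centralizer_iff.mp hc k hk
  obtain ⟨a, ha, haM⟩ := h.exists_norm
  by_contra hne
  obtain ⟨h1, h2⟩ := h.main tight hS.two hS.le hES hne
    (fun m hm k hk => (mem_normalizer_iff.mp hm k).mp hk) hcomm
    (fun x hx hxc h2 => by
      rw [cen x hx hxc, orderOf_one] at h2
      exact absurd h2 (by norm_num))
  obtain ⟨x, hxE, hxC, hx2⟩ := h.exists_inv
  obtain ⟨r, hrE, hrC, hr2, hrc⟩ := exists_central_involution (S := E)
    (N := E ⊓ cj a (centralizer (K : Set G)))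
    h.isPGroup (by
      intro s hs n hn
      refine Subgroup.mem_inf.mpr ⟨mul_mem (mul_mem hs hn.1) (inv_mem hs), ?_⟩
      rw [mem_cj]
      have h1 : a⁻¹ * s * a ∈ E := (mem_normalizer_iff''.mp ha s).mp hs
      have h2 := tight.norm _ (h.le h1) _ (mem_cj.mp hn.2)
      have h3 : a⁻¹ * s * a * (a⁻¹ * n * a) * (a⁻¹ * s * a)⁻¹ = a⁻¹ * (s * n * s⁻¹) * a := by
        group
      rwa [h3] at h2)
    ⟨a * x * a⁻¹, (mem_normalizer_iff.mp ha x).mp hxE,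
      ⟨(mem_normalizer_iff.mp ha x).mp hxE, mem_cj_mul hxC⟩, by
        intro h1
        have h2 := Basic.orderOf_conj a x
        rw [h1, orderOf_one, hx2] at h2
        exact absurd h2 (by norm_num)⟩
  obtain ⟨k, hk, s, hsS, hsK, -, hrks⟩ := inner S hS r (hES hrE)
    (fun s hs hsK => hrc s (h1 ⟨hs, hsK⟩))
  have h3 : k = r * s⁻¹ := by rw [hrks]; group
  have h4 : k ∈ S := by
    rw [h3]
    exact S.mul_mem (hES hrE) (S.inv_mem hsS)
  exact h2 a ha haM r hrE hr2 (mem_cj.mp hrC.2) k ⟨h4, hk⟩ s ⟨hsS, hsK⟩ hrks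

/-- **(1B)** -/
theorem exists_fullPair_syl (tight : TightAt K)
    (cen : ∀ x ∈ K, x ∈ centralizer (K : Set G) → x = 1)
    (inner : ∀ T : Subgroup G, IsSyl T (normalizer (K : Set G)) → ∀ y ∈ T,
      (∀ s ∈ T, s ∈ K → s * y = y * s) →
      ∃ k ∈ centralizer (K : Set G), ∃ s ∈ T, s ∈ K ∧ (∀ u ∈ T, u ∈ K → u * s = s * u) ∧ y = k * s)
    (hrk : ∃ a b : G, a ∈ centralizer (K : Set G) ∧ b ∈ centralizer (K : Set G) ∧ orderOf a = 2 ∧
      orderOf b = 2 ∧ a * b = b * a ∧ a ≠ b)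
    (hperf : K ≤ ⁅K, K⁆) (hB : ∀ S : Subgroup G, IsSyl S (normalizer (K : Set G)) → BFacts K S)
    (hpair : ∃ (F : Subgroup G) (g : G), Pair K F g) :
    ∃ L Q U S' : Subgroup G, FullPair K L Q U ∧ IsSyl S' K ∧ S' ≤ normalizer (L : Set G) := by
  obtain ⟨F', g', hF'⟩ := hpair
  obtain ⟨F, h⟩ := exists_kmaxE hF'
  obtain ⟨S, hS, hFS⟩ := exists_isSyl h.maxE.isPGroup h.maxE.le
  have hQ := syl_cen tight hS
  have hQF := le_of_maxE tight cen inner h.maxE hS hFS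
  by_cases hUF : S ⊓ K ≤ F
  · obtain ⟨a, ha, haM⟩ := h.maxE.exists_norm
    have hFL : F ≤ cj a (normalizer (K : Set G)) := by
      intro x hx
      rw [mem_cj]
      exact h.maxE.le ((mem_normalizer_iff''.mp ha x).mp hx)
    refine ⟨cj a K, S ⊓ centralizer (K : Set G), cj a (S ⊓ centralizer (K : Set G)), S ⊓ K,
      ⟨⟨a, haM, rfl⟩, hQ, ?_, ?_⟩, syl_inf hS, ?_⟩
    · rw [centralizer_cj]
      exact hQ.cj a
    · intro q hq u hu
      have hu' := mem_cj.mp hu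
      refine h.maxE.comm_of_mem tight ha haM (hQF hq) hq.2 ?_ hu'.2
      have h1 := (mem_normalizer_iff.mp ha _).mp (hQF hu')
      have h2 : a * (a⁻¹ * u * a) * a⁻¹ = u := by group
      rwa [h2] at h1
    · rw [normalizer_cj]
      exact hUF.trans hFL
  · exfalso
    obtain ⟨⟨B, _, χ, hχ, hχ2⟩, hsq, hcyc, htwo, hflt⟩ := hB S hS
    obtain ⟨P, hPM, hCP, hKP, hP⟩ := exists_P cen hperf hS χ hχ hχ2
    obtain ⟨U, L, hU, hUP, hHF⟩ := hflt F hFS
    have hinn := Hinn.hinn tight h hQ hQF hS.two hS.le hFS hrk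
      (fun a ha b hb ha2 hb2 _ => cyc_two hS.le hcyc (hFS ha) (hFS hb)
        (by rw [ha2]; exact fun z _ => by simp) (by rw [hb2]; exact fun z _ => by simp)) χ hχ2
      (fun a ha b hb hza hzb _ _ _ => htwo a (hFS ha) b (hFS hb) hza hzb)
    have hC : HA.Cyc K S F := fun a ha b hb ha2 hb2 => cyc_two hS.le hcyc (hFS ha) (hFS hb) ha2 hb2
    refine Out.core tight cen h hQ hQF hS.two hS.le hFS hU hPM hCP hKP (fun e he => hP e (hFS he))
      (fun j l hl x hx e he heP => hUP j l hl x hx e he ((hP e (hFS he)).mpr heP)) hinn ?_ χ hχ hχ2 hUF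
    rcases hHF with hHF | hHF
    · exact HA.hA_of_half hU hC hsq hHF
    · exact HA.hA_of_four tight cen h hQ hQF hS.two hS.le hFS hU hC hsq hinn hUF hHF

/-- the family of `KMax` is not empty -/
theorem exists_pair [IsSimpleGroup G] (h1173 : EvenPair.H1173 G) (tight : TightAt K)
    (even : Even (Nat.card ↥(centralizer (K : Set G)))) (hne : K ≠ ⊥) (hp : ⁅K, K⁆ = K) :
    ∃ (F : Subgroup G) (g : G), Pair K F g := by
  obtain ⟨g, hg, r, hr, hr2, hrg⟩ := EvenPair.exists_even h1173 tight even hne hp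
    (fun k hk c hc => mem_centralizer_iff.mp hc k hk)
  obtain ⟨E, hE⟩ := tight.exists_maxE hg hr hr2 hrg
  obtain ⟨a, ha, haM⟩ := hE.exists_norm
  exact ⟨E, a, pair_of_normalizer hE.isPGroup hE.le ha haM hE.exists_inv⟩

/-- **(1B)** in a simple group -/
theorem exists_syl [IsSimpleGroup G] (h1173 : EvenPair.H1173 G) (tight : TightAt K)
    (even : Even (Nat.card ↥(centralizer (K : Set G)))) (cen : ∀ x ∈ K, x ∈ centralizer (K : Set G) → x = 1)
    (inner : ∀ T : Subgroup G, IsSyl T (normalizer (K : Set G)) → ∀ y ∈ T,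
      (∀ s ∈ T, s ∈ K → s * y = y * s) →
      ∃ k ∈ centralizer (K : Set G), ∃ s ∈ T, s ∈ K ∧ (∀ u ∈ T, u ∈ K → u * s = s * u) ∧ y = k * s)
    (hrk : ∃ a b : G, a ∈ centralizer (K : Set G) ∧ b ∈ centralizer (K : Set G) ∧ orderOf a = 2 ∧
      orderOf b = 2 ∧ a * b = b * a ∧ a ≠ b) (hne : K ≠ ⊥) (hp : ⁅K, K⁆ = K)
    (hB : ∀ S : Subgroup G, IsSyl S (normalizer (K : Set G)) → BFacts K S) :
    ∃ L Q U S' : Subgroup G, FullPair K L Q U ∧ IsSyl S' K ∧ S' ≤ normalizer (L : Set G) :=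
  exists_fullPair_syl tight cen inner hrk hp.ge hB (exists_pair h1173 tight even hne hp)

end Main

end Cfsg.Agent.OddHalf.D4.CaseB

end

-- merged: Cfsg.Agent.OddHalf.D4.StartQ
section

/-!
# ODD, D4: the start of every row in characteristic 2 over a field with at least 4 elements

`DataQ K`: what the K-free part gives for a standard component `K` with `Z(K) = 1`, `m_2(C(K)) ≥ 2`, without facts on `K`
(`AutFacts.uniq` is false for these groups), including the fields `std`, `simp`, `core` of `Input.Inp`.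

* `row_of`: a row from a contradiction from `DataQ K`;
* **`row_of_caseB`**: a row from `InnSyl`, `Inp` with `EndHyp`, and `CaseB.BFacts`.
-/

set_option autoImplicit false

namespace Cfsg.Agent.OddHalf.D4.StartQ

open Cfsg Subgroup Cfsg.Agent.OddHalf.D4 Cfsg.Agent.OddHalf.D4.Basic
open Cfsg.Agent.OddHalf.D4.CommConj (Tight cj mem_cj mem_normalizer_of_cj_eq)

universe u

/-- the odd order theorem (S0205) -/
abbrev FTT : Prop := Spor.FTT.{u}

/-- What the K-free part gives. -/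
structure DataQ {G : Type u} [Group G] (K : Subgroup G) : Prop where
  tight : TightAt K
  even : Even (Nat.card ↥(centralizer (K : Set G)))
  cen : ∀ x ∈ K, x ∈ centralizer (K : Set G) → x = 1
  /-- `K` does not commute with its conjugates -/
  std : ∀ g : G, ¬ ∀ k ∈ K, ∀ l ∈ cj g K, k * l = l * k
  simp : ∀ N : Subgroup G, N ≤ K → (∀ k ∈ K, ∀ y ∈ N, k * y * k⁻¹ ∈ N) → N = ⊥ ∨ N = K
  core : ∀ Q : Subgroup G, IsSyl Q (centralizer (K : Set G)) → ∀ P : Subgroup G, P ≤ centralizer (K : Set G) →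
    (∀ x ∈ P, ∀ q ∈ Q, x * q = q * x) → P ≤ ⁅P, P⁆ → P = ⊥
  nocore : NoCore K
  rk : Rk2 K
  nrk : ¬ PRankLE 2 1 ↥(centralizer (K : Set G))
  bal : ∀ t : G, orderOf t = 2 → centralizerPPrimeCore 2 t = ⊥
  stdK : IsStandardSubgroup K
  simple : IsSimpleGroup ↥K
  na : ∃ a ∈ K, ∃ b ∈ K, a * b ≠ b * a
  perf : ⁅K, K⁆ = K
  ne : K ≠ ⊥

/-- `O(C(K)) = 1` -/
theorem nocore_of {G : Type u} [Group G] [Finite G] {K : Subgroup G} (ht : TightAt K)
    (hbal : ∀ t : G, orderOf t = 2 → centralizerPPrimeCore 2 t = ⊥) (hrk : Rk2 K) : NoCore K := by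
  obtain ⟨a, b, ha, hb, ha2, hb2, hab, hne⟩ := hrk
  intro N hN hn hodd
  set C := centralizer (K : Set G) with hC
  let O : Subgroup G := (pPrimeCore 2 ↥C).map C.subtype
  have hOodd : Odd (Nat.card ↥O) := by
    have h1 : Nat.card ↥O = Nat.card ↥(pPrimeCore 2 ↥C) :=
      (Nat.card_congr ((pPrimeCore 2 ↥C).equivMapOfInjective _ C.subtype_injective).toEquiv).symm
    rw [h1]
    exact Nat.coprime_two_right.mp (Cfsg.Agent.Lib.Cores.pPrimeCore_coprime 2)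
  have hOM : ∀ m ∈ normalizer (K : Set G), ∀ o ∈ O, m * o * m⁻¹ ∈ O := by
    intro m hm o ho
    have hnorm : ∀ m ∈ normalizer (K : Set G), ∀ c ∈ C, m * c * m⁻¹ ∈ C := ht.norm
    let e : ↥C ≃* ↥C :=
      { toFun := fun c => ⟨m * c * m⁻¹, hnorm m hm c c.2⟩
        invFun := fun c => ⟨m⁻¹ * c * m, by
          have := hnorm m⁻¹ (inv_mem hm) c c.2
          rwa [inv_inv] at this⟩
        left_inv := fun c => Subtype.ext (by show m⁻¹ * (m * (c : G) * m⁻¹) * m = c; group)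
        right_inv := fun c => Subtype.ext (by show m * (m⁻¹ * (c : G) * m) * m⁻¹ = c; group)
        map_mul' := fun c d => Subtype.ext (by
          show m * ((c : G) * d) * m⁻¹ = m * c * m⁻¹ * (m * d * m⁻¹)
          group) }
    obtain ⟨c, hc, rfl⟩ := ho
    have h1 : e c ∈ pPrimeCore 2 ↥C := by
      rw [← Cfsg.Agent.Lib.Cores.map_equiv_pPrimeCore e 2]
      exact ⟨c, hc, rfl⟩
    exact ⟨e c, h1, rfl⟩
  have hO : O = ⊥ := EvenPair.eq_bot_of_odd ht hbal hOM hOodd ha ha2 hb hb2 hab hne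
  have hNn : (N.subgroupOf C).Normal := by
    refine ⟨?_⟩
    intro n hn' g
    rw [mem_subgroupOf] at hn' ⊢
    exact hn g g.2 n hn'
  have hcard : Nat.card ↥(N.subgroupOf C) = Nat.card ↥N := Nat.card_congr (subgroupOfEquivOfLe hN).toEquiv
  have h1 := Cfsg.Agent.Lib.Cores.le_pPrimeCore (p := 2) hNn (by
    rw [hcard]; exact Nat.coprime_two_right.mpr hodd)
  rw [eq_bot_iff_forall]
  intro x hx
  have h2 : x ∈ O := ⟨⟨x, hN hx⟩, h1 (mem_subgroupOf.mpr hx), rfl⟩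
  rw [hO, mem_bot] at h2
  exact h2

theorem dataQ_of_std (hFT : FTT.{u}) {G : Type u} [Group G] [Finite G]
    (hbal : ∀ t : G, orderOf t = 2 → centralizerPPrimeCore 2 t = ⊥) {K : Subgroup G}
    (hK : IsStandardSubgroup K) (hs : IsSimpleGroup ↥K)
    (hrk : ¬ PRankLE 2 1 ↥(centralizer (K : Set G))) : DataQ K := by
  have ht := EvenPair.tight_of_standard hK
  have hperf : ⁅K, K⁆ = K := by
    have h1 : ⁅(⊤ : Subgroup ↥K), (⊤ : Subgroup ↥K)⁆ = ⊤ := hK.1.1.commutator_eq_top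
    have h2 := congrArg (Subgroup.map K.subtype) h1
    rw [Subgroup.map_commutator, ← MonoidHom.range_eq_map, Subgroup.range_subtype] at h2
    exact h2
  have hne : K ≠ ⊥ := by
    rintro rfl
    have := hs.toNontrivial
    exact not_subsingleton ↥(⊥ : Subgroup G) inferInstance
  have hna : ∃ a ∈ K, ∃ b ∈ K, a * b ≠ b * a := by
    by_contra hcon
    push Not at hcon
    apply hne
    rw [← hperf, commutator_eq_bot_iff_le_centralizer]
    intro x hx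
    rw [mem_centralizer_iff]
    intro y hy
    exact hcon y hy x hx
  have hsimp : ∀ N : Subgroup G, N ≤ K → (∀ k ∈ K, ∀ y ∈ N, k * y * k⁻¹ ∈ N) → N = ⊥ ∨ N = K := by
    intro N hN hn
    have h1 : (N.subgroupOf K).Normal := by
      refine ⟨?_⟩
      intro n hn' g
      rw [mem_subgroupOf] at hn' ⊢
      exact hn g g.2 n hn'
    rcases h1.eq_bot_or_eq_top with h2 | h2
    · left
      rw [eq_bot_iff_forall]
      intro x hx
      have h3 : (⟨x, hN hx⟩ : ↥K) ∈ N.subgroupOf K := mem_subgroupOf.mpr hx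
      rw [h2, mem_bot] at h3
      exact congrArg Subtype.val h3
    · right
      apply le_antisymm hN
      intro x hx
      have h3 : (⟨x, hx⟩ : ↥K) ∈ N.subgroupOf K := by rw [h2]; exact mem_top _
      exact mem_subgroupOf.mp h3
  have hcen : ∀ x ∈ K, x ∈ centralizer (K : Set G) → x = 1 := by
    intro x hx hxc
    rcases hsimp (K ⊓ centralizer (K : Set G)) inf_le_left (by
      rintro k hk y ⟨hy, hyc⟩
      have h1 : k * y * k⁻¹ = y := by
        rw [mem_centralizer_iff.mp hyc k hk]; group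
      rw [h1]
      exact ⟨hy, hyc⟩) with h1 | h1
    · have h2 : x ∈ K ⊓ centralizer (K : Set G) := ⟨hx, hxc⟩
      rwa [h1, mem_bot] at h2
    · exfalso
      obtain ⟨a, ha, b, hb, hab⟩ := hna
      have h2 : b ∈ K ⊓ centralizer (K : Set G) := by rw [h1]; exact hb
      exact hab (mem_centralizer_iff.mp h2.2 a ha)
  have hrk2 : Rk2 K := by
    obtain ⟨a, b, ha, hb, ha2, hb2, hab, hne2⟩ := EvenPair.exists_two_of_not_pRankLE hrk
    exact ⟨a, b, ha, hb, ha2, hb2, hab, hne2⟩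
  refine ⟨ht, hK.2.1.1, hcen, ?_, hsimp, ?_, nocore_of ht hbal hrk2, hrk2, hrk, hbal, hK, hs, hna, hperf, hne⟩
  · intro g hg
    by_cases h1 : K.map (MulAut.conj g).toMonoidHom = K
    · obtain ⟨a, ha, b, hb, hab⟩ := hna
      apply hab
      have h2 : b ∈ cj g K := by
        show b ∈ K.map (MulAut.conj g).toMonoidHom
        rw [h1]; exact hb
      exact hg a ha b h2
    · apply hK.2.2.1 g h1
      rw [commutator_eq_bot_iff_le_centralizer]
      intro a ha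
      rw [mem_centralizer_iff]
      intro b hb
      exact (hg a ha b hb).symm
  · intro Q hQ P hP hc hPP
    exact Spor.eq_bot_of_perfect hFT hQ le_rfl (by omega) hP hc (le_antisymm (commutator_le_self P) hPP)

theorem dataQ (hFT : FTT.{u}) {G : Type u} [Group G] (hG : Iface.Ctx G) {K : Subgroup G} (hK : Iface.Std G K)
    (hrk : ¬ PRankLE 2 1 ↥(centralizer (K : Set G))) (hz : center ↥K = ⊥) : DataQ K := by
  have := hG.fin
  exact dataQ_of_std hFT hG.bal hK.std (Start.isSimple_of_center hK.simple hz) hrk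

/-- (F1) in `G` -/
theorem inner_of_innSyl {G : Type u} [Group G] [Finite G] {K : Subgroup G} (hF : KPairG.InnSyl ↥K) :
    ∀ T : Subgroup G, IsSyl T (normalizer (K : Set G)) → ∀ y ∈ T, (∀ s ∈ T, s ∈ K → s * y = y * s) →
      ∃ k ∈ centralizer (K : Set G), ∃ s ∈ T, s ∈ K ∧ (∀ u ∈ T, u ∈ K → u * s = s * u) ∧ y = k * s :=
  fun _ hT _ hy hc => KPairG.innerIn hF hT hy hc

theorem h1173_of (h1173 : Start.P1173.{u}) {G : Type u} [Group G] (hG : Iface.Ctx G) {K : Subgroup G}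
    (hD : DataQ K) : EvenPair.H1173 G := by
  have := hG.fin
  have := hG.simple
  obtain ⟨a, b, -, -, ha2, -⟩ := hD.rk
  exact h1173 G (Start.oddCore_eq_bot ha2)

/-- existence of a full pair -/
theorem DataQ.fullPair (h1173 : Start.P1173.{u}) {G : Type u} [Group G] (hG : Iface.Ctx G) {K : Subgroup G}
    (hD : DataQ K) (hF : KPairG.InnSyl ↥K) : ∃ L Q U : Subgroup G, FullPair K L Q U := by
  have := hG.fin
  have := hG.simple
  exact KPairG.exists_fullPair (h1173_of h1173 hG hD) hD.tight hD.even hD.cen hF hD.ne hD.perf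

/-- **a row from a contradiction from `DataQ`** -/
theorem row_of (hFT : FTT.{u}) {P : (K : Type u) → [Group K] → Prop}
    (h : ∀ (G : Type u) [Group G], Iface.Ctx G → ∀ K : Subgroup G, Iface.Std G K → DataQ K → P ↥K → False) :
    Cut.Row1.{u} P :=
  fun G _ hG K hK hrk hz hP => h G hG K hK (dataQ hFT hG hK hrk hz) hP

/-- **a row from a contradiction for full pairs** -/
theorem row_of_pair (h1173 : Start.P1173.{u}) (hFT : FTT.{u}) {P : (K : Type u) → [Group K] → Prop}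
    (hF : ∀ (X : Type u) [Group X] [Finite X] [IsSimpleGroup X], P X → KPairG.InnSyl X)
    (h : ∀ (G : Type u) [Group G], Iface.Ctx G → ∀ K L Q U : Subgroup G, Iface.Std G K → DataQ K →
      FullPair K L Q U → P ↥K → False) : Cut.Row1.{u} P := by
  refine row_of hFT ?_
  intro G _ hG K hK hD hP
  have := hG.fin
  have := hD.simple
  obtain ⟨L, Q, U, hp⟩ := hD.fullPair h1173 hG (hF ↥K hP)
  exact h G hG K L Q U hK hD hp hP

/-- **a row from `BFacts`, `Inp` and the end** -/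
theorem row_of_caseB (h1173 : Start.P1173.{u}) (hFT : FTT.{u}) {P : (K : Type u) → [Group K] → Prop}
    (hF : ∀ (X : Type u) [Group X] [Finite X] [IsSimpleGroup X], P X → KPairG.InnSyl X)
    (hend : ∀ (G : Type u) [Group G], Iface.Ctx G → ∀ K : Subgroup G, Iface.Std G K → DataQ K → P ↥K →
      ∃ S X H : Subgroup G, Input.Inp K S X H ∧ Input.EndHyp K X)
    (hB : ∀ (G : Type u) [Group G], Iface.Ctx G → ∀ K : Subgroup G, Iface.Std G K → DataQ K → P ↥K →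
      ∀ S : Subgroup G, IsSyl S (normalizer (K : Set G)) → CaseB.BFacts K S) : Cut.Row1.{u} P := by
  refine row_of hFT ?_
  intro G _ hG K hK hD hP
  have := hG.fin
  have := hG.simple
  have := hD.simple
  obtain ⟨S, X, H, hI, hE⟩ := hend G hG K hK hD hP
  obtain ⟨L, Q, U, S', hp, hS', hS'L⟩ := CaseB.exists_syl (h1173_of h1173 hG hD) hD.tight hD.even hD.cen
    (inner_of_innSyl (hF ↥K hP)) hD.rk hD.ne hD.perf (hB G hG K hK hD hP)
  exact hI.no_full hE hD.nrk hp hS' hS'L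

end Cfsg.Agent.OddHalf.D4.StartQ

end
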